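import Cfsg.Agent.OddChar.Coherence.Above
import Cfsg.Agent.Lib.Coprime.PGroup

/-!
# Reductions for coherence when `L / K'M` is a Frobenius group of odd order
-/

set_option linter.style.haveILetI false
set_option linter.unusedSectionVars false

namespace Cfsg.Agent.OddChar.Coherence

open Cfsg.Agent.Characters Cfsg.Agent.OddChar.Isometry
open scoped commutatorElement

universe u v

section Group

variable {Q : Type*} [Group Q] [Finite Q]

/-- A fixed-point-free action divides the number of non-identity elements. -/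
theorem frob_dvd (K N : Subgroup Q) [N.Normal] (hN : N ≤ K)
    (hcomm : ∀ a ∈ K, ∀ b ∈ K, a * b = b * a)
    (hfix : ∀ y ∈ K, y ≠ 1 → ∀ x : Q, x * y * x⁻¹ = y → x ∈ K) :
    K.index ∣ Nat.card N - 1 := by
  classical
  let X := {y : N // y ≠ 1}
  letI : MulAction Q X :=
    { smul := fun x y => ⟨⟨x * (y.1 : Q) * x⁻¹, ‹N.Normal›.conj_mem _ y.1.2 x⟩, fun e => y.2 (by
        have h : x * (y.1 : Q) * x⁻¹ = 1 := congrArg Subtype.val e
        exact Subtype.ext (conj_eq_one_iff.1 h))⟩
      one_smul := fun y => Subtype.ext (Subtype.ext (by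
        show (1 : Q) * (y.1 : Q) * 1⁻¹ = _; simp))
      mul_smul := fun a b y => Subtype.ext (Subtype.ext (by
        show a * b * (y.1 : Q) * (a * b)⁻¹ = a * (b * (y.1 : Q) * b⁻¹) * a⁻¹; group)) }
  have hstab : ∀ y : X, MulAction.stabilizer Q y = K := by
    intro y
    ext x
    rw [MulAction.mem_stabilizer_iff]
    constructor
    · intro h
      exact hfix _ (hN y.1.2) (fun e => y.2 (Subtype.ext e)) x
        (congrArg (fun z : X => (z.1 : Q)) h)
    · intro h
      refine Subtype.ext (Subtype.ext ?_)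
      show x * (y.1 : Q) * x⁻¹ = _
      rw [hcomm x h _ (hN y.1.2), mul_inv_cancel_right]
  haveI := Fintype.ofFinite (MulAction.orbitRel.Quotient Q X)
  have hc := Nat.card_congr (MulAction.selfEquivSigmaOrbitsQuotientStabilizer Q X)
  rw [Nat.card_sigma] at hc
  simp only [hstab] at hc
  rw [Finset.sum_const, smul_eq_mul, ← Subgroup.index_eq_card] at hc
  have h2 : Nat.card X = Nat.card N - 1 := by
    haveI := Fintype.ofFinite N
    rw [Nat.card_eq_fintype_card, Nat.card_eq_fintype_card,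
      Fintype.card_subtype_compl fun y : N => y = 1, Fintype.card_subtype_eq]
  exact ⟨_, by rw [← h2, hc, mul_comm]⟩

/-- An odd number above `1` that is `1` modulo the odd number `e` is at least `2e + 1`. -/
theorem two_mul_add_one_le {e a : ℕ} (he : Odd e) (ha : Odd a) (h1 : 1 < a) (h : e ∣ a - 1) :
    2 * e + 1 ≤ a := by
  obtain ⟨k, hk⟩ := h
  obtain ⟨r, rfl⟩ := ha
  have h2 : 2 ∣ e * k := ⟨r, by omega⟩
  have hk2 : 2 ∣ k := (Nat.Coprime.dvd_of_dvd_mul_left (Nat.coprime_two_left.2 he) h2)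
  obtain ⟨j, rfl⟩ := hk2
  rcases Nat.eq_zero_or_pos j with rfl | hj
  · omega
  · have h3 : 2 * r = e * (2 * j) := by omega
    have h4 : e * 1 ≤ e * j := Nat.mul_le_mul_left e hj
    nlinarith

/-- A Frobenius kernel that is not a chief factor is large. -/
theorem big_of_proper (hodd : Odd (Nat.card Q)) (K N : Subgroup Q) [K.Normal] [N.Normal]
    (hK : K ≠ ⊤) (hN1 : N ≠ ⊥) (hN : N < K)
    (hcomm : ∀ a ∈ K, ∀ b ∈ K, a * b = b * a)
    (hfix : ∀ y ∈ K, y ≠ 1 → ∀ x : Q, x * y * x⁻¹ = y → x ∈ K) :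
    4 * K.index ^ 2 + 1 < Nat.card K := by
  set e := K.index
  have he : Odd e := hodd.of_dvd_nat K.index_dvd_card
  have he3 : 1 < e := K.one_lt_index_of_ne_top hK
  have hn := frob_dvd K N hN.le hcomm hfix
  have hk := frob_dvd K K le_rfl hcomm hfix
  have hmul : Nat.card N * N.relIndex K = Nat.card K := by
    rw [← Subgroup.relIndex_bot_left, ← Subgroup.relIndex_bot_left]
    exact Subgroup.relIndex_mul_relIndex _ _ _ bot_le hN.le
  have hb1 : 1 < N.relIndex K := by
    refine Nat.lt_of_le_of_ne (Nat.pos_of_ne_zero Subgroup.index_ne_zero_of_finite) fun h => ?_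
    exact hN.not_ge (Subgroup.relIndex_eq_one.1 h.symm)
  have hn1 : 1 < Nat.card N := Subgroup.one_lt_card_iff_ne_bot N |>.2 hN1
  have hn' := two_mul_add_one_le he (hodd.of_dvd_nat N.card_subgroup_dvd_card) hn1 hn
  have hb : e ∣ N.relIndex K - 1 := by
    have h1 := Nat.ModEq.symm ((Nat.modEq_iff_dvd' hn1.le).2 hn)
    have h2 := Nat.ModEq.symm ((Nat.modEq_iff_dvd' (Nat.card_pos (α := K))).2 hk)
    rw [← hmul] at h2
    have h3 := h1.mul_right (N.relIndex K)
    rw [one_mul] at h3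
    exact (Nat.modEq_iff_dvd' hb1.le).1 (h3.symm.trans h2).symm
  have hbo : Odd (N.relIndex K) :=
    hodd.of_dvd_nat ((Dvd.intro_left _ hmul).trans K.card_subgroup_dvd_card)
  have hb' := two_mul_add_one_le he hbo hb1 hb
  rw [← hmul]
  have h4 := Nat.mul_le_mul hn' hb'
  nlinarith

/-- A prime dividing the order of a nilpotent group divides the order of its abelianisation. -/
theorem prime_dvd_index_commutator [Group.IsNilpotent Q] {q : ℕ} (hq : q.Prime)
    (h : q ∣ Nat.card Q) : q ∣ (commutator Q).index := by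
  by_contra hnd
  haveI := Fact.mk hq
  obtain P : Sylow q Q := default
  haveI : (P : Subgroup Q).Normal := inferInstance
  have hP : (P : Subgroup Q) ≤ commutator Q := by
    intro x hx
    rw [← QuotientGroup.eq_one_iff (N := commutator Q), ← orderOf_eq_one_iff]
    have h1 : orderOf (QuotientGroup.mk' (commutator Q) x) ∣ Nat.card (P : Subgroup Q) :=
      (orderOf_map_dvd _ x).trans (Subgroup.orderOf_dvd_natCard _ hx)
    have h2 : orderOf (QuotientGroup.mk' (commutator Q) x) ∣ (commutator Q).index := by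
      rw [Subgroup.index_eq_card]; exact orderOf_dvd_natCard _
    rw [P.card_eq_multiplicity] at h1
    exact Nat.eq_one_of_dvd_coprimes
      ((Nat.Coprime.pow_left _ ((hq.coprime_iff_not_dvd).2 hnd))) h1 h2
  obtain ⟨H, hH⟩ := Subgroup.exists_right_complement'_of_coprime (N := (P : Subgroup Q))
    (by
      rw [P.card_eq_multiplicity]
      exact Nat.Coprime.pow_left _ ((hq.coprime_iff_not_dvd).2 P.not_dvd_index))
  have htop : H ⊔ frattini Q = ⊤ := top_le_iff.1 (hH.sup_eq_top ▸ sup_le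
    ((hP.trans (Coprime.commutator_le_frattini Q)).trans le_sup_right) le_sup_left)
  rw [frattini_nongenerating htop] at hH
  exact P.ne_bot_of_dvd_card h (Subgroup.isComplement'_top_right.1 hH)

/-- A nilpotent group with abelianisation of prime order is abelian. -/
theorem comm_of_prime_index [Group.IsNilpotent Q] (h : (commutator Q).index.Prime) (a b : Q) :
    a * b = b * a := by
  obtain ⟨x, hx⟩ : ∃ x, x ∉ commutator Q := by
    by_contra hc
    push Not at hc
    rw [(Subgroup.eq_top_iff' _).2 hc, Subgroup.index_top] at h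
    exact Nat.not_prime_one h
  have h2 : commutator Q ⊔ Subgroup.zpowers x = ⊤ := by
    rcases (Nat.dvd_prime h).1 (Subgroup.index_dvd_of_le (le_sup_left (a := commutator Q)
      (b := Subgroup.zpowers x))) with e | e
    · exact Subgroup.index_eq_one.1 e
    · refine absurd (show x ∈ commutator Q ⊔ Subgroup.zpowers x from
        Subgroup.mem_sup_right (Subgroup.mem_zpowers x)) ?_
      have hle := (le_sup_left (a := commutator Q) (b := Subgroup.zpowers x))
      have hrel := Subgroup.relIndex_mul_index hle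
      rw [e] at hrel
      have h1 : (commutator Q).relIndex (commutator Q ⊔ Subgroup.zpowers x) = 1 :=
        Nat.eq_of_mul_eq_mul_right h.pos (hrel.trans (one_mul _).symm)
      exact fun hm => hx (Subgroup.relIndex_eq_one.1 h1 hm)
  have h3 : Subgroup.zpowers x ⊔ frattini Q = ⊤ := top_le_iff.1 (h2 ▸ sup_le
    ((Coprime.commutator_le_frattini Q).trans le_sup_right) le_sup_left)
  have h4 := frattini_nongenerating h3
  obtain ⟨i, rfl⟩ := Subgroup.mem_zpowers_iff.1 (h4 ▸ Subgroup.mem_top a)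
  obtain ⟨j, rfl⟩ := Subgroup.mem_zpowers_iff.1 (h4 ▸ Subgroup.mem_top b)
  exact ((Commute.refl x).zpow_zpow i j).eq

end Group

variable {L : Type u} [Group L] [Fintype L] {G : Type v} [Group G] [Fintype G]
variable (K : Subgroup L) [hK : K.Normal] {τ : (L → ℂ) → (G → ℂ)} {R : (L → ℂ) → Finset (G → ℂ)}

/-- `S(H₁)` is coherent when `K / H₁` is abelian. -/
theorem coherent_abelian (hsolv : Group.IsSolvable K)
    (hS : Cfsg.IsCoherenceSystem (Cfsg.inducedIrrAbove K ⊥) τ R)
    (H₁ : Subgroup L) [H₁.Normal] (hH₁K : H₁ < K) (hab : ⁅K, K⁆ ≤ H₁) :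
    Cfsg.IsCoherent (Cfsg.inducedIrrAbove K H₁) {1}ᶜ τ := by
  obtain ⟨θ₁, hθ₁, hθ₁ne, -, hθ₁H⟩ := exists_linear_above K hsolv hH₁K
  refine coherent_of_equal_degree (subsystem hS (above_mono K bot_le)
    ⟨_, θ₁, hθ₁, hθ₁ne, hθ₁H, rfl⟩ fun φ => above_conj K H₁) ?_
  have hdeg : ∀ φ ∈ Cfsg.inducedIrrAbove K H₁, φ 1 = (K.index : ℂ) := by
    rintro φ ⟨θ, hθ, -, hker, rfl⟩
    obtain ⟨ψ, -, hψ, hψi⟩ := exists_deflate_quotient (H₁.subgroupOf K)
      (isCharacter_of_isIrr hθ) fun x hx => hker x hx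
    have hcomm : ∀ a b : K ⧸ H₁.subgroupOf K, a * b = b * a := by
      intro a b
      obtain ⟨a, rfl⟩ := QuotientGroup.mk'_surjective _ a
      obtain ⟨b, rfl⟩ := QuotientGroup.mk'_surjective _ b
      rw [← map_mul, ← map_mul]
      refine QuotientGroup.eq.2 (hab ?_)
      have := Subgroup.commutator_mem_commutator (H₁ := K) (H₂ := K)
        (K.inv_mem b.2) (K.inv_mem a.2)
      simpa [commutatorElement_def, mul_assoc, Subgroup.mem_subgroupOf] using this
    have h1 := irr_degree_one_of_comm hcomm (hψi hθ)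
    rw [← QuotientGroup.mk_one, hψ 1] at h1
    rw [indFun_one, h1, mul_one]
  exact fun φ hφ ψ hψ => (hdeg φ hφ).trans (hdeg ψ hψ).symm

set_option maxHeartbeats 1000000 in
/-- The cases in which `S(M)` is coherent for `L / K'M` Frobenius of odd order. -/
theorem coherent_reduce (hsolv : Group.IsSolvable K)
    (hS : Cfsg.IsCoherenceSystem (Cfsg.inducedIrrAbove K ⊥) τ R) (hodd : Odd (Nat.card L))
    (M : Subgroup L) [M.Normal] (hMK : M ≤ K) [(M.subgroupOf K).Normal]
    (hnil : Group.IsNilpotent (K ⧸ M.subgroupOf K))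
    (H₁ : Subgroup L) (hH₁ : H₁ = ⁅K, K⁆ ⊔ M) (hH₁K : H₁ < K) (hKL : K < ⊤)
    (hfrob : ∀ k ∈ K, k ∉ H₁ → ∀ x : L, x * k * x⁻¹ * k⁻¹ ∈ H₁ → x ∈ K)
    (hgood : (∃ N : Subgroup L, N.Normal ∧ H₁ < N ∧ N < K) ∨
      4 * K.index ^ 2 + 1 < H₁.relIndex K ∨ (¬ ∃ p m : ℕ, p.Prime ∧ M.relIndex K = p ^ m) ∨
      ⁅K, K⁆ ≤ M ∨ (∃ p m : ℕ, p.Prime ∧ M.relIndex K = p ^ m ∧ K.index ∣ p - 1)) :
    Cfsg.IsCoherent (Cfsg.inducedIrrAbove K M) {1}ᶜ τ := by
  classical
  haveI : H₁.Normal := by rw [hH₁]; infer_instance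
  have hab : ⁅K, K⁆ ≤ H₁ := hH₁ ▸ le_sup_left
  have hMH₁ : M ≤ H₁ := hH₁ ▸ le_sup_right
  have hbase := coherent_abelian K hsolv hS H₁ hH₁K hab
  have hbigcase : 4 * K.index ^ 2 + 1 < H₁.relIndex K →
      Cfsg.IsCoherent (Cfsg.inducedIrrAbove K M) {1}ᶜ τ :=
    coherent_nilpotent K hsolv hS hMH₁ hH₁K.le le_rfl hnil hbase
  have habcase : ⁅K, K⁆ ≤ M → Cfsg.IsCoherent (Cfsg.inducedIrrAbove K M) {1}ᶜ τ := by
    intro h
    rw [hH₁, sup_eq_right.2 h] at hbase
    exact hbase
  -- the Frobenius quotient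
  set π := QuotientGroup.mk' H₁
  have hπ : Function.Surjective π := QuotientGroup.mk'_surjective _
  set Kb := K.map π
  haveI : Kb.Normal := hK.map π hπ
  have hcomap : Kb.comap π = K := by
    rw [Subgroup.comap_map_eq, QuotientGroup.ker_mk', sup_eq_left.2 hH₁K.le]
  have hidx : Kb.index = K.index := by
    rw [← Subgroup.index_comap_of_surjective Kb hπ, hcomap]
  have hcard : Nat.card Kb = H₁.relIndex K := by
    conv_rhs => rw [← QuotientGroup.ker_mk' H₁]
    exact (Subgroup.relIndex_ker (K := K) π).symm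
  have hcomm : ∀ a ∈ Kb, ∀ b ∈ Kb, a * b = b * a := by
    rintro - ⟨a, ha, rfl⟩ - ⟨b, hb, rfl⟩
    rw [← map_mul, ← map_mul]
    refine QuotientGroup.eq.2 (hab ?_)
    simpa [commutatorElement_def, mul_assoc] using Subgroup.commutator_mem_commutator
      (H₁ := K) (H₂ := K) (K.inv_mem hb) (K.inv_mem ha)
  have hfix : ∀ y ∈ Kb, y ≠ 1 → ∀ x, x * y * x⁻¹ = y → x ∈ Kb := by
    rintro - ⟨k, hk, rfl⟩ hk1 x hx
    obtain ⟨x, rfl⟩ := hπ x
    refine ⟨x, hfrob k hk (fun h => hk1 ((QuotientGroup.eq_one_iff k).2 h)) x ?_, rfl⟩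
    refine (QuotientGroup.eq_one_iff _).1 ?_
    show π (x * k * x⁻¹ * k⁻¹) = 1
    rw [map_mul, map_mul, map_mul, map_inv, map_inv, hx, mul_inv_cancel]
  have hoddQ : Odd (Nat.card (L ⧸ H₁)) :=
    hodd.of_dvd_nat (Subgroup.card_dvd_of_surjective π hπ)
  have hKb : Kb ≠ ⊤ := fun e => hKL.ne (by rw [← hcomap, e, Subgroup.comap_top])
  have hchief : (∃ N : Subgroup (L ⧸ H₁), N.Normal ∧ N ≠ ⊥ ∧ N < Kb) →
      Cfsg.IsCoherent (Cfsg.inducedIrrAbove K M) {1}ᶜ τ := by
    rintro ⟨N, hN, hN1, hNK⟩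
    have h := big_of_proper hoddQ Kb N hKb hN1 hNK hcomm hfix
    rw [hidx, hcard] at h
    exact hbigcase h
  haveI := hnil
  -- the abelianisation of `K / M`
  have hcQ : (commutator (K ⧸ M.subgroupOf K)).index = H₁.relIndex K := by
    have e : H₁.subgroupOf K = commutator K ⊔ M.subgroupOf K := by
      rw [hH₁, Subgroup.subgroupOf_sup (Subgroup.commutator_le_left K K) hMK]
      congr 1
      rw [Subgroup.subgroupOf, ← Subgroup.map_subtype_commutator,
        Subgroup.comap_map_eq_self_of_injective (Subgroup.subtype_injective K)]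
    show _ = (H₁.subgroupOf K).index
    rw [← Subgroup.index_map_eq (H₁.subgroupOf K)
      (QuotientGroup.mk'_surjective (M.subgroupOf K))
      (by rw [QuotientGroup.ker_mk']; exact fun x hx => hMH₁ hx)]
    congr 1
    rw [e, Subgroup.map_sup, QuotientGroup.map_mk'_self, sup_bot_eq, commutator_def,
      commutator_def, Subgroup.map_commutator,
      Subgroup.map_top_of_surjective _ (QuotientGroup.mk'_surjective _)]
  rcases hgood with ⟨N, hN, hN1, hNK⟩ | h | h | h | ⟨p, m, hp, hpm, hdvd⟩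
  · haveI := hN
    refine hchief ⟨N.map π, hN.map π hπ, fun e => hN1.not_ge fun x hx => ?_, ?_⟩
    · exact (QuotientGroup.eq_one_iff x).1 ((Subgroup.mem_bot).1 (e ▸ Subgroup.mem_map_of_mem π hx))
    · refine lt_of_le_not_ge (Subgroup.map_mono hNK.le) fun h => hNK.not_ge ?_
      have := Subgroup.comap_mono (f := π) h
      rwa [hcomap, Subgroup.comap_map_eq, QuotientGroup.ker_mk', sup_eq_left.2 hN1.le] at this
  · exact hbigcase h
  · -- two primes
    have hne1 : M.relIndex K ≠ 1 := fun e => hH₁K.not_ge ((Subgroup.relIndex_eq_one.1 e).trans hMH₁)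
    obtain ⟨p, hp, hpd⟩ := Nat.exists_prime_and_dvd hne1
    obtain ⟨q, hq, hqd, hqp⟩ : ∃ q, q.Prime ∧ q ∣ M.relIndex K ∧ q ≠ p := by
      by_contra hc
      push Not at hc
      exact h ⟨p, _, hp, Nat.eq_prime_pow_of_unique_prime_dvd
        (Nat.pos_of_ne_zero Subgroup.index_ne_zero_of_finite).ne' fun {d} hd hdd => hc d hd hdd⟩
    haveI := Fact.mk hp
    have hdiv : ∀ r : ℕ, r.Prime → r ∣ M.relIndex K → r ∣ Nat.card Kb := by
      intro r hr hrd
      rw [hcard, ← hcQ]
      exact prime_dvd_index_commutator hr (by rwa [← Subgroup.index_eq_card])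
    haveI : IsMulCommutative Kb := ⟨⟨fun a b => Subtype.ext (hcomm a a.2 b b.2)⟩⟩
    obtain P : Sylow p Kb := default
    haveI : (P : Subgroup Kb).Normal := ⟨fun x hx g => by rwa [mul_comm' g x, mul_inv_cancel_right]⟩
    haveI := Sylow.characteristic_of_normal P inferInstance
    refine hchief ⟨(P : Subgroup Kb).map Kb.subtype, ConjAct.normal_of_characteristic_of_normal,
      ?_, ?_⟩
    · intro e
      rw [Subgroup.map_eq_bot_iff_of_injective _ Kb.subtype_injective] at e
      exact P.ne_bot_of_dvd_card (hdiv p hp hpd) e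
    · refine lt_of_le_of_ne (Subgroup.map_subtype_le _) fun e => ?_
      have h1 : Nat.card (P : Subgroup Kb) = Nat.card Kb := by
        rw [← Subgroup.card_map_of_injective Kb.subtype_injective, e]
      obtain ⟨j, hj⟩ := P.2.exists_card_eq
      have h2 := hdiv q hq hqd
      rw [← h1, hj] at h2
      exact hqp ((Nat.prime_dvd_prime_iff_eq hq hp).1 (hq.dvd_of_dvd_pow h2))
  · exact habcase h
  · -- `e ∣ p - 1`
    obtain ⟨a, -, ha⟩ := (Nat.dvd_prime_pow hp).1
      (show H₁.relIndex K ∣ p ^ m from hpm ▸ Subgroup.relIndex_dvd_of_le_left K hMH₁)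
    have ha1 : a ≠ 0 := fun e => hH₁K.not_ge (Subgroup.relIndex_eq_one.1 (by rw [ha, e, pow_zero]))
    have hpodd : Odd p := by
      refine hodd.of_dvd_nat ?_
      exact ((dvd_pow_self p ha1).trans (ha ▸ Subgroup.relIndex_dvd_card H₁ K)).trans
        K.card_subgroup_dvd_card
    have hp1 := two_mul_add_one_le (hodd.of_dvd_nat K.index_dvd_card) hpodd hp.one_lt hdvd
    rcases Nat.lt_or_ge a 2 with ha2 | ha2
    · -- cyclic abelianisation
      apply habcase
      have hprime : (commutator (K ⧸ M.subgroupOf K)).index.Prime := by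
        rw [hcQ, ha, show a = 1 by omega, pow_one]; exact hp
      rw [Subgroup.commutator_le]
      intro x hx y hy
      have h := comm_of_prime_index hprime (QuotientGroup.mk' _ ⟨x, hx⟩) (QuotientGroup.mk' _ ⟨y, hy⟩)
      have h' : ((⟨x, hx⟩ * ⟨y, hy⟩ * ⟨x, hx⟩⁻¹ * ⟨y, hy⟩⁻¹ : K) : K) ∈ M.subgroupOf K := by
        rw [← QuotientGroup.eq_one_iff (N := M.subgroupOf K)]
        show QuotientGroup.mk' (M.subgroupOf K) _ = 1
        rw [map_mul, map_mul, map_mul, map_inv, map_inv, h]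
        simp
      exact h'
    · refine hbigcase ?_
      have h2 : p ^ 2 ≤ p ^ a := Nat.pow_le_pow_right hp.pos ha2
      have h3 := Nat.pow_le_pow_left hp1 2
      have he : 0 < K.index := Nat.pos_of_ne_zero Subgroup.index_ne_zero_of_finite
      rw [ha]
      nlinarith

end Cfsg.Agent.OddChar.Coherence
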