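import Cfsg.Agent.OddChar.Coherence.Reduce
import Cfsg.Agent.Lib.Characters.Integrality

/-!
# Coherence of the characters nontrivial on a central subgroup of the kernel
-/

set_option linter.style.haveILetI false
set_option linter.unusedSectionVars false

namespace Cfsg.Agent.OddChar.Coherence

open Cfsg.Agent.Characters Cfsg.Agent.OddChar.Isometry
open scoped commutatorElement

universe u v

variable {L : Type u} [Group L] [Fintype L] {G : Type v} [Group G] [Fintype G]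
variable (K : Subgroup L) [hK : K.Normal]

/-- The complement of a Frobenius quotient divides the kernel order minus one. -/
theorem index_dvd_relIndex_sub_one (H₁ : Subgroup L) [H₁.Normal] (hH₁K : H₁ ≤ K) (hab : ⁅K, K⁆ ≤ H₁)
    (hfrob : ∀ k ∈ K, k ∉ H₁ → ∀ x : L, x * k * x⁻¹ * k⁻¹ ∈ H₁ → x ∈ K) :
    K.index ∣ H₁.relIndex K - 1 := by
  set π := QuotientGroup.mk' H₁
  have hπ : Function.Surjective π := QuotientGroup.mk'_surjective _
  haveI : (K.map π).Normal := hK.map π hπ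
  have hcomap : (K.map π).comap π = K := by
    rw [Subgroup.comap_map_eq, QuotientGroup.ker_mk', sup_eq_left.2 hH₁K]
  have h := frob_dvd (K.map π) (K.map π) le_rfl (by
      rintro - ⟨a, ha, rfl⟩ - ⟨b, hb, rfl⟩
      rw [← map_mul, ← map_mul]
      refine QuotientGroup.eq.2 (hab ?_)
      simpa [commutatorElement_def, mul_assoc] using Subgroup.commutator_mem_commutator
        (H₁ := K) (H₂ := K) (K.inv_mem hb) (K.inv_mem ha))
    (by
      rintro - ⟨k, hk, rfl⟩ hk1 x hx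
      obtain ⟨x, rfl⟩ := hπ x
      refine ⟨x, hfrob k hk (fun h => hk1 ((QuotientGroup.eq_one_iff k).2 h)) x ?_, rfl⟩
      refine (QuotientGroup.eq_one_iff _).1 ?_
      show π (x * k * x⁻¹ * k⁻¹) = 1
      rw [map_mul, map_mul, map_mul, map_inv, map_inv, hx, mul_inv_cancel])
  rw [← Subgroup.index_comap_of_surjective (K.map π) hπ, hcomap,
    ← Subgroup.relIndex_ker (K := K) π, QuotientGroup.ker_mk'] at h
  exact h

variable (Z : Subgroup L) [hZ : Z.Normal] (hZK : Z ≤ K)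

theorem ind_eq_one_on {θ : K → ℂ} (hker : ∀ a : K, (a : L) ∈ Z → θ a = θ 1) {z : L} (hz : z ∈ Z)
    (hZK : Z ≤ K) : Cfsg.indFun K θ z = Cfsg.indFun K θ 1 := by
  have h : ∀ y : K, (y : L) ∈ Z → Cfsg.indFun K θ (y : L) =
      (Nat.card K : ℂ)⁻¹ * ∑ _x : L, θ 1 := fun y hy => by
    rw [Induce.indFun_apply_normal K θ y]
    refine congrArg _ (Finset.sum_congr rfl fun x _ => hker _ ?_)
    show x⁻¹ * (y : L) * x ∈ Z
    simpa using hZ.conj_mem _ hy x⁻¹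
  have h1 := h 1 (by simp)
  rw [OneMemClass.coe_one] at h1
  rw [h1]
  exact h ⟨z, hZK hz⟩ hz

variable {τ : (L → ℂ) → (G → ℂ)} {R : (L → ℂ) → Finset (G → ℂ)}
  (hS : Cfsg.IsCoherenceSystem (Cfsg.inducedIrrAbove K ⊥) τ R)

include hS hZK

theorem theta_eq_one_of_ind {θ : K → ℂ} (hθ : Cfsg.IsIrrCharacter K θ)
    (hθS : Cfsg.indFun K θ ∈ Cfsg.inducedIrrAbove K ⊥) {a : K}
    (ha : Cfsg.indFun K θ a = Cfsg.indFun K θ 1) : θ a = θ 1 := by
  haveI := Fintype.ofFinite K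
  have hc := hS.isCharacter _ hθS
  refine Constituent.constituent_apply_eq_one (isCharacter_restrict K hc) hθ ?_
    (g := a) (by simpa using ha)
  rw [← frobenius_reciprocity' K θ (char_isClassFunction hc)]
  exact inner_self_ne hS hθS

theorem diff_eq (hirr : ∀ χ ∈ Cfsg.inducedIrrAbove K ⊥ \ Cfsg.inducedIrrAbove K Z,
      Cfsg.IsIrrCharacter L χ) :
    Cfsg.inducedIrrAbove K ⊥ \ Cfsg.inducedIrrAbove K Z =
      {χ | Cfsg.IsIrrCharacter L χ ∧ ∃ z ∈ Z, χ z ≠ χ 1} := by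
  haveI := Fintype.ofFinite K
  ext χ
  constructor
  · intro h
    refine ⟨hirr χ h, ?_⟩
    obtain ⟨⟨θ, hθ, hθ1, -, hχθ⟩, hnot⟩ := h
    by_contra hc
    push Not at hc
    refine hnot ⟨θ, hθ, hθ1, fun a ha => ?_, hχθ⟩
    refine theta_eq_one_of_ind K Z hZK hS hθ ⟨θ, hθ, hθ1, fun a ha => ?_, rfl⟩ ?_
    · rw [show a = 1 from Subtype.ext (Subgroup.mem_bot.1 ha)]
    · rw [← hχθ]; exact hc a ha
  · rintro ⟨hχ, z, hz, hne⟩
    obtain ⟨θ, hθ, hθχ, hθz⟩ := Constituent.exists_constituent_ne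
      (isCharacter_restrict K (isCharacter_of_isIrr hχ)) (g := ⟨z, hZK hz⟩) hne
    have hθ1 : θ ≠ fun _ => 1 := fun e => hθz (by rw [e])
    have hmem : Cfsg.indFun K θ ∈ Cfsg.inducedIrrAbove K ⊥ := ⟨θ, hθ, hθ1, fun a ha => by
      rw [show a = 1 from Subtype.ext (Subgroup.mem_bot.1 ha)], rfl⟩
    have hnot : Cfsg.indFun K θ ∉ Cfsg.inducedIrrAbove K Z := by
      rintro ⟨θ', -, -, hker, he⟩
      exact hθz (theta_eq_one_of_ind K Z hZK hS hθ hmem (a := ⟨z, hZK hz⟩)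
        (by rw [he]; exact ind_eq_one_on K Z hker hz hZK))
    have hinner : Cfsg.classInner χ (Cfsg.indFun K θ) ≠ 0 := by
      rw [frobenius_reciprocity' K θ (char_isClassFunction (isCharacter_of_isIrr hχ))]
      exact hθχ
    have he : χ = Cfsg.indFun K θ := by
      by_contra hne'
      exact hinner (classInner_isIrr_ne hχ (hirr _ ⟨hmem, hnot⟩) hne')
    exact he ▸ ⟨hmem, hnot⟩

set_option maxHeartbeats 1000000 in
/-- The characters nontrivial on `Z` form a coherent set. -/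
theorem coherent_central (hsolv : Group.IsSolvable K) (hodd : Odd (Nat.card L))
    (hnil : Group.IsNilpotent K) (hH₁K : ⁅K, K⁆ < K) (hKL : K < ⊤)
    (hfrob : ∀ k ∈ K, k ∉ ⁅K, K⁆ → ∀ x : L, x * k * x⁻¹ * k⁻¹ ∈ ⁅K, K⁆ → x ∈ K)
    (hZ1 : Z ≠ ⊥) (hZc : ∀ z ∈ Z, ∀ k ∈ K, z * k = k * z)
    (hirr : ∀ χ ∈ Cfsg.inducedIrrAbove K ⊥ \ Cfsg.inducedIrrAbove K Z, Cfsg.IsIrrCharacter L χ) :
    Cfsg.IsCoherent (Cfsg.inducedIrrAbove K ⊥ \ Cfsg.inducedIrrAbove K Z) {1}ᶜ τ := by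
  classical
  haveI := Fintype.ofFinite K
  haveI := Fintype.ofFinite (Cfsg.IrrCharacter L)
  set S := Cfsg.inducedIrrAbove K ⊥
  set U := S \ Cfsg.inducedIrrAbove K Z with hUdef
  have hUS : U ⊆ S := Set.sdiff_subset
  have hUc : ∀ φ ∈ U, Cfsg.conjFun φ ∈ U := fun φ hφ =>
    ⟨above_conj K ⊥ hφ.1, fun h => hφ.2 (by simpa [conjFun_conjFun] using above_conj K Z h)⟩
  have hUeq := diff_eq K Z hZK hS hirr
  obtain ⟨z, hz, hz1⟩ := (Subgroup.ne_bot_iff_exists_ne_one.1 hZ1)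
    |> fun ⟨⟨z, hz⟩, h⟩ => (⟨z, hz, fun e => h (Subtype.ext e)⟩ : ∃ z, z ∈ Z ∧ z ≠ 1)
  obtain ⟨ξ, hξ, hξz⟩ := exists_irr_ne hz1
  have hUne : U.Nonempty := ⟨ξ, by rw [hUdef, hUeq]; exact ⟨hξ, z, hz, hξz⟩⟩
  have hnz := exists_nonzero hS hUS hUne hUc
  by_cases hp : ∃ p m : ℕ, p.Prime ∧ (⊥ : Subgroup L).relIndex K = p ^ m
  swap
  · haveI := hnil
    haveI : ((⊥ : Subgroup L).subgroupOf K).Normal := by rw [Subgroup.bot_subgroupOf]; infer_instance
    haveI : Group.IsNilpotent (K ⧸ (⊥ : Subgroup L).subgroupOf K) :=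
      Group.nilpotent_of_surjective (QuotientGroup.mk' _) (QuotientGroup.mk'_surjective _)
    exact isCoherent_mono (coherent_reduce K hsolv hS hodd ⊥ bot_le inferInstance ⁅K, K⁆
      (sup_bot_eq _).symm hH₁K hKL hfrob (Or.inr (Or.inr (Or.inl hp)))) hUS hnz
  obtain ⟨p, m, hp, hpm⟩ := hp
  rw [Subgroup.relIndex_bot_left] at hpm
  set e := K.index
  have he0 : 0 < e := Nat.pos_of_ne_zero Subgroup.index_ne_zero_of_finite
  -- `e` is prime to `p`
  have hpe : Nat.Coprime p e := by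
    rw [hp.coprime_iff_not_dvd]
    intro h
    obtain ⟨j, -, hj⟩ := (Nat.dvd_prime_pow hp).1 (hpm ▸ Subgroup.relIndex_dvd_card ⁅K, K⁆ K)
    have hj0 : j ≠ 0 := fun e' => hH₁K.not_ge (Subgroup.relIndex_eq_one.1 (by rw [hj, e', pow_zero]))
    have h1 := h.trans (index_dvd_relIndex_sub_one K ⁅K, K⁆ hH₁K.le le_rfl hfrob)
    rw [hj] at h1
    have h2 := Nat.dvd_sub (dvd_pow_self p hj0) h1
    rw [Nat.sub_sub_self (Nat.one_le_pow _ _ hp.pos)] at h2
    exact hp.not_dvd_one h2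
  obtain ⟨k, -, hk⟩ := (Nat.dvd_prime_pow hp).1 (hpm ▸ Subgroup.relIndex_dvd_card Z K)
  -- degrees
  have hdeg : ∀ φ ∈ U, ∃ a : ℕ, φ 1 = ((e * p ^ a : ℕ) : ℂ) ∧ 2 * a ≤ k := by
    rintro φ ⟨⟨θ, hθ, -, -, rfl⟩, -⟩
    obtain ⟨f, -, hf⟩ := irr_one_pos hθ
    obtain ⟨f', hf', -, hdvd⟩ := irr_degree_dvd_card hθ
    rw [hf, Nat.cast_inj] at hf'
    subst hf'
    rw [hpm] at hdvd
    obtain ⟨a, -, rfl⟩ := (Nat.dvd_prime_pow hp).1 hdvd
    have hb := degree_bound K (B := ⊥) (C := K) (D := Z) bot_le hZK le_rfl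
      (fun x hx y hy => by
        rw [Subgroup.mem_bot, hZc x hx y hy]; group)
      hθ (fun b hb => by rw [show b = 1 from Subtype.ext (Subgroup.mem_bot.1 hb)]) hf
    rw [Subgroup.relIndex_self, one_pow, one_mul, hk, ← pow_mul] at hb
    refine ⟨a, by rw [indFun_one, hf, Nat.cast_mul], ?_⟩
    have := (Nat.pow_le_pow_iff_right hp.one_lt).1 hb
    omega
  choose! ex hex hexk using hdeg
  set d : (L → ℂ) → ℕ := fun φ => if φ ∈ U then e * p ^ ex φ else 0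
  have hd : ∀ φ ∈ U, φ 1 = (d φ : ℂ) := fun φ hφ => by simp only [d, if_pos hφ]; exact hex φ hφ
  -- the sum of squares over `U`
  set W : Finset (L → ℂ) := (Finset.univ.filter fun χ : Cfsg.IrrCharacter L =>
    ¬ ∀ x ∈ Z, (χ : L → ℂ) x = (χ : L → ℂ) 1).image (fun χ : Cfsg.IrrCharacter L => (χ : L → ℂ)) with hW
  have hWU : (W : Set (L → ℂ)) = U := by
    rw [hUdef, hUeq]
    ext χ
    simp only [hW, Finset.coe_image, Finset.coe_filter, Finset.mem_univ, true_and, Set.mem_image,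
      Set.mem_ofPred_eq, not_forall]
    constructor
    · rintro ⟨χ, ⟨x, hx, h⟩, rfl⟩; exact ⟨χ.2, x, hx, h⟩
    · rintro ⟨hχ, x, hx, h⟩; exact ⟨⟨χ, hχ⟩, ⟨x, hx, h⟩, rfl⟩
  have hmemW : ∀ φ, φ ∈ W ↔ φ ∈ U := fun φ => by rw [← hWU]; rfl
  have hsumU : e * ∑ φ ∈ W, (p ^ ex φ) ^ 2 + Z.relIndex K = p ^ m := by
    have h1 := BlocksChars.Codegree.sum_degree_sq_nat (G := L)
    rw [← Finset.sum_filter_add_sum_filter_not Finset.univ
      (fun χ : Cfsg.IrrCharacter L => ∀ x ∈ Z, (χ : L → ℂ) x = (χ : L → ℂ) 1),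
      BlocksChars.Codegree.sum_degree_sq_over Z, ← Subgroup.relIndex_mul_index hZK] at h1
    rw [← K.card_mul_index, hpm] at h1
    have h2 : ∀ χ ∈ Finset.univ.filter (fun χ : Cfsg.IrrCharacter L =>
        ¬ ∀ x ∈ Z, (χ : L → ℂ) x = (χ : L → ℂ) 1),
        Cfsg.charDegree (χ : L → ℂ) ^ 2 = e * e * (p ^ ex (χ : L → ℂ)) ^ 2 := by
      intro χ hχ
      have hχU : (χ : L → ℂ) ∈ U := (hmemW _).1 (Finset.mem_image_of_mem _ hχ)
      have := hex _ hχU
      rw [← BlocksChars.Degrees.charDegree_cast, Nat.cast_inj] at this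
      rw [this]; ring
    rw [Finset.sum_congr rfl h2, ← Finset.mul_sum] at h1
    rw [hW, Finset.sum_image fun a _ b _ h => Subtype.ext h]
    refine Nat.eq_of_mul_eq_mul_left he0 ?_
    linarith
  -- the base
  obtain ⟨φ₁, hφ₁, hmin⟩ := Finset.exists_min_image W (fun φ => ex φ)
    (by obtain ⟨φ, hφ⟩ := hUne; exact ⟨φ, (hmemW φ).2 hφ⟩)
  have hexc : ∀ φ ∈ U, ex (Cfsg.conjFun φ) = ex φ := fun φ hφ => by
    have h1 := hex _ (hUc φ hφ)
    rw [conj_one hS (hUS hφ), hex φ hφ, Nat.cast_inj] at h1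
    exact (Nat.pow_right_injective hp.two_le (Nat.eq_of_mul_eq_mul_left he0 h1)).symm
  let B := W.filter fun φ => ex φ = ex φ₁
  have hBsub : ∀ φ ∈ B, φ ∈ U := fun φ h => (hmemW φ).1 (Finset.mem_filter.1 h).1
  have hBc : ∀ φ ∈ B, Cfsg.conjFun φ ∈ B := fun φ h => Finset.mem_filter.2
    ⟨(hmemW _).2 (hUc φ (hBsub φ h)), (hexc φ (hBsub φ h)).trans (Finset.mem_filter.1 h).2⟩
  have hBcoh : Cfsg.IsCoherent (↑B : Set (L → ℂ)) {1}ᶜ τ :=
    coherent_of_equal_degree (subsystem hS (fun φ h => hUS (hBsub φ h))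
      ⟨φ₁, Finset.mem_filter.2 ⟨hφ₁, rfl⟩⟩ hBc) fun φ hφ ψ hψ => by
        rw [hex φ (hBsub φ hφ), hex ψ (hBsub ψ hψ), (Finset.mem_filter.1 hφ).2,
          (Finset.mem_filter.1 hψ).2]
  let 𝒳 := W.powerset.filter fun X => B ⊆ X ∧ (∀ φ ∈ X, Cfsg.conjFun φ ∈ X) ∧
    (∀ φ ∈ X, ∀ ψ ∈ W, ex ψ < ex φ → ψ ∈ X) ∧ Cfsg.IsCoherent (↑X : Set (L → ℂ)) {1}ᶜ τ
  have hne : 𝒳.Nonempty := ⟨B, Finset.mem_filter.2 ⟨Finset.mem_powerset.2 (Finset.filter_subset _ _),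
    subset_rfl, hBc, fun φ hφ ψ hψ hlt => absurd (hmin ψ hψ)
      (by rw [(Finset.mem_filter.1 hφ).2] at hlt; simpa using hlt), hBcoh⟩⟩
  obtain ⟨X, hX, hmax⟩ := Finset.exists_max_image 𝒳 Finset.card hne
  obtain ⟨hXW, hBX, hXc, hXd, hXcoh⟩ := Finset.mem_filter.1 hX
  rw [Finset.mem_powerset] at hXW
  have hXU : ∀ φ ∈ X, φ ∈ U := fun φ h => (hmemW φ).1 (hXW h)
  by_cases hall : W ⊆ X
  · rw [← hWU, Finset.Subset.antisymm hall hXW]; exact hXcoh
  obtain ⟨χ, hχ, hχmin⟩ := Finset.exists_min_image (W \ X) (fun φ => ex φ)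
    (Finset.sdiff_nonempty.2 hall)
  obtain ⟨hχW, hχX⟩ := Finset.mem_sdiff.1 hχ
  have hχU := (hmemW χ).1 hχW
  have hlow : ∀ ψ ∈ W, ex ψ < ex χ → ψ ∈ X := fun ψ hψ hlt => by
    by_contra h
    exact absurd (hχmin ψ (Finset.mem_sdiff.2 ⟨hψ, h⟩)) (by simpa using hlt)
  have ha₁ : ex φ₁ < ex χ := by
    refine lt_of_le_of_ne (hmin χ hχW) fun h => hχX (hBX (Finset.mem_filter.2 ⟨hχW, h.symm⟩))
  set a := ex χ
  -- the divisibility
  have hbound : (p ^ a) ^ 2 ≤ ∑ φ ∈ X, (p ^ ex φ) ^ 2 := by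
    set T := W.filter fun φ => ex φ < a
    have hTX : T ⊆ X := fun φ h => hlow φ (Finset.mem_filter.1 h).1 (Finset.mem_filter.1 h).2
    refine le_trans (Nat.le_of_dvd ?_ ?_) (Finset.sum_le_sum_of_subset hTX)
    · exact Finset.sum_pos (fun φ _ => pow_pos (pow_pos hp.pos _) _)
        ⟨φ₁, Finset.mem_filter.2 ⟨hφ₁, ha₁⟩⟩
    · have hrest : (p ^ a) ^ 2 ∣ ∑ φ ∈ W.filter (fun φ => ¬ ex φ < a), (p ^ ex φ) ^ 2 :=
        Finset.dvd_sum fun φ hφ => pow_dvd_pow_of_dvd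
          (pow_dvd_pow p (Nat.not_lt.1 (Finset.mem_filter.1 hφ).2)) 2
      refine (Nat.dvd_add_left hrest).1 ?_
      rw [Finset.sum_filter_add_sum_filter_not]
      refine ((Nat.Coprime.pow_left _ (Nat.Coprime.pow_left _ hpe))).dvd_of_dvd_mul_left ?_
      have hkle : 2 * a ≤ k := hexk χ hχU
      have hkm : k ≤ m := (Nat.pow_dvd_pow_iff_le_right hp.one_lt).1
        (hk ▸ hpm ▸ Subgroup.relIndex_dvd_card Z K)
      have h1 : (p ^ a) ^ 2 ∣ p ^ m := by rw [← pow_mul]; exact pow_dvd_pow p (by omega)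
      have h2 : (p ^ a) ^ 2 ∣ p ^ k := by rw [← pow_mul]; exact pow_dvd_pow p (by omega)
      refine (Nat.dvd_add_left h2).1 ?_
      rw [← hk, hsumU]
      exact h1
  have hn : ∀ φ ∈ U, Cfsg.classInner φ φ = ((1 : ℕ) : ℂ) := fun φ hφ => by
    rw [Nat.cast_one]; exact classInner_isIrr_self (hirr φ hφ)
  have hsys := subsystem hS hUS hUne hUc
  have hχcX : Cfsg.conjFun χ ∉ X := fun h => hχX (by simpa [conjFun_conjFun] using hXc _ h)
  have hcoh := extend_pair hsys d (fun _ => 1) hd hn X hXU hXc hXcoh hχU hχX hχcX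
    (χ₁ := φ₁) (hBX (Finset.mem_filter.2 ⟨hφ₁, rfl⟩))
    (by
      simp only [d, if_pos hχU, if_pos ((hmemW φ₁).1 hφ₁)]
      exact mul_dvd_mul_left _ (pow_dvd_pow p ha₁.le)) (by
      simp only [Nat.cast_one, div_one]
      rw [Finset.sum_congr rfl fun φ hφ => show (d φ : ℝ) ^ 2 = ((e * e * (p ^ ex φ) ^ 2 : ℕ) : ℝ) by
        simp only [d, if_pos (hXU φ hφ)]; push_cast; ring, ← Nat.cast_sum, ← Finset.mul_sum]
      simp only [d, if_pos hχU, if_pos ((hmemW φ₁).1 hφ₁)]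
      have h3 : 3 ≤ p := by
        have hpodd : Odd p := by
          have hm : m ≠ 0 := by
            rintro rfl
            rw [pow_zero] at hpm
            exact hH₁K.not_ge (by rw [Subgroup.card_eq_one.1 hpm]; exact bot_le)
          exact hodd.of_dvd_nat ((dvd_pow_self p hm).trans (hpm ▸ K.card_subgroup_dvd_card))
        have := hp.two_le
        rcases hpodd with ⟨r, rfl⟩
        omega
      have h4 : 3 * p ^ ex φ₁ ≤ p ^ a :=
        calc 3 * p ^ ex φ₁ ≤ p * p ^ ex φ₁ := Nat.mul_le_mul_right _ h3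
          _ = p ^ (ex φ₁ + 1) := by rw [pow_succ, mul_comm]
          _ ≤ p ^ a := Nat.pow_le_pow_right hp.pos ha₁
      have h5 : 2 * (e * p ^ a) * (e * p ^ ex φ₁) < e * e * ∑ φ ∈ X, (p ^ ex φ) ^ 2 := by
        have hpos : 0 < p ^ a := pow_pos hp.pos _
        have h6 : 2 * p ^ a * p ^ ex φ₁ < (p ^ a) ^ 2 := by nlinarith [pow_pos hp.pos (ex φ₁)]
        calc 2 * (e * p ^ a) * (e * p ^ ex φ₁) = e * e * (2 * p ^ a * p ^ ex φ₁) := by ring
          _ < e * e * ∑ φ ∈ X, (p ^ ex φ) ^ 2 :=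
            Nat.mul_lt_mul_of_pos_left (h6.trans_le hbound) (Nat.mul_pos he0 he0)
      exact_mod_cast h5)
  have hmem : X ∪ {χ, Cfsg.conjFun χ} ∈ 𝒳 := by
    refine Finset.mem_filter.2 ⟨Finset.mem_powerset.2 ?_, hBX.trans Finset.subset_union_left,
      ?_, ?_, by simpa using hcoh⟩
    · exact Finset.union_subset hXW (Finset.insert_subset hχW
        (Finset.singleton_subset_iff.2 ((hmemW _).2 (hUc χ hχU))))
    · intro φ hφ
      simp only [Finset.mem_union, Finset.mem_insert, Finset.mem_singleton] at hφ ⊢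
      rcases hφ with h | rfl | rfl
      · exact Or.inl (hXc φ h)
      · exact Or.inr (Or.inr rfl)
      · exact Or.inr (Or.inl (conjFun_conjFun χ))
    · intro φ hφ ψ hψ hlt
      simp only [Finset.mem_union, Finset.mem_insert, Finset.mem_singleton] at hφ ⊢
      rcases hφ with h | rfl | rfl
      · exact Or.inl (hXd φ h ψ hψ hlt)
      · exact Or.inl (hlow ψ hψ hlt)
      · rw [hexc χ hχU] at hlt
        exact Or.inl (hlow ψ hψ hlt)
  have hlt : X.card < (X ∪ {χ, Cfsg.conjFun χ}).card :=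
    Finset.card_lt_card ⟨Finset.subset_union_left, fun h => hχX (h (by simp))⟩
  exact absurd (hmax _ hmem) (by omega)

end Cfsg.Agent.OddChar.Coherence
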