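import Cfsg.Agent.OddChar.Coherence.FrobeniusFeit
import Cfsg.Agent.OddChar.Coherence.Central
import Cfsg.Agent.S1514
import Cfsg.Agent.S0161
import Cfsg.Agent.Lib.Coprime.Action

/-!
# Induction from the normaliser of a trivial intersection kernel
-/

set_option linter.style.haveILetI false
set_option linter.unusedSectionVars false

namespace Cfsg.Agent.OddChar.Coherence.TI

open Cfsg.Agent.Characters Cfsg.Agent.OddChar.Isometry
open scoped ComplexConjugate

universe u

variable {G : Type u} [Group G] [Fintype G] (L : Subgroup G) [Fintype L] (K : Subgroup L)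

/-- The characters of `L` nontrivial on a subgroup. -/
def nontrivOn (Z : Subgroup L) : Set (L → ℂ) :=
  {χ | Cfsg.IsIrrCharacter L χ ∧ ∃ z ∈ Z, χ z ≠ χ 1}

variable [hK : K.Normal] (hC : ∀ k ∈ K, k ≠ 1 → Subgroup.centralizer ({k} : Set L) ≤ K)
  (hTI : ∀ y : L, y ∈ K → y ≠ 1 → ∀ x : G, ∀ hx : x⁻¹ * (y : G) * x ∈ L,
    (⟨_, hx⟩ : L) ∈ K → x ∈ L)

include hC

theorem inducedIrrAbove_eq : Cfsg.inducedIrrAbove K ⊥ = nontrivOn L K := by
  ext φ
  refine Iff.trans ?_ (Frobenius.mem_set_iff K hC).symm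
  constructor
  · rintro ⟨θ, hθ, h1, -, h⟩; exact ⟨θ, hθ, h1, h⟩
  · rintro ⟨θ, hθ, h1, h⟩
    exact ⟨θ, hθ, h1, fun a ha => by rw [show a = 1 from Subtype.ext (Subgroup.mem_bot.1 ha)], h⟩

theorem vanish_off {α : L → ℂ} (hα : α ∈ Cfsg.zspan (nontrivOn L K)) {y : L} (hy : y ∉ K) :
    α y = 0 := by
  refine Submodule.span_induction (p := fun f _ => f y = 0) ?_ rfl ?_ ?_ hα
  · intro χ hχ
    obtain ⟨θ, -, -, rfl⟩ := (Frobenius.mem_set_iff K hC).1 hχ
    exact Induce.indFun_apply_normal_notMem K θ hy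
  · intro a b _ _ ha hb; rw [Pi.add_apply, ha, hb, add_zero]
  · intro c a _ ha; rw [Pi.smul_apply, ha, smul_zero]

theorem isGen_of_mem {α : L → ℂ} (hα : α ∈ Cfsg.zspan (nontrivOn L K)) :
    Cfsg.IsGeneralizedCharacter L α := by
  refine Submodule.span_induction (fun x hx => isGen_of_isCharacter (isCharacter_of_isIrr hx.1))
    isGen_zero (fun x y _ _ => isGen_add) (fun k x _ hx => ?_) hα
  rw [← Int.cast_smul_eq_zsmul ℂ k x]; exact isGen_intSmul hx k

include hTI

omit hC in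
/-- Values of an induced function on the kernel. -/
theorem ind_value {β : L → ℂ} (hβ : Cfsg.IsClassFunction L β) (hoff : ∀ y, y ∉ K → β y = 0)
    {y : L} (hy : y ∈ K) (hy1 : y ≠ 1) : Cfsg.indFun L β (y : G) = β y := by
  rw [Induce.indFun_eq_sum_of_subset L L β (y : G)]
  · rw [Finset.sum_congr rfl fun (x : L) _ => show
      Cfsg.extendByZero L β ((x : G)⁻¹ * (y : G) * (x : G)) = β y by
        rw [show (x : G)⁻¹ * (y : G) * (x : G) = ((x⁻¹ * y * x : L) : G) by simp,
          CharTheory.IndBasic.extendByZero_coe]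
        simpa using hβ y x⁻¹,
      Finset.sum_const, Finset.card_univ, ← Nat.card_eq_fintype_card, nsmul_eq_mul, ← mul_assoc,
      inv_mul_cancel₀ natCard_ne_zero, one_mul]
  · intro x hne
    by_cases hx : x⁻¹ * (y : G) * x ∈ L
    · rw [CharTheory.IndBasic.extendByZero_of_mem L β hx] at hne
      exact hTI y hy hy1 x hx (by_contra fun h => hne (hoff _ h))
    · exact absurd (CharTheory.IndBasic.extendByZero_of_notMem L β hx) hne

/-- Induction is an isometry on the combinations vanishing at one. -/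
theorem ind_isometry {T : Set (L → ℂ)} (hT : T ⊆ nontrivOn L K) :
    Cfsg.IsLinearIsometryOn (Cfsg.zspanOn T {1}ᶜ) (fun α : L → ℂ => Cfsg.indFun L α) ∧
      ∀ α ∈ Cfsg.zspanOn T {1}ᶜ, Cfsg.indFun L α 1 = 0 := by
  have hmem : ∀ α ∈ Cfsg.zspanOn T {1}ᶜ, α ∈ Cfsg.zspan (nontrivOn L K) := fun α h =>
    zspan_mono hT h.1
  have h1 : ∀ α ∈ Cfsg.zspanOn T {1}ᶜ, Cfsg.indFun L α 1 = 0 := fun α h => by
    rw [indFun_one, apply_one_eq_zero h, mul_zero]
  refine ⟨⟨fun α _ β _ => indFun_add L α β, fun α _ n => ?_, fun α hα β hβ => ?_,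
    fun α hα => isGen_indFun L (isGen_of_mem L K hC (hmem α hα))⟩, h1⟩
  · show Cfsg.indFun L (n • α) = n • Cfsg.indFun L α
    rw [← Int.cast_smul_eq_zsmul ℂ n α, indFun_smul, Int.cast_smul_eq_zsmul]
  · have hβc := isGen_isClassFunction (isGen_of_mem L K hC (hmem β hβ))
    have hαoff : ∀ y, y ∉ K → α y = 0 := fun y hy => vanish_off L K hC (hmem α hα) hy
    show Cfsg.classInner (Cfsg.indFun L α) (Cfsg.indFun L β) = _
    rw [frobenius_reciprocity L α
      (isGen_isClassFunction (isGen_indFun L (isGen_of_mem L K hC (hmem β hβ)))),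
      classInner_def, classInner_def]
    refine congrArg _ (Finset.sum_congr rfl fun y _ => ?_)
    by_cases hy : y ∈ K
    · by_cases hy1 : y = 1
      · rw [hy1, apply_one_eq_zero hα, zero_mul, zero_mul]
      · rw [ind_value L K hTI hβc (fun z hz => vanish_off L K hC (hmem β hβ) hz) hy hy1]
    · rw [hαoff y hy, zero_mul, zero_mul]

/-- The coherence system of a group of odd order. -/
theorem exists_system (hodd : Odd (Nat.card L)) (hK1 : K ≠ ⊥) :
    ∃ R : (L → ℂ) → Finset (G → ℂ), Cfsg.IsCoherenceSystem (Cfsg.inducedIrrAbove K ⊥)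
      (fun α : L → ℂ => Cfsg.indFun L α) R := by
  rw [inducedIrrAbove_eq L K hC]
  obtain ⟨hτ, hτ1⟩ := ind_isometry L K hC hTI (T := nontrivOn L K) subset_rfl
  obtain ⟨⟨k, hk⟩, hk1⟩ := Subgroup.ne_bot_iff_exists_ne_one.1 hK1
  obtain ⟨χ, hχ, hne⟩ := exists_irr_ne (G := L) (g := k) fun e => hk1 (Subtype.ext e)
  have hclosed : ∀ ξ ∈ nontrivOn L K, Cfsg.conjFun ξ ∈ nontrivOn L K ∧ Cfsg.conjFun ξ ≠ ξ := by
    intro ξ h
    obtain ⟨z, hz, hne⟩ := h.2
    have h1 : Cfsg.conjFun ξ ∈ nontrivOn L K :=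
      ⟨isIrrCharacter_conj h.1, z, hz, fun e => hne (by simpa [Cfsg.conjFun] using congrArg conj e)⟩
    refine ⟨h1, fun e => ?_⟩
    have := S0161.result hodd ⟨ξ, h.1⟩ fun g => Complex.conj_eq_iff_im.1 (congrFun e g)
    exact hne (by rw [show ξ = fun _ => (1 : ℂ) from this])
  exact S1514.result (nontrivOn L K) ⟨χ, hχ, k, hk, hne⟩ (fun ξ h => h.1) hclosed _ hτ hτ1

omit hTI

/-- Coprime action: the Frobenius condition passes to the quotient by the derived group. -/
theorem frob_derived (hnil : Group.IsNilpotent K) :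
    ∀ k ∈ K, k ∉ ⁅K, K⁆ → ∀ x : L, x * k * x⁻¹ * k⁻¹ ∈ ⁅K, K⁆ → x ∈ K := by
  intro k hk hkn x hx
  by_contra hxK
  haveI := hnil
  set m := Nat.card K
  have hcop := Frobenius.coprime_index K hC
  set a := x ^ m
  have haK : a ∉ K := fun h => hxK (by
    have h1 : (QuotientGroup.mk' K x) ^ m = 1 := (QuotientGroup.eq_one_iff (x ^ m)).2 h
    have h2 : (QuotientGroup.mk' K x) ^ K.index = 1 := by
      rw [Subgroup.index_eq_card]; exact pow_card_eq_one'
    exact (QuotientGroup.eq_one_iff x).1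
      (orderOf_eq_one_iff.1 (Nat.eq_one_of_dvd_coprimes hcop (orderOf_dvd_of_pow_eq_one h1)
        (orderOf_dvd_of_pow_eq_one h2))))
  -- the subgroup of elements fixing `k` modulo the derived group
  have hord : orderOf a ∣ K.index := orderOf_dvd_of_pow_eq_one (by
    rw [← pow_mul, K.card_mul_index]; exact pow_card_eq_one')
  set A := Subgroup.zpowers a
  have hfix : ∀ b ∈ A, b * k * b⁻¹ * k⁻¹ ∈ ⁅K, K⁆ := by
    have key : ∀ b ∈ Subgroup.zpowers x, b * k * b⁻¹ * k⁻¹ ∈ ⁅K, K⁆ := by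
      set π := QuotientGroup.mk' ⁅K, K⁆
      have hcomm : Commute (π x) (π k) := by
        have h : π (x * k * x⁻¹ * k⁻¹) = 1 := (QuotientGroup.eq_one_iff _).2 hx
        rw [map_mul, map_mul, map_mul, map_inv, map_inv, mul_inv_eq_one, mul_inv_eq_iff_eq_mul] at h
        exact h
      rintro b ⟨i, rfl⟩
      refine (QuotientGroup.eq_one_iff _).1 ?_
      show π (x ^ i * k * (x ^ i)⁻¹ * k⁻¹) = 1
      rw [map_mul, map_mul, map_mul, map_inv, map_inv, map_zpow, (hcomm.zpow_left i).eq,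
        mul_inv_cancel_right, mul_inv_cancel]
    exact fun b hb => key b (Subgroup.zpowers_le.2 (Subgroup.pow_mem _ (Subgroup.mem_zpowers x) m) hb)
  obtain ⟨c, hc, hkc⟩ := Coprime.exists_fixed_mod (A := A) (K := K) (N := ⁅K, K⁆)
    (by rw [Nat.card_zpowers]; exact (hcop.symm).coprime_dvd_left hord) (Or.inr inferInstance)
    (Subgroup.commutator_le_left K K) (fun y _ => Induce.conj_mem_of_normal _ y)
    (fun y _ => Induce.conj_mem_of_normal _ y) hk hfix
  by_cases hc1 : c = 1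
  · rw [hc1, mul_one] at hkc
    exact hkn (by simpa using (⁅K, K⁆).inv_mem hkc)
  · refine haK (hC c hc.1 hc1 ?_)
    rw [Subgroup.mem_centralizer_singleton_iff]
    exact Subgroup.mem_centralizer_iff.1 hc.2 a (Subgroup.mem_zpowers a)

include hTI

/-- The characters nontrivial on a central subgroup of the kernel form a coherent set. -/
theorem coherent_central_ti (hodd : Odd (Nat.card L)) (hnil : Group.IsNilpotent K) (hKL : K < ⊤)
    (Z : Subgroup L) [Z.Normal] (hZ1 : Z ≠ ⊥) (hZK : Z ≤ K)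
    (hZc : ∀ z ∈ Z, ∀ k ∈ K, z * k = k * z) :
    Cfsg.IsCoherent (nontrivOn L Z) {1}ᶜ (fun α : L → ℂ => Cfsg.indFun L α) := by
  haveI := hnil
  have hK1 : K ≠ ⊥ := fun e => hZ1 (le_bot_iff.1 (e ▸ hZK))
  obtain ⟨R, hS⟩ := exists_system L K hC hTI hodd hK1
  haveI : Nontrivial K := (Subgroup.nontrivial_iff_ne_bot K).2 hK1
  have hH₁K : ⁅K, K⁆ < K := by
    refine lt_of_le_not_ge (Subgroup.commutator_le_left K K) fun h => ?_
    have h1 : commutator K = ⊤ := by
      refine Subgroup.map_injective (Subgroup.subtype_injective K) ?_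
      rw [Subgroup.map_subtype_commutator, ← MonoidHom.range_eq_map, Subgroup.range_subtype]
      exact le_antisymm (Subgroup.commutator_le_left K K) h
    exact (Group.IsSolvable.commutator_lt_top_of_nontrivial K).ne h1
  have hirr : ∀ χ ∈ Cfsg.inducedIrrAbove K ⊥ \ Cfsg.inducedIrrAbove K Z,
      Cfsg.IsIrrCharacter L χ := fun χ h => by
    have := h.1
    rw [inducedIrrAbove_eq L K hC] at this
    exact this.1
  have h := coherent_central K Z hZK hS inferInstance hodd hnil hH₁K hKL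
    (frob_derived L K hC hnil) hZ1 hZc hirr
  rwa [diff_eq K Z hZK hS hirr] at h

end Cfsg.Agent.OddChar.Coherence.TI
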