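import Cfsg.Agent.OddChar.Isometry
import Cfsg.Agent.Lib.Characters.Kernel

/-!
# Tools for coherence: Bessel residuals, extensions defined on an orthogonal family
-/

set_option linter.style.haveILetI false

namespace Cfsg.Agent.OddChar.Coherence

open Cfsg.Agent.Characters
open scoped ComplexConjugate

universe u v

variable {L : Type u} [Group L] [Fintype L] {G : Type v} [Group G] [Fintype G]

theorem self_eq (f : G → ℂ) :
    Cfsg.classInner f f = (((Nat.card G : ℝ)⁻¹ * ∑ g, ‖f g‖ ^ 2 : ℝ) : ℂ) := by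
  rw [classInner_def]
  push_cast
  congr 1
  exact Finset.sum_congr rfl fun g _ => Complex.mul_conj' _

theorem self_re_nonneg (f : G → ℂ) : 0 ≤ (Cfsg.classInner f f).re := by
  rw [self_eq, Complex.ofReal_re]
  positivity

theorem eq_zero_of_re_le {f : G → ℂ} (h : (Cfsg.classInner f f).re ≤ 0) : f = 0 := by
  refine classInner_self_eq_zero.1 ?_
  have h' := le_antisymm h (self_re_nonneg f)
  rw [self_eq] at h' ⊢
  rw [Complex.ofReal_re] at h'
  rw [h', Complex.ofReal_zero]

theorem inner_comm_int {a b : G → ℂ} {z : ℤ} (h : Cfsg.classInner a b = (z : ℂ)) :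
    Cfsg.classInner b a = (z : ℂ) := by
  rw [classInner_conj_symm a b, h, map_intCast]

theorem inner_comm_zero {a b : G → ℂ} (h : Cfsg.classInner a b = 0) :
    Cfsg.classInner b a = 0 := by
  rw [classInner_conj_symm a b, h, map_zero]

theorem inner_smul_int_left (n : ℤ) (a b : G → ℂ) :
    Cfsg.classInner (n • a) b = (n : ℂ) * Cfsg.classInner a b := by
  rw [← Int.cast_smul_eq_zsmul ℂ n a, classInner_smul_left]

theorem inner_smul_int_right (n : ℤ) (a b : G → ℂ) :
    Cfsg.classInner a (n • b) = (n : ℂ) * Cfsg.classInner a b := by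
  rw [← Int.cast_smul_eq_zsmul ℂ n b, classInner_smul_right, map_intCast]

section Bessel

variable {ι : Type*} [DecidableEq ι] (s : Finset ι) (f : ι → G → ℂ) (n : ι → ℕ)

/-- `v` minus its orthogonal projection on the family `f`. -/
noncomputable def resid (v : G → ℂ) (u : ι → ℤ) : G → ℂ :=
  v - ∑ i ∈ s, ((u i : ℂ) / (n i : ℂ)) • f i

variable {s f n} (hn : ∀ i ∈ s, 0 < n i)
  (horth : ∀ i ∈ s, ∀ j ∈ s, Cfsg.classInner (f i) (f j) = if i = j then (n i : ℂ) else 0)
  {v : G → ℂ} {u : ι → ℤ} (hu : ∀ i ∈ s, Cfsg.classInner v (f i) = (u i : ℂ))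

include hn horth hu

theorem resid_orth {j : ι} (hj : j ∈ s) : Cfsg.classInner (resid s f n v u) (f j) = 0 := by
  rw [resid, classInner_sub_left, classInner_sum_left, Finset.sum_eq_single j, classInner_smul_left,
    horth j hj j hj, if_pos rfl, div_mul_cancel₀ _ (Nat.cast_ne_zero.2 (hn j hj).ne'), hu j hj,
    sub_self]
  · intro i hi hij
    rw [classInner_smul_left, horth i hi j hj, if_neg hij, mul_zero]
  · exact fun h => absurd hj h

theorem resid_self :
    Cfsg.classInner (resid s f n v u) (resid s f n v u) =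
      Cfsg.classInner v v - ((∑ i ∈ s, (u i : ℝ) ^ 2 / (n i : ℝ) : ℝ) : ℂ) := by
  conv_lhs => arg 2; rw [resid]
  rw [classInner_sub_right, classInner_sum_right, Finset.sum_eq_zero (fun i hi => by
    rw [classInner_smul_right, resid_orth hn horth hu hi, mul_zero]), sub_zero]
  rw [resid, classInner_sub_left, classInner_sum_left]
  congr 1
  push_cast
  refine Finset.sum_congr rfl fun i hi => ?_
  rw [classInner_smul_left, inner_comm_int (hu i hi)]
  ring

/-- Bessel's inequality. -/
theorem bessel : ∑ i ∈ s, (u i : ℝ) ^ 2 / (n i : ℝ) ≤ (Cfsg.classInner v v).re := by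
  have h := self_re_nonneg (resid s f n v u)
  rw [resid_self hn horth hu, Complex.sub_re, Complex.ofReal_re] at h
  linarith

theorem eq_of_bessel_le (h : (Cfsg.classInner v v).re ≤ ∑ i ∈ s, (u i : ℝ) ^ 2 / (n i : ℝ)) :
    v = ∑ i ∈ s, ((u i : ℂ) / (n i : ℂ)) • f i := by
  refine sub_eq_zero.1 (eq_zero_of_re_le (f := resid s f n v u) ?_)
  rw [resid_self hn horth hu, Complex.sub_re, Complex.ofReal_re]
  linarith

end Bessel

/-- Linearity and inner products on a span follow from the generators. -/
theorem isometry_span (F : (L → ℂ) →ₗ[ℂ] (G → ℂ)) (S : Set (L → ℂ))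
    (hgram : ∀ a ∈ S, ∀ b ∈ S, Cfsg.classInner (F a) (F b) = Cfsg.classInner a b)
    (hgen : ∀ a ∈ S, Cfsg.IsGeneralizedCharacter G (F a)) :
    Cfsg.IsLinearIsometryOn (Cfsg.zspan S) F := by
  refine ⟨fun a _ b _ => map_add F a b, fun a _ n => map_zsmul F n a, ?_, ?_⟩
  · intro a ha b hb
    have h1 : ∀ c ∈ S, Cfsg.classInner (F a) (F c) = Cfsg.classInner a c := fun c hc => by
      refine Submodule.span_induction (fun x hx => hgram x hx c hc) ?_ ?_ ?_ ha
      · simp
      · intro x y _ _ hx hy
        rw [map_add, classInner_add_left, classInner_add_left, hx, hy]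
      · intro k x _ hx
        rw [map_zsmul, inner_smul_int_left, inner_smul_int_left, hx]
    refine Submodule.span_induction (fun x hx => h1 x hx) ?_ ?_ ?_ hb
    · simp
    · intro x y _ _ hx hy
      rw [map_add, classInner_add_right, classInner_add_right, hx, hy]
    · intro k x _ hx
      rw [map_zsmul, inner_smul_int_right, inner_smul_int_right, hx]
  · intro a ha
    refine Submodule.span_induction hgen ?_ ?_ ?_ ha
    · rw [map_zero]; exact isGen_zero
    · intro x y _ _ hx hy
      rw [map_add]; exact isGen_add hx hy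
    · intro k x _ hx
      rw [map_zsmul, ← Int.cast_smul_eq_zsmul ℂ k (F x)]; exact isGen_intSmul hx k

/-- The linear map with prescribed values on a finite orthogonal family. -/
noncomputable def extend (s : Finset (L → ℂ)) (f : (L → ℂ) → (G → ℂ)) :
    (L → ℂ) →ₗ[ℂ] (G → ℂ) where
  toFun α := ∑ χ ∈ s, (Cfsg.classInner α χ / Cfsg.classInner χ χ) • f χ
  map_add' a b := by
    simp only [classInner_add_left, add_div, add_smul, Finset.sum_add_distrib]
  map_smul' c a := by
    simp only [classInner_smul_left, mul_div_assoc, mul_smul, RingHom.id_apply, Finset.smul_sum]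

variable {s : Finset (L → ℂ)} {f : (L → ℂ) → (G → ℂ)}
  (horth : ∀ a ∈ s, ∀ b ∈ s, a ≠ b → Cfsg.classInner a b = 0)
  (hne : ∀ a ∈ s, Cfsg.classInner a a ≠ 0)

include horth hne

theorem extend_apply {χ : L → ℂ} (hχ : χ ∈ s) : extend s f χ = f χ := by
  show ∑ φ ∈ s, (Cfsg.classInner χ φ / Cfsg.classInner φ φ) • f φ = f χ
  rw [Finset.sum_eq_single χ, div_self (hne χ hχ), one_smul]
  · intro φ hφ hφχ
    rw [horth χ hχ φ hφ (Ne.symm hφχ), zero_div, zero_smul]
  · exact fun h => absurd hχ h

theorem extend_isometry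
    (hgram : ∀ a ∈ s, ∀ b ∈ s, Cfsg.classInner (f a) (f b) = Cfsg.classInner a b)
    (hgen : ∀ a ∈ s, Cfsg.IsGeneralizedCharacter G (f a)) :
    Cfsg.IsLinearIsometryOn (Cfsg.zspan (s : Set (L → ℂ))) (extend s f) :=
  isometry_span _ _
    (fun a ha b hb => by rw [extend_apply horth hne ha, extend_apply horth hne hb, hgram a ha b hb])
    (fun a ha => by rw [extend_apply horth hne ha]; exact hgen a ha)

end Cfsg.Agent.OddChar.Coherence
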