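import Cfsg.Agent.OddChar.Coherence.FrobeniusKey

/-!
# Feit's coherence theorem for Frobenius groups
-/

set_option linter.style.haveILetI false
set_option linter.unusedSectionVars false

namespace Cfsg.Agent.OddChar.Coherence.Frobenius

open Cfsg.Agent.Characters Cfsg.Agent.OddChar.Isometry

universe u v

variable {N : Type u} [Group N] [Fintype N] {G : Type v} [Group G] [Fintype G]

/-- Growing a coherent set by increasing degree. -/
theorem coherent_by_degree (W : Finset (N → ℂ)) (hirr : ∀ φ ∈ W, Cfsg.IsIrrCharacter N φ) (e : ℕ)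
    (he : 0 < e) (d : (N → ℂ) → ℕ) (hd : ∀ φ ∈ W, φ 1 = ((e * d φ : ℕ) : ℂ))
    {τ : (N → ℂ) → (G → ℂ)}
    (hτ : Cfsg.IsLinearIsometryOn (Cfsg.zspanOn (↑W : Set (N → ℂ)) {1}ᶜ) τ)
    (hτ1 : ∀ α ∈ Cfsg.zspanOn (↑W : Set (N → ℂ)) {1}ᶜ, τ α 1 = 0)
    (hbase : 2 ≤ (W.filter fun φ => d φ = 1).card)
    (hkey : ∀ χ ∈ W, 1 < d χ →
      2 * d χ < ∑ φ ∈ W.filter (fun φ => d φ < d χ), d φ ^ 2) :
    Cfsg.IsCoherent (↑W : Set (N → ℂ)) {1}ᶜ τ := by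
  classical
  have hrestr : ∀ X : Finset (N → ℂ), X ⊆ W →
      Cfsg.IsLinearIsometryOn (Cfsg.zspanOn (↑X : Set (N → ℂ)) {1}ᶜ) τ ∧
        ∀ α ∈ Cfsg.zspanOn (↑X : Set (N → ℂ)) {1}ᶜ, τ α 1 = 0 := fun X hX => by
    have h := zspanOn_mono ({1}ᶜ : Set N) (Finset.coe_subset.2 hX)
    exact ⟨⟨fun a ha b hb => hτ.1 a (h ha) b (h hb), fun a ha => hτ.2.1 a (h ha),
      fun a ha b hb => hτ.2.2.1 a (h ha) b (h hb), fun a ha => hτ.2.2.2 a (h ha)⟩,
      fun a ha => hτ1 a (h ha)⟩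
  have hpos : ∀ φ ∈ W, 1 ≤ d φ := fun φ hφ => by
    obtain ⟨k, hk, hk'⟩ := irr_one_pos (hirr φ hφ)
    rw [hd φ hφ, Nat.cast_inj] at hk'
    exact Nat.pos_of_mul_pos_left (hk'.symm ▸ hk)
  set B := W.filter fun φ => d φ = 1
  have hBcoh : Cfsg.IsCoherent (↑B : Set (N → ℂ)) {1}ᶜ τ :=
    coherent_irr_equal_degree B (fun φ h => hirr φ (Finset.mem_filter.1 h).1)
      (fun φ hφ ψ hψ => by
        rw [hd φ (Finset.mem_filter.1 hφ).1, hd ψ (Finset.mem_filter.1 hψ).1,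
          (Finset.mem_filter.1 hφ).2, (Finset.mem_filter.1 hψ).2]) hbase
      (hrestr B (Finset.filter_subset _ _)).1 (hrestr B (Finset.filter_subset _ _)).2
  let 𝒳 := W.powerset.filter fun X => B ⊆ X ∧ Cfsg.IsCoherent (↑X : Set (N → ℂ)) {1}ᶜ τ
  obtain ⟨X, hX, hmax⟩ := Finset.exists_max_image 𝒳 Finset.card
    ⟨B, Finset.mem_filter.2 ⟨Finset.mem_powerset.2 (Finset.filter_subset _ _), subset_rfl, hBcoh⟩⟩
  obtain ⟨hXW, hBX, hXcoh⟩ := Finset.mem_filter.1 hX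
  rw [Finset.mem_powerset] at hXW
  by_cases hall : W ⊆ X
  · rw [Finset.Subset.antisymm hall hXW]; exact hXcoh
  obtain ⟨χ, hχ, hmin⟩ := Finset.exists_min_image (W \ X) d (Finset.sdiff_nonempty.2 hall)
  obtain ⟨hχW, hχX⟩ := Finset.mem_sdiff.1 hχ
  have h1 : 1 < d χ := lt_of_le_of_ne (hpos χ hχW) fun h =>
    hχX (hBX (Finset.mem_filter.2 ⟨hχW, h.symm⟩))
  have hlow : W.filter (fun φ => d φ < d χ) ⊆ X := fun φ hφ => by
    by_contra h
    exact absurd (hmin φ (Finset.mem_sdiff.2 ⟨(Finset.mem_filter.1 hφ).1, h⟩))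
      (not_le.2 (Finset.mem_filter.1 hφ).2)
  obtain ⟨ψ, hψ⟩ : B.Nonempty := Finset.card_pos.1 (by omega)
  have hlt : 2 * d χ < ∑ φ ∈ X, d φ ^ 2 :=
    (hkey χ hχW h1).trans_le (Finset.sum_le_sum_of_subset hlow)
  have hins : insert χ X ⊆ W := Finset.insert_subset hχW hXW
  have hr := hrestr _ hins
  rw [Finset.coe_insert] at hr
  have hcoh := feit_criterion X (fun ξ h => hirr ξ (hXW h)) (hirr χ hχW) hχX (fun φ => e * d φ)
    (hd χ hχW) (fun ξ h => hd ξ (hXW h)) hr.1 hr.2 hXcoh (hBX hψ)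
    (by rw [(Finset.mem_filter.1 hψ).2, mul_one]; exact Dvd.intro _ rfl) (by
      simp only [(Finset.mem_filter.1 hψ).2, mul_one]
      rw [Finset.sum_congr rfl fun φ _ => mul_pow e (d φ) 2, ← Finset.mul_sum]
      calc 2 * e * (e * d χ) = e ^ 2 * (2 * d χ) := by ring
        _ < _ := Nat.mul_lt_mul_of_pos_left hlt (pow_pos he 2))
  have hmem : insert χ X ∈ 𝒳 := Finset.mem_filter.2 ⟨Finset.mem_powerset.2 hins,
    hBX.trans (Finset.subset_insert _ _), by rw [Finset.coe_insert]; exact hcoh⟩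
  have := hmax _ hmem
  rw [Finset.card_insert_of_notMem hχX] at this
  omega

variable (H : Subgroup N) [hN : H.Normal]
  (hC : ∀ h ∈ H, h ≠ 1 → Subgroup.centralizer ({h} : Set N) ≤ H)

include hC

open Classical in
/-- Feit's coherence theorem. -/
theorem feit (hH1 : H ≠ ⊥) (hH2 : H ≠ ⊤) (he : Nat.card H ≠ H.index + 1)
    {τ : (N → ℂ) → (G → ℂ)}
    (hτ : Cfsg.IsLinearIsometryOn (Cfsg.zspanOn
      {χ : N → ℂ | Cfsg.IsIrrCharacter N χ ∧ ∃ h ∈ H, χ h ≠ χ 1} {1}ᶜ) τ)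
    (hτ1 : ∀ α ∈ Cfsg.zspanOn
      {χ : N → ℂ | Cfsg.IsIrrCharacter N χ ∧ ∃ h ∈ H, χ h ≠ χ 1} {1}ᶜ, τ α 1 = 0) :
    Cfsg.IsCoherent {χ : N → ℂ | Cfsg.IsIrrCharacter N χ ∧ ∃ h ∈ H, χ h ≠ χ 1} {1}ᶜ τ ∨
      ∃ p : ℕ, p.Prime ∧ (∃ m : ℕ, Nat.card H = p ^ m) ∧ ¬ IsMulCommutative H ∧
        (commutator H).index ≤ 4 * H.index ^ 2 + 1 := by
  haveI := Fintype.ofFinite H
  haveI := Fintype.ofFinite (Cfsg.IrrCharacter H)
  set S := {χ : N → ℂ | Cfsg.IsIrrCharacter N χ ∧ ∃ h ∈ H, χ h ≠ χ 1}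
  set W : Finset (N → ℂ) := (Finset.univ.filter fun η : Cfsg.IrrCharacter H =>
    (η : H → ℂ) ≠ fun _ => 1).image fun η : Cfsg.IrrCharacter H => Cfsg.indFun H (η : H → ℂ) with hW0
  have hmem : ∀ φ, φ ∈ W ↔ ∃ θ : H → ℂ, Cfsg.IsIrrCharacter H θ ∧ θ ≠ (fun _ => 1) ∧
      φ = Cfsg.indFun H θ := fun φ => by
    simp only [hW0, Finset.mem_image, Finset.mem_filter, Finset.mem_univ, true_and]
    exact ⟨fun ⟨η, h, e⟩ => ⟨η, η.2, h, e.symm⟩, fun ⟨θ, hθ, h, e⟩ => ⟨⟨θ, hθ⟩, h, e.symm⟩⟩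
  have hWS : (↑W : Set (N → ℂ)) = S := Set.ext fun φ => (hmem φ).trans (mem_set_iff H hC).symm
  have hW : ∀ θ : H → ℂ, Cfsg.IsIrrCharacter H θ → θ ≠ (fun _ => 1) → Cfsg.indFun H θ ∈ W :=
    fun θ h1 h2 => (hmem _).2 ⟨θ, h1, h2, rfl⟩
  have hirr : ∀ φ ∈ W, Cfsg.IsIrrCharacter N φ := fun φ h => by
    rw [← Finset.mem_coe, hWS] at h; exact h.1
  set d : (N → ℂ) → ℕ := fun φ => Cfsg.charDegree φ / H.index
  have hd : ∀ θ : H → ℂ, Cfsg.IsIrrCharacter H θ → θ ≠ (fun _ => 1) →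
      d (Cfsg.indFun H θ) = Cfsg.charDegree θ := fun θ hθ _ => by
    obtain ⟨f, -, hf⟩ := irr_one_pos hθ
    simp only [d]
    rw [deg_eq hθ hf, Cfsg.charDegree, indFun_one, hf, ← Nat.cast_mul, Complex.natCast_re,
      Nat.floor_natCast, Nat.mul_div_cancel_left _ (Nat.pos_of_ne_zero Subgroup.index_ne_zero_of_finite)]
  have hd' : ∀ φ ∈ W, φ 1 = ((H.index * d φ : ℕ) : ℂ) := fun φ hφ => by
    obtain ⟨θ, hθ, hθ1, rfl⟩ := (hmem φ).1 hφ
    obtain ⟨f, -, hf⟩ := irr_one_pos hθ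
    rw [hd θ hθ hθ1, deg_eq hθ hf, indFun_one, hf, Nat.cast_mul]
  have hfinish : 2 ≤ (W.filter fun φ => d φ = 1).card →
      (∀ θ : H → ℂ, Cfsg.IsIrrCharacter H θ → 1 < Cfsg.charDegree θ →
        2 * Cfsg.charDegree θ < ∑ φ ∈ W.filter (fun φ => d φ < Cfsg.charDegree θ), d φ ^ 2) →
      Cfsg.IsCoherent S {1}ᶜ τ := fun hb hk => by
    rw [← hWS] at hτ hτ1 ⊢
    refine coherent_by_degree W hirr H.index (Nat.pos_of_ne_zero Subgroup.index_ne_zero_of_finite)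
      d hd' hτ hτ1 hb fun χ hχ h1 => ?_
    obtain ⟨θ, hθ, hθ1, rfl⟩ := (hmem χ).1 hχ
    rw [hd θ hθ hθ1] at h1 ⊢
    exact hk θ hθ h1
  by_cases hnp : ∃ p m : ℕ, p.Prime ∧ Nat.card H = p ^ m
  swap
  · obtain ⟨h1, h2⟩ := key_composite H hC hH2 hnp W hW d hd
    exact Or.inl (hfinish h1 h2)
  obtain ⟨p, m, hp, hm⟩ := hnp
  haveI := Fact.mk hp
  obtain ⟨hcount, hbigkey⟩ := key_pgroup H hC (IsPGroup.of_card hm) W hW (fun φ h => (hmem φ).1 h) d hd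
  have hHnil := nilpotent H hC hH2
  haveI := hHnil
  haveI : Nontrivial H := (Subgroup.nontrivial_iff_ne_bot H).2 hH1
  have hb1 : 1 < (commutator H).index := by
    refine Nat.lt_of_le_of_ne (Nat.one_le_iff_ne_zero.2 Subgroup.index_ne_zero_of_finite) fun h => ?_
    exact (Group.IsSolvable.commutator_lt_top_of_nontrivial H).ne (Subgroup.index_eq_one.1 h.symm)
  by_cases hab : IsMulCommutative H
  · left
    have hone : ∀ θ : H → ℂ, Cfsg.IsIrrCharacter H θ → Cfsg.charDegree θ = 1 := fun θ hθ =>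
      deg_eq hθ (by rw [irr_degree_one_of_comm (fun a b => mul_comm' a b) hθ, Nat.cast_one])
    refine hfinish ?_ fun θ hθ h => absurd (hone θ hθ) (by omega)
    have hc : (commutator H).index = Nat.card H := by
      rw [show commutator H = ⊥ from (commutator_def H).trans (Subgroup.commutator_self_eq_bot_iff.2 ⟨⟨fun a b => Subtype.ext (mul_comm' (a : H) b)⟩⟩), Subgroup.index_bot]
    rw [hc] at hcount hb1
    have h0 : 0 < H.index := Nat.pos_of_ne_zero Subgroup.index_ne_zero_of_finite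
    rcases Nat.lt_or_ge (W.filter fun φ => d φ = 1).card 2 with h | h
    · exfalso
      interval_cases hh : (W.filter fun φ => d φ = 1).card <;> omega
    · exact h
  rcases Nat.lt_or_ge (4 * H.index ^ 2 + 1) (commutator H).index with h | h
  · refine Or.inl (hfinish ?_ (hbigkey h))
    by_contra hlt
    have h0 : 0 < H.index := Nat.pos_of_ne_zero Subgroup.index_ne_zero_of_finite
    interval_cases hh : (W.filter fun φ => d φ = 1).card
    · omega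
    · nlinarith
  · exact Or.inr ⟨p, hp, ⟨m, hm⟩, hab, h⟩

end Cfsg.Agent.OddChar.Coherence.Frobenius
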