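import Cfsg.Agent.OddChar.Coherence.Sibley
import Cfsg.Agent.S1523
import Cfsg.Agent.Lib.Perm.RegularNormal
import Cfsg.Agent.Solvable.Frobenius

/-!
# The theorems of Sibley and Feit–Sibley
-/

set_option linter.style.haveILetI false
set_option linter.unusedSectionVars false

namespace Cfsg.Agent.OddChar.Coherence.Sibley

open Cfsg.Agent.Characters Cfsg.Agent.OddChar.Isometry

universe u

variable {G : Type u} [Group G] [Fintype G] (K : Subgroup G)
  (hTI : Cfsg.IsTISubset (K : Set G))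
  (hC : ∀ k ∈ K, k ≠ 1 → Subgroup.centralizer ({k} : Set G) ≤ K)

theorem ti_transfer (hTI : Cfsg.IsTISubset (K : Set G)) :
    ∀ y : Subgroup.normalizer (K : Set G), y ∈ K.subgroupOf (Subgroup.normalizer (K : Set G)) →
      y ≠ 1 → ∀ x : G, ∀ hx : x⁻¹ * (y : G) * x ∈ Subgroup.normalizer (K : Set G),
      (⟨_, hx⟩ : Subgroup.normalizer (K : Set G)) ∈ K.subgroupOf (Subgroup.normalizer (K : Set G)) →
        x ∈ Subgroup.normalizer (K : Set G) := by
  intro y hy hy1 x hx hxK
  by_contra h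
  refine hy1 (Subtype.ext ?_)
  have h' : x⁻¹ ∉ Subgroup.normalizer (K : Set G) := fun hh => h (by simpa using Subgroup.inv_mem _ hh)
  refine hTI x⁻¹ h' (y : G) hy ?_
  rw [inv_inv]; exact hxK

theorem cent_transfer (L : Subgroup G) (hC : ∀ k ∈ K, k ≠ 1 → Subgroup.centralizer ({k} : Set G) ≤ K) :
    ∀ k ∈ K.subgroupOf L, k ≠ 1 → Subgroup.centralizer ({k} : Set L) ≤ K.subgroupOf L := by
  intro k hk hk1 x hx
  refine hC k hk (fun e => hk1 (Subtype.ext e)) ?_
  rw [Subgroup.mem_centralizer_singleton_iff] at hx ⊢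
  exact congrArg Subtype.val hx

include hC

/-- A `p`-subgroup containing the centralisers of its elements is a Sylow subgroup. -/
theorem exists_sylow_eq {p : ℕ} [Fact p.Prime] (hp : IsPGroup p K) (h1 : K ≠ ⊥) :
    ∃ P : Sylow p G, (P : Subgroup G) = K := by
  obtain ⟨P, hP⟩ := hp.exists_le_sylow
  refine ⟨P, le_antisymm ?_ hP⟩
  haveI : Nontrivial (P : Subgroup G) := by
    rw [Subgroup.nontrivial_iff_ne_bot]
    exact fun e => h1 (le_bot_iff.1 (e ▸ hP))
  haveI := P.2.center_nontrivial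
  obtain ⟨⟨z, hz⟩, hz1⟩ := exists_ne (1 : Subgroup.center (P : Subgroup G))
  obtain ⟨⟨k, hk⟩, hk1⟩ := Subgroup.ne_bot_iff_exists_ne_one.1 h1
  have hk1' : k ≠ 1 := fun e => hk1 (Subtype.ext e)
  have hzK : (z : G) ∈ K := hC k hk hk1' (by
    rw [Subgroup.mem_centralizer_singleton_iff]
    exact (congrArg Subtype.val (Subgroup.mem_center_iff.1 hz ⟨k, hP hk⟩)).symm)
  intro x hx
  refine hC z hzK (fun e => hz1 (Subtype.ext (Subtype.ext e))) ?_
  rw [Subgroup.mem_centralizer_singleton_iff]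
  exact congrArg Subtype.val (Subgroup.mem_center_iff.1 hz ⟨x, hx⟩)

omit hC

/-- With a non-abelian kernel of odd order the whole Frobenius group has odd order. -/
theorem odd_of_nonabelian {N : Type u} [Group N] [Finite N] (H : Subgroup N) [H.Normal]
    (hC : ∀ h ∈ H, h ≠ 1 → Subgroup.centralizer ({h} : Set N) ≤ H) (hH : Odd (Nat.card H))
    (hna : ¬ IsMulCommutative H) : Odd (Nat.card N) := by
  by_contra hev
  rw [Nat.not_odd_iff_even, even_iff_two_dvd] at hev
  haveI := Fact.mk Nat.prime_two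
  obtain ⟨s, hs⟩ := exists_prime_orderOf_dvd_card' (G := N) 2 hev
  have hsH : s ∉ H := fun h => by
    have h2 := Subgroup.orderOf_dvd_natCard H h
    rw [hs] at h2
    exact (Nat.not_odd_iff_even.2 (even_iff_two_dvd.2 h2)) hH
  have hfpf : ∀ a ∈ Subgroup.zpowers s, a ≠ 1 → H ⊓ Subgroup.centralizer {a} = ⊥ := by
    intro a ha ha1
    rw [eq_bot_iff]
    intro x hx
    by_contra hx1
    have hx1' : x ≠ 1 := fun e => hx1 (Subgroup.mem_bot.2 e)
    have haH : a ∈ H := hC x hx.1 hx1' (by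
      rw [Subgroup.mem_centralizer_singleton_iff]
      exact (Subgroup.mem_centralizer_singleton_iff.1 hx.2).symm)
    have has : a = s := by
      obtain ⟨i, rfl⟩ := ha
      show s ^ i = s
      have : ∀ i : ℤ, s ^ i = 1 ∨ s ^ i = s := fun i => by
        rw [zpow_eq_zpow_emod i (n := 2) (by exact_mod_cast hs ▸ pow_orderOf_eq_one s)]
        rcases Int.emod_two_eq_zero_or_one i with h | h <;> simp [h]
      exact (this i).resolve_left ha1
    exact hsH (has ▸ haH)
  have hinv := Solvable.Frobenius.fpf_involution_inv (A := Subgroup.zpowers s) (K := H)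
    (fun y _ => Induce.conj_mem_of_normal H y) hfpf (Subgroup.mem_zpowers s) hs
  refine hna ⟨⟨fun a b => Subtype.ext ?_⟩⟩
  have h1 := hinv a a.2
  have h2 := hinv b b.2
  have h3 := hinv ((b : N) * a) (H.mul_mem b.2 a.2)
  have h4 : ((b : N) * a)⁻¹ = (b : N)⁻¹ * (a : N)⁻¹ := by
    rw [← h3, ← h1, ← h2]; group
  rw [mul_inv_rev] at h4
  have h5 := congrArg Inv.inv h4
  simp only [mul_inv_rev, inv_inv] at h5
  show (a : N) * b = b * a
  exact h5.symm

/-- The congruence from the trivial intersection property. -/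
theorem congruence (p : ℕ) [Fact p.Prime] (P : Sylow p G)
    (hTI : Cfsg.IsTISubset ((P : Subgroup G) : Set G))
    (hC : ∀ k ∈ (P : Subgroup G), k ≠ 1 → Subgroup.centralizer ({k} : Set G) ≤ (P : Subgroup G))
    (hodd : Odd (Nat.card (Subgroup.normalizer ((P : Subgroup G) : Set G)))) :
    ∀ Z : Subgroup (Subgroup.normalizer ((P : Subgroup G) : Set G)), Z.Normal → Z ≠ ⊥ →
      Z ≤ (P : Subgroup G).subgroupOf (Subgroup.normalizer ((P : Subgroup G) : Set G)) →
      (∀ z ∈ Z, ∀ k ∈ (P : Subgroup G).subgroupOf (Subgroup.normalizer ((P : Subgroup G) : Set G)),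
        z * k = k * z) →
      ∀ ψ : G → ℂ, Cfsg.IsIrrCharacter G ψ →
      (∀ z ∈ Z, ∀ z' ∈ Z, z ≠ 1 → z' ≠ 1 → ψ (z : G) = ψ (z' : G)) →
      ∀ z ∈ Z, z ≠ 1 → ∃ j : ℤ, ψ 1 - ψ (z : G) =
        ((Nat.card ((P : Subgroup G).subgroupOf
          (Subgroup.normalizer ((P : Subgroup G) : Set G))) : ℤ) * j : ℤ) := by
  set L := Subgroup.normalizer ((P : Subgroup G) : Set G)
  intro Z hZn hZ1 hZP hZc ψ hψ hconst z hz hz1
  set W := Z.map L.subtype with hW
  have hW1 : W ≠ ⊥ := fun e => hZ1 ((Subgroup.map_eq_bot_iff_of_injective _ L.subtype_injective).1 e)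
  have hWP : W ≤ (P : Subgroup G) := by
    rintro - ⟨w, hw, rfl⟩; exact hZP hw
  have hWn : ∀ x ∈ L, ∀ w ∈ W, x * w * x⁻¹ ∈ W := by
    rintro x hx - ⟨w, hw, rfl⟩
    exact ⟨_, hZn.conj_mem w hw ⟨x, hx⟩, rfl⟩
  have hWc : ∀ w ∈ W, ∀ y ∈ (P : Subgroup G), w * y = y * w := by
    rintro - ⟨w, hw, rfl⟩ y hy
    exact congrArg Subtype.val (hZc w hw ⟨y, Subgroup.le_normalizer hy⟩ hy)
  have hcl : ∀ w ∈ W, w ≠ 1 → L ⊓ Subgroup.centralizer ({w} : Set G) = (P : Subgroup G) :=
    fun w hw hw1 => le_antisymm (inf_le_right.trans (hC w (hWP hw) hw1)) (le_inf Subgroup.le_normalizer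
      fun y hy => by
        rw [Subgroup.mem_centralizer_singleton_iff]; exact (hWc w hw y hy).symm)
  obtain ⟨n, d, hn, hd, hdvd⟩ := S1523.result p P hTI hodd W hW1 hWP hWn hWc
    (fun w hw w' hw' h h' => by rw [hcl w hw h, hcl w' hw' h']) ψ hψ
    (fun w hw w' hw' h h' => by
      obtain ⟨a, ha, rfl⟩ := hw
      obtain ⟨b, hb, rfl⟩ := hw'
      exact hconst a ha b hb (fun e => h (by rw [e]; rfl)) (fun e => h' (by rw [e]; rfl)))
    (z : G) ⟨z, hz, rfl⟩ (fun e => hz1 (Subtype.ext e))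
  obtain ⟨j, hj⟩ := hdvd
  refine ⟨j, ?_⟩
  rw [hd, hn, Nat.card_congr (Subgroup.subgroupOfEquivOfLe (Subgroup.le_normalizer
    (H := (P : Subgroup G)))).toEquiv, ← Int.cast_sub, hj]

/-- The non-abelian case, with the normaliser of odd order. -/
theorem coherent_sylow_nonabelian (p : ℕ) [Fact p.Prime] (hp : p ≠ 2) (P : Sylow p G)
    (hna : ¬ IsMulCommutative (P : Subgroup G))
    (hTI : Cfsg.IsTISubset ((P : Subgroup G) : Set G))
    (hlt : (P : Subgroup G) < Subgroup.normalizer ((P : Subgroup G) : Set G))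
    (hC : ∀ k ∈ (P : Subgroup G), k ≠ 1 → Subgroup.centralizer ({k} : Set G) ≤ (P : Subgroup G))
    [Fintype ↥(Subgroup.normalizer ((P : Subgroup G) : Set G))] :
    Cfsg.IsCoherent (TI.nontrivOn (Subgroup.normalizer ((P : Subgroup G) : Set G))
      ((P : Subgroup G).subgroupOf (Subgroup.normalizer ((P : Subgroup G) : Set G)))) {1}ᶜ
      (fun α => Cfsg.indFun (Subgroup.normalizer ((P : Subgroup G) : Set G)) α) ∧
    Odd (Nat.card (Subgroup.normalizer ((P : Subgroup G) : Set G))) := by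
  set Q := (P : Subgroup G).subgroupOf (Subgroup.normalizer ((P : Subgroup G) : Set G))
  haveI : Q.Normal := Subgroup.normal_in_normalizer
  have hpP : IsPGroup p Q := P.2.comap_subtype
  have hC' := cent_transfer (P : Subgroup G) (Subgroup.normalizer ((P : Subgroup G) : Set G)) hC
  have hna' : ¬ IsMulCommutative Q := fun h => hna ⟨⟨fun a b => Subtype.ext (by
    have := mul_comm' (⟨⟨a, Subgroup.le_normalizer a.2⟩, a.2⟩ : Q)
      ⟨⟨b, Subgroup.le_normalizer b.2⟩, b.2⟩
    exact congrArg (fun y : Q => ((y : (Subgroup.normalizer ((P : Subgroup G) : Set G))) : G)) this)⟩⟩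
  have hoddQ : Odd (Nat.card Q) := by
    obtain ⟨m, hm⟩ := hpP.exists_card_eq
    rw [hm]; exact ((Fact.out : p.Prime).odd_of_ne_two hp).pow
  have hodd : Odd (Nat.card (Subgroup.normalizer ((P : Subgroup G) : Set G))) := odd_of_nonabelian Q hC' hoddQ hna'
  refine ⟨coherent_nonabelian (Subgroup.normalizer ((P : Subgroup G) : Set G)) Q hC' (ti_transfer (P : Subgroup G) hTI) hodd hpP hna'
    (lt_top_iff_ne_top.2 fun e => hlt.not_ge (Subgroup.subgroupOf_eq_top.1 e))
    (congruence p P hTI hC hodd), hodd⟩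

/-- The Frobenius group `H ⊴ N` with `|H| = [N : H] + 1`. -/
theorem minimal_case {N : Type u} [Group N] [Fintype N] (H : Subgroup N) [H.Normal]
    (hC : ∀ h ∈ H, h ≠ 1 → Subgroup.centralizer ({h} : Set N) ≤ H) (hH1 : H ≠ ⊥)
    (he : Nat.card H = H.index + 1) :
    Nat.card {χ : N → ℂ // Cfsg.IsIrrCharacter N χ ∧ ∃ h ∈ H, χ h ≠ χ 1} = 1 ∧
      ∃ p : ℕ, p.Prime ∧ IsPGroup p H ∧ IsMulCommutative H ∧ ∀ h : H, h ^ p = 1 := by
  classical
  haveI : Nontrivial H := (Subgroup.nontrivial_iff_ne_bot H).2 hH1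
  -- transitivity
  have hconj : ∀ n m : H, n ≠ 1 → m ≠ 1 → ∃ g : N, (m : N) = g * n * g⁻¹ := by
    intro n m hn hm
    have hn1 : (n : N) ≠ 1 := fun e => hn (Subtype.ext e)
    let T := {y : N // y ∈ H ∧ y ≠ 1}
    letI : MulAction N T :=
      { smul := fun g y => ⟨g * y * g⁻¹, ‹H.Normal›.conj_mem _ y.2.1 g,
          fun e => y.2.2 (conj_eq_one_iff.1 e)⟩
        one_smul := fun y => Subtype.ext (by show (1 : N) * y * 1⁻¹ = y; simp)
        mul_smul := fun a b y => Subtype.ext (by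
          show a * b * (y : N) * (a * b)⁻¹ = a * (b * y * b⁻¹) * a⁻¹; group) }
    let t : T := ⟨n, n.2, hn1⟩
    have hst : MulAction.stabilizer N t ≤ H := fun g hg => by
      refine hC n n.2 hn1 ?_
      rw [Subgroup.mem_centralizer_singleton_iff]
      exact mul_inv_eq_iff_eq_mul.1 (congrArg Subtype.val (MulAction.mem_stabilizer_iff.1 hg))
    have h1 : H.index ≤ Nat.card (MulAction.orbit N t) := by
      rw [Nat.card_coe_set_eq, ← MulAction.index_stabilizer N t]
      exact Nat.le_of_dvd (Nat.pos_of_ne_zero Subgroup.index_ne_zero_of_finite)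
        (Subgroup.index_dvd_of_le hst)
    have hTc : Nat.card T = H.index := by
      have e1 : Nat.card T = Nat.card {y : H // y ≠ 1} := Nat.card_congr
        { toFun := fun y => ⟨⟨y.1, y.2.1⟩, fun e => y.2.2 (congrArg Subtype.val e)⟩
          invFun := fun y => ⟨y.1.1, y.1.2, fun e => y.2 (Subtype.ext e)⟩
          left_inv := fun _ => rfl
          right_inv := fun _ => rfl }
      rw [e1, Nat.card_eq_fintype_card, Fintype.card_subtype_compl fun y : H => y = 1,
        Fintype.card_subtype_eq, ← Nat.card_eq_fintype_card, he, Nat.add_sub_cancel]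
    have horb : MulAction.orbit N t = Set.univ := Set.eq_univ_of_forall fun y => by
      by_contra hy
      have hssub : MulAction.orbit N t ⊂ (Set.univ : Set T) :=
        ⟨Set.subset_univ _, fun h => hy (h (Set.mem_univ y))⟩
      have := Set.ncard_lt_ncard hssub Set.finite_univ
      rw [Set.ncard_univ, hTc] at this
      rw [Nat.card_coe_set_eq] at h1
      omega
    obtain ⟨g, hg⟩ : (⟨m, m.2, fun e => hm (Subtype.ext e)⟩ : T) ∈ MulAction.orbit N t :=
      horb ▸ Set.mem_univ _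
    exact ⟨g, (congrArg Subtype.val hg).symm⟩
  obtain ⟨p, hp, hpg, hcomm, hexp⟩ := Perm.RegularNormal.elementaryAbelian_of_conj hconj
  refine ⟨?_, p, hp, hpg, hcomm, hexp⟩
  haveI := Fintype.ofFinite H
  haveI := Fintype.ofFinite (Cfsg.IrrCharacter H)
  set A := Finset.univ.filter fun η : Cfsg.IrrCharacter H => (η : H → ℂ) ≠ fun _ => 1
  have hA : A.card = H.index := by
    have h1 : Fintype.card (Cfsg.IrrCharacter H) = Nat.card H := by
      have h := BlocksChars.Codegree.sum_degree_sq_nat (G := H)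
      rw [Finset.sum_congr rfl (g := fun _ => 1) fun η _ => by
        rw [Frobenius.deg_eq η.2 (f := 1) (by
          rw [irr_degree_one_of_comm (fun a b => mul_comm' a b) η.2, Nat.cast_one]), one_pow],
        Finset.sum_const, smul_eq_mul, mul_one, Finset.card_univ] at h
      exact h
    have h2 : A = Finset.univ.erase (trivIrr H) := by
      ext η
      simp only [A, Finset.mem_filter, Finset.mem_univ, true_and, Finset.mem_erase, and_true]
      exact not_congr ⟨fun h => Subtype.ext h, fun h => by rw [h]; rfl⟩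
    rw [h2, Finset.card_erase_of_mem (Finset.mem_univ _), Finset.card_univ, h1, he,
      Nat.add_sub_cancel]
  set W := A.image fun η : Cfsg.IrrCharacter H => Cfsg.indFun H (η : H → ℂ)
  have hfib : ∀ φ ∈ W, (A.filter fun η : Cfsg.IrrCharacter H =>
      Cfsg.indFun H (η : H → ℂ) = φ).card = H.index := by
    intro φ hφ
    obtain ⟨θ, hθ, rfl⟩ := Finset.mem_image.1 hφ
    rw [← Frobenius.card_fibre H hC θ.2 (Finset.mem_filter.1 hθ).2, Finset.filter_filter]
  have hW : W.card * H.index = H.index := by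
    conv_rhs => rw [← hA, Finset.card_eq_sum_card_image
      (fun η : Cfsg.IrrCharacter H => Cfsg.indFun H (η : H → ℂ)) A]
    rw [Finset.sum_congr rfl hfib, Finset.sum_const, smul_eq_mul]
  have hW1 : W.card = 1 := by
    nlinarith [Nat.pos_of_ne_zero (Subgroup.index_ne_zero_of_finite (H := H))]
  refine (Nat.card_congr (Equiv.subtypeEquivRight fun χ => ?_)).trans
    ((Nat.card_eq_finsetCard W).trans hW1)
  rw [Frobenius.mem_set_iff H hC]
  simp only [W, A, Finset.mem_image, Finset.mem_filter, Finset.mem_univ, true_and]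
  exact ⟨fun ⟨θ, hθ, h, e⟩ => ⟨⟨θ, hθ⟩, h, e.symm⟩, fun ⟨η, h, e⟩ => ⟨η, η.2, h, e.symm⟩⟩

include hC

/-- The Feit–Sibley theorem. -/
theorem feit_sibley (hK1 : K ≠ ⊥) (hnil : Group.IsNilpotent K) (hTI : Cfsg.IsTISubset (K : Set G))
    (hlt : K < Subgroup.normalizer (K : Set G)) [Fintype ↥(Subgroup.normalizer (K : Set G))] :
    (Nat.card {χ : ↥(Subgroup.normalizer (K : Set G)) → ℂ //
        Cfsg.IsIrrCharacter ↥(Subgroup.normalizer (K : Set G)) χ ∧
          ∃ k ∈ K.subgroupOf (Subgroup.normalizer (K : Set G)), χ k ≠ χ 1} = 1 ∧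
        Nat.card K = (K.subgroupOf (Subgroup.normalizer (K : Set G))).index + 1 ∧
        ∃ p : ℕ, p.Prime ∧ IsPGroup p K ∧ Cfsg.IsElementaryAbelian p K) ∨
      (Nat.card K = 2 ^ (Nat.card G).factorization 2 ∧
        (⁅K, K⁆.subgroupOf K).index < 4 * (K.subgroupOf (Subgroup.normalizer (K : Set G))).index ^ 2) ∨
      Cfsg.IsCoherent (TI.nontrivOn (Subgroup.normalizer (K : Set G))
        (K.subgroupOf (Subgroup.normalizer (K : Set G)))) {1}ᶜ
        (fun α => Cfsg.indFun (Subgroup.normalizer (K : Set G)) α) := by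
  classical
  set H := K.subgroupOf (Subgroup.normalizer (K : Set G))
  haveI : H.Normal := Subgroup.normal_in_normalizer
  have hC' := cent_transfer K (Subgroup.normalizer (K : Set G)) hC
  have hH1 : H ≠ ⊥ := fun e => hK1 (by
    rw [eq_bot_iff]
    intro x hx
    have : (⟨x, Subgroup.le_normalizer hx⟩ : (Subgroup.normalizer (K : Set G))) ∈ H := hx
    rw [e, Subgroup.mem_bot] at this
    exact congrArg Subtype.val this)
  have hH2 : H ≠ ⊤ := fun e => hlt.not_ge (Subgroup.subgroupOf_eq_top.1 e)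
  let eqv : H ≃* K := Subgroup.subgroupOfEquivOfLe (Subgroup.le_normalizer (H := K))
  have hcard : Nat.card H = Nat.card K := Nat.card_congr eqv.toEquiv
  by_cases he : Nat.card H = H.index + 1
  · obtain ⟨h1, p, hp, hpg, hcomm, hexp⟩ := minimal_case H hC' hH1 he
    refine Or.inl ⟨h1, hcard ▸ he, p, hp, hpg.of_equiv eqv, ⟨⟨⟨fun a b => ?_⟩⟩, fun a ha => ?_⟩⟩
    · obtain ⟨a, rfl⟩ := eqv.surjective a
      obtain ⟨b, rfl⟩ := eqv.surjective b
      rw [← map_mul, ← map_mul, mul_comm' a b]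
    · exact congrArg (fun y : H => ((y : (Subgroup.normalizer (K : Set G))) : G)) (hexp ⟨⟨a, Subgroup.le_normalizer ha⟩, ha⟩)
  obtain ⟨hτ, hτ1⟩ := TI.ind_isometry (Subgroup.normalizer (K : Set G)) H hC' (ti_transfer K hTI) (T := TI.nontrivOn (Subgroup.normalizer (K : Set G)) H) subset_rfl
  rcases Frobenius.feit H hC' hH1 hH2 he hτ hτ1 with h | ⟨p, hp, ⟨m, hm⟩, hnc, hbound⟩
  · exact Or.inr (Or.inr h)
  haveI := Fact.mk hp
  obtain ⟨P, hPK⟩ := exists_sylow_eq K hC (IsPGroup.of_card (n := m) (hcard ▸ hm)) hK1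
  by_cases hp2 : p = 2
  · subst hp2
    refine Or.inr (Or.inl ⟨by rw [← hPK]; exact P.card_eq_multiplicity, ?_⟩)
    have hidx : (⁅K, K⁆.subgroupOf K).index = (commutator H).index := by
      rw [Subgroup.subgroupOf, ← Subgroup.map_subtype_commutator,
        Subgroup.comap_map_eq_self_of_injective (Subgroup.subtype_injective K)]
      have hmap : (commutator H).map (eqv : H →* K) = commutator K := by
        rw [commutator_def, commutator_def, Subgroup.map_commutator,
          Subgroup.map_top_of_surjective _ eqv.surjective]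
      rw [← hmap]
      exact Subgroup.index_map_eq _ eqv.surjective
        (by rw [(MonoidHom.ker_eq_bot_iff (eqv : H →* K)).2 eqv.injective]; exact bot_le)
    rw [hidx]
    obtain ⟨b, -, hb⟩ := (Nat.dvd_prime_pow Nat.prime_two).1 (hm ▸ (commutator H).index_dvd_card)
    haveI := Frobenius.nilpotent H hC' hH2
    haveI : Nontrivial H := (Subgroup.nontrivial_iff_ne_bot H).2 hH1
    have hb1 : 1 ≤ b := by
      refine Nat.pos_of_ne_zero fun h => ?_
      exact (Group.IsSolvable.commutator_lt_top_of_nontrivial H).ne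
        (Subgroup.index_eq_one.1 (by rw [hb, h, pow_zero]))
    have heodd : Odd H.index := by
      rw [Nat.odd_iff]
      have hcop := Frobenius.coprime_index H hC'
      rw [hm] at hcop
      have hm0 : m ≠ 0 := fun h => hnc (by
        haveI : Subsingleton H := (Nat.card_eq_one_iff_unique.1 (by rw [hm, h, pow_zero])).1
        exact ⟨⟨fun a b => Subsingleton.elim _ _⟩⟩)
      have h2 := (Nat.prime_two.coprime_iff_not_dvd).1
        ((Nat.coprime_pow_left_iff (Nat.pos_of_ne_zero hm0) _ _).1 hcop)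
      omega
    have he3 : 1 < H.index := H.one_lt_index_of_ne_top hH2
    rw [hb] at hbound ⊢
    have hne1 : 2 ^ b ≠ 4 * H.index ^ 2 + 1 := fun h => by
      have h2 : 2 ∣ 2 ^ b := dvd_pow_self 2 (by omega)
      omega
    have hne2 : 2 ^ b ≠ 4 * H.index ^ 2 := fun h => by
      have h2 : H.index ∣ 2 ^ b := h ▸ Dvd.dvd.mul_left (dvd_pow_self _ two_ne_zero) 4
      exact he3.ne' (Nat.eq_one_of_dvd_coprimes
        (((Nat.coprime_two_right.2 heodd)).pow_right b) dvd_rfl h2)
    omega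
  · subst hPK
    refine Or.inr (Or.inr (coherent_sylow_nonabelian p hp2 P (fun hc => hnc ⟨⟨fun a b => ?_⟩⟩)
      hTI hlt hC).1)
    apply eqv.injective
    rw [map_mul, map_mul]
    exact mul_comm' (eqv a) (eqv b)

end Cfsg.Agent.OddChar.Coherence.Sibley
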