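import Cfsg.Agent.OddChar.Coherence.Extend
import Cfsg.Agent.OddChar.Induce
import Cfsg.Agent.OddChar.Constituent
import Cfsg.Agent.BlocksChars.Codegree
import Cfsg.Agent.Lib.CN.Degree

/-!
# The characters induced from a normal subgroup `K` with a given normal subgroup in the kernel,
and the degree criterion for coherence
-/

set_option linter.style.haveILetI false
set_option linter.unusedSectionVars false

namespace Cfsg.Agent.OddChar.Coherence

open Cfsg.Agent.Characters Cfsg.Agent.OddChar.Isometry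
open Cfsg.Agent.CharTheory.IndBasic (extendByZero_of_mem extendByZero_of_notMem)
open scoped ComplexConjugate commutatorElement

universe u v

variable {L : Type u} [Group L] [Fintype L] {G : Type v} [Group G] [Fintype G]

theorem isCoherent_mono {S S' : Set (L → ℂ)} {τ : (L → ℂ) → (G → ℂ)}
    (h : Cfsg.IsCoherent S {1}ᶜ τ) (hsub : S' ⊆ S)
    (hne : ∃ α ∈ Cfsg.zspanOn S' {1}ᶜ, α ≠ 0) : Cfsg.IsCoherent S' {1}ᶜ τ := by
  obtain ⟨-, σ, hσ, hστ⟩ := h
  have hz : Cfsg.zspan S' ⊆ Cfsg.zspan S := fun x hx => Submodule.span_mono hsub hx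
  exact ⟨hne, σ, ⟨fun a ha b hb => hσ.1 a (hz ha) b (hz hb), fun a ha => hσ.2.1 a (hz ha),
    fun a ha b hb => hσ.2.2.1 a (hz ha) b (hz hb), fun a ha => hσ.2.2.2 a (hz ha)⟩,
    fun a ha => hστ a (zspanOn_mono _ hsub ha)⟩

/-- A nonempty conjugation-closed part of a coherence system has a nonzero element vanishing at `1`. -/
theorem exists_nonzero {S S' : Set (L → ℂ)} {τ : (L → ℂ) → (G → ℂ)} {R : (L → ℂ) → Finset (G → ℂ)}
    (hS : Cfsg.IsCoherenceSystem S τ R) (hsub : S' ⊆ S) (hne : S'.Nonempty)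
    (hc : ∀ φ ∈ S', Cfsg.conjFun φ ∈ S') : ∃ α ∈ Cfsg.zspanOn S' {1}ᶜ, α ≠ 0 := by
  obtain ⟨φ, hφ⟩ := hne
  refine ⟨φ - Cfsg.conjFun φ, mem_zspanOn_compl_one
    (Submodule.sub_mem _ (mem_zS hφ) (mem_zS (hc φ hφ)))
    (by rw [Pi.sub_apply, conj_one hS (hsub hφ), sub_self]), fun e => hS.conj_ne φ (hsub hφ) ?_⟩
  exact (sub_eq_zero.1 e).symm

/-- A conjugation-closed part of a coherence system is a coherence system. -/
theorem subsystem {S S' : Set (L → ℂ)} {τ : (L → ℂ) → (G → ℂ)} {R : (L → ℂ) → Finset (G → ℂ)}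
    (hS : Cfsg.IsCoherenceSystem S τ R) (hsub : S' ⊆ S) (hne : S'.Nonempty)
    (hc : ∀ φ ∈ S', Cfsg.conjFun φ ∈ S') : Cfsg.IsCoherenceSystem S' τ R where
  nonempty := hne
  isCharacter χ h := hS.isCharacter χ (hsub h)
  conj_mem := hc
  conj_ne χ h := hS.conj_ne χ (hsub h)
  isometry := ⟨fun a ha b hb => hS.isometry.1 a (zspanOn_mono _ hsub ha) b (zspanOn_mono _ hsub hb),
    fun a ha => hS.isometry.2.1 a (zspanOn_mono _ hsub ha),
    fun a ha b hb => hS.isometry.2.2.1 a (zspanOn_mono _ hsub ha) b (zspanOn_mono _ hsub hb),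
    fun a ha => hS.isometry.2.2.2 a (zspanOn_mono _ hsub ha)⟩
  map_one a ha := hS.map_one a (zspanOn_mono _ hsub ha)
  orthogonal χ h φ h' := hS.orthogonal χ (hsub h) φ (hsub h')
  orthonormal χ h := hS.orthonormal χ (hsub h)
  virtual χ h := hS.virtual χ (hsub h)
  sum_eq χ h := hS.sum_eq χ (hsub h)
  disjoint χ h φ h' := hS.disjoint χ (hsub h) φ (hsub h')

section Above

variable (K : Subgroup L)

theorem above_mono {A A' : Subgroup L} (h : A ≤ A') :
    Cfsg.inducedIrrAbove K A' ⊆ Cfsg.inducedIrrAbove K A := by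
  rintro φ ⟨θ, hθ, h1, hker, rfl⟩
  exact ⟨θ, hθ, h1, fun a ha => hker a (h ha), rfl⟩

theorem above_conj (A : Subgroup L) {φ : L → ℂ} (hφ : φ ∈ Cfsg.inducedIrrAbove K A) :
    Cfsg.conjFun φ ∈ Cfsg.inducedIrrAbove K A := by
  classical
  obtain ⟨θ, hθ, h1, hker, rfl⟩ := hφ
  refine ⟨fun x => conj (θ x), isIrrCharacter_conj hθ, fun e => h1 (funext fun x => ?_),
    fun a ha => ?_, ?_⟩
  · simpa using congrArg conj (congrFun e x)
  · show conj (θ a) = conj (θ 1)
    rw [hker a ha]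
  · funext g
    show conj (Cfsg.indFun K θ g) = Cfsg.indFun K (fun x => conj (θ x)) g
    rw [Cfsg.indFun, Cfsg.indFun, map_mul, map_sum]
    congr 1
    · simp
    · refine Finset.sum_congr rfl fun x _ => ?_
      by_cases hx : x⁻¹ * g * x ∈ K
      · rw [extendByZero_of_mem K θ hx, extendByZero_of_mem K _ hx]
      · rw [extendByZero_of_notMem K θ hx, extendByZero_of_notMem K _ hx, map_zero]

theorem above_finite (A : Subgroup L) : (Cfsg.inducedIrrAbove K A).Finite := by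
  haveI := Fintype.ofFinite K
  refine (Set.finite_range fun θ : Cfsg.IrrCharacter K => Cfsg.indFun K (θ : K → ℂ)).subset ?_
  rintro φ ⟨θ, hθ, -, -, rfl⟩
  exact ⟨⟨θ, hθ⟩, rfl⟩

variable [hK : K.Normal]

theorem conjHom_ne_one {θ : K → ℂ} (hθ1 : θ ≠ fun _ => 1) (x : L) :
    θ ∘ Induce.conjHom K x (Induce.conj_mem_of_normal K x) ≠ fun _ => 1 := fun e =>
  hθ1 (funext fun y => by
    simpa using congrFun e ((Induce.conjHom K x (Induce.conj_mem_of_normal K x)).symm y))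

/-- The restriction of a member of `S` does not contain the principal character. -/
theorem inner_res_one [Fintype K] {θ : K → ℂ} (hθ : Cfsg.IsIrrCharacter K θ)
    (hθ1 : θ ≠ fun _ => 1) :
    Cfsg.classInner (fun y : K => Cfsg.indFun K θ y) (fun _ => 1) = 0 := by
  have e : (fun y : K => Cfsg.indFun K θ y) = (Nat.card K : ℂ)⁻¹ •
      ∑ x : L, θ ∘ Induce.conjHom K x (Induce.conj_mem_of_normal K x) := by
    funext y
    rw [Induce.indFun_apply_normal K θ y]
    simp [Finset.sum_apply]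
  rw [e, classInner_smul_left, classInner_sum_left,
    Finset.sum_eq_zero (f := fun x : L => Cfsg.classInner
      (θ ∘ Induce.conjHom K x (Induce.conj_mem_of_normal K x)) fun _ => 1) fun x _ =>
      classInner_isIrr_ne ((isIrrCharacter_comp_mulEquiv _).2 hθ) (trivIrr K).2
        (conjHom_ne_one K hθ1 x), mul_zero]

open Classical in
/-- The degrees in a fibre of induction. -/
theorem fibre_sum [Fintype K] [Fintype (Cfsg.IrrCharacter K)] {τ : (L → ℂ) → (G → ℂ)}
    {R : (L → ℂ) → Finset (G → ℂ)}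
    (hS : Cfsg.IsCoherenceSystem (Cfsg.inducedIrrAbove K ⊥) τ R) {φ : L → ℂ}
    (hφ : φ ∈ Cfsg.inducedIrrAbove K ⊥) {d n : ℕ} (hd : φ 1 = (d : ℂ))
    (hn : Cfsg.classInner φ φ = (n : ℂ)) :
    K.index * ∑ η ∈ Finset.univ.filter
      (fun η : Cfsg.IrrCharacter K => (η : K → ℂ) ≠ (fun _ => 1) ∧
        Cfsg.indFun K (η : K → ℂ) = φ), (Cfsg.charDegree (η : K → ℂ) : ℝ) ^ 2 =
      (d : ℝ) ^ 2 / (n : ℝ) := by
  obtain ⟨θ, hθ, hθ1, -, hφθ⟩ := hφ
  have hφS : φ ∈ Cfsg.inducedIrrAbove K ⊥ := ⟨θ, hθ, hθ1, fun a ha => by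
    rw [show a = 1 from Subtype.ext (Subgroup.mem_bot.1 ha)], hφθ⟩
  set F := Finset.univ.filter (fun η : Cfsg.IrrCharacter K => (η : K → ℂ) ≠ (fun _ => 1) ∧
    Cfsg.indFun K (η : K → ℂ) = φ)
  have hres : Cfsg.IsCharacter K (fun y : K => φ y) :=
    isCharacter_restrict K (hS.isCharacter φ hφS)
  have hcoef : ∀ η : Cfsg.IrrCharacter K,
      Cfsg.classInner (fun y : K => φ y) (η : K → ℂ) = if η ∈ F then (n : ℂ) else 0 := by
    intro η
    by_cases h1 : (η : K → ℂ) = fun _ => 1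
    · rw [if_neg fun h => (Finset.mem_filter.1 h).2.1 h1, h1, hφθ]
      exact inner_res_one K hθ hθ1
    · have hmem : Cfsg.indFun K (η : K → ℂ) ∈ Cfsg.inducedIrrAbove K ⊥ :=
        ⟨η, η.2, h1, fun a ha => by
          rw [show a = 1 from Subtype.ext (Subgroup.mem_bot.1 ha)], rfl⟩
      rw [← frobenius_reciprocity' K (η : K → ℂ)
        (char_isClassFunction (hS.isCharacter φ hφS))]
      by_cases he : Cfsg.indFun K (η : K → ℂ) = φ
      · rw [if_pos (Finset.mem_filter.2 ⟨Finset.mem_univ _, h1, he⟩), he, hn]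
      · rw [if_neg fun h => he (Finset.mem_filter.1 h).2.2]
        exact hS.orthogonal φ hφS _ hmem (Ne.symm he)
  have hdeg : ∀ η ∈ F, (K.index : ℂ) * (η : K → ℂ) 1 = (d : ℂ) := by
    intro η hη
    rw [← hd, ← (Finset.mem_filter.1 hη).2.2, indFun_one]
  have h1 := congrFun (classFun_eq_sum (char_isClassFunction hres)) 1
  simp only [Finset.sum_apply, Pi.smul_apply, smul_eq_mul, hcoef, ite_mul, zero_mul,
    Finset.sum_ite_mem, Finset.univ_inter, OneMemClass.coe_one, hd] at h1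
  have hidx : (K.index : ℂ) ≠ 0 := Nat.cast_ne_zero.2 Subgroup.index_ne_zero_of_finite
  have h2 : (K.index : ℂ) * (d : ℂ) = (n : ℂ) * F.card * (d : ℂ) := by
    conv_lhs => rw [h1, Finset.mul_sum]
    rw [Finset.sum_congr rfl fun (η : Cfsg.IrrCharacter K) (hη : η ∈ F) =>
      show (K.index : ℂ) * ((n : ℂ) * (η : K → ℂ) 1) =
      (n : ℂ) * (d : ℂ) by rw [← hdeg η hη]; ring, Finset.sum_const, nsmul_eq_mul]
    ring
  have hd0 : d ≠ 0 := by
    obtain ⟨k, hk, hk'⟩ := degree_pos hS hφS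
    rw [hd, Nat.cast_inj] at hk'; omega
  have hn0 : n ≠ 0 := by
    obtain ⟨k, hk, hk'⟩ := norm_pos hS hφS
    rw [hn, Nat.cast_inj] at hk'; omega
  have h3 : (K.index : ℕ) * d = n * F.card * d := by exact_mod_cast h2
  have h4 : (K.index : ℝ) = n * F.card := by
    exact_mod_cast Nat.eq_of_mul_eq_mul_right (Nat.pos_of_ne_zero hd0) h3
  have hterm : ∀ η ∈ F, (Cfsg.charDegree (η : K → ℂ) : ℝ) ^ 2 = (d : ℝ) ^ 2 / (K.index : ℝ) ^ 2 := by
    intro η hη
    have h := hdeg η hη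
    rw [← BlocksChars.Degrees.charDegree_cast] at h
    have h' : (K.index : ℝ) * (Cfsg.charDegree (η : K → ℂ) : ℝ) = (d : ℝ) := by exact_mod_cast h
    rw [← h']
    field_simp [show (K.index : ℝ) ≠ 0 from Nat.cast_ne_zero.2 Subgroup.index_ne_zero_of_finite]
  rw [Finset.sum_congr rfl hterm, Finset.sum_const, nsmul_eq_mul]
  have hn0' : (n : ℝ) ≠ 0 := Nat.cast_ne_zero.2 hn0
  have hi0 : (K.index : ℝ) ≠ 0 := Nat.cast_ne_zero.2 Subgroup.index_ne_zero_of_finite
  rw [h4] at hi0 ⊢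
  field_simp
  rcases mul_ne_zero_iff.1 hi0 with ⟨-, hF⟩
  field_simp

open Classical in
/-- The sum of `φ(1)² / ‖φ‖²` over `S(A)` is at least `[L : K] ([K : A] - 1)`. -/
theorem sum_above {τ : (L → ℂ) → (G → ℂ)} {R : (L → ℂ) → Finset (G → ℂ)}
    (hS : Cfsg.IsCoherenceSystem (Cfsg.inducedIrrAbove K ⊥) τ R) (A : Subgroup L) [A.Normal]
    (s : Finset (L → ℂ)) (hs : ↑s ⊆ Cfsg.inducedIrrAbove K ⊥)
    (hAs : Cfsg.inducedIrrAbove K A ⊆ ↑s) (d n : (L → ℂ) → ℕ)
    (hd : ∀ φ ∈ s, φ 1 = (d φ : ℂ)) (hn : ∀ φ ∈ s, Cfsg.classInner φ φ = (n φ : ℂ)) :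
    (K.index : ℝ) * ((A.relIndex K : ℝ) - 1) ≤ ∑ φ ∈ s, (d φ : ℝ) ^ 2 / (n φ : ℝ) := by
  haveI := Fintype.ofFinite K
  haveI := Fintype.ofFinite (Cfsg.IrrCharacter K)
  rw [Finset.sum_congr rfl fun φ hφ => (fibre_sum K hS (hs hφ) (hd φ hφ) (hn φ hφ)).symm,
    ← Finset.mul_sum]
  refine mul_le_mul_of_nonneg_left ?_ (Nat.cast_nonneg _)
  rw [← Finset.sum_biUnion ?disj]
  case disj =>
    intro φ _ φ' _ hne
    refine Finset.disjoint_left.2 fun η h h' => hne ?_
    rw [← (Finset.mem_filter.1 h).2.2, ← (Finset.mem_filter.1 h').2.2]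
  have hA := BlocksChars.Codegree.sum_degree_sq_over (G := K) (A.subgroupOf K)
  set T := Finset.univ.filter
      (fun χ : Cfsg.IrrCharacter K => ∀ x ∈ A.subgroupOf K, (χ : K → ℂ) x = (χ : K → ℂ) 1)
  have h1T : trivIrr K ∈ T := by simp [T]
  have hA' : ∑ χ ∈ T.erase (trivIrr K), (Cfsg.charDegree (χ : K → ℂ) : ℝ) ^ 2 =
      (A.relIndex K : ℝ) - 1 := by
    rw [eq_sub_iff_add_eq', show A.relIndex K = (A.subgroupOf K).index from rfl, ← hA,
      Nat.cast_sum, ← Finset.add_sum_erase _ _ h1T]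
    simp [Cfsg.charDegree]
  rw [← hA']
  refine Finset.sum_le_sum_of_subset_of_nonneg (fun η hη => ?_) fun _ _ _ => sq_nonneg _
  obtain ⟨hne, hT⟩ := Finset.mem_erase.1 hη
  have hne' : (η : K → ℂ) ≠ fun _ => 1 := fun e => hne (Subtype.ext e)
  refine Finset.mem_biUnion.2 ⟨Cfsg.indFun K (η : K → ℂ), ?_,
    Finset.mem_filter.2 ⟨Finset.mem_univ _, hne', rfl⟩⟩
  exact hAs ⟨η, η.2, hne', fun a ha => (Finset.mem_filter.1 hT).2 a ha, rfl⟩

/-- A nonprincipal linear character of `K` trivial on `A`. -/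
theorem exists_linear_above (hsolv : Group.IsSolvable K) {A : Subgroup L} [A.Normal] (hAK : A < K) :
    ∃ θ : K → ℂ, Cfsg.IsIrrCharacter K θ ∧ θ ≠ (fun _ => 1) ∧ θ 1 = 1 ∧
      ∀ a : K, (a : L) ∈ A → θ a = θ 1 := by
  haveI := hsolv
  haveI : Nontrivial (K ⧸ A.subgroupOf K) := QuotientGroup.nontrivial_iff.2 fun e =>
    hAK.not_ge (Subgroup.subgroupOf_eq_top.1 e)
  haveI := Fintype.ofFinite K
  have h1 : 1 < Nat.card {χ : Cfsg.IrrCharacter (K ⧸ A.subgroupOf K) //
      (χ : K ⧸ A.subgroupOf K → ℂ) 1 = 1} := by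
    rw [card_degree_one]
    refine Nat.lt_of_le_of_ne (Nat.one_le_iff_ne_zero.2 Subgroup.index_ne_zero_of_finite)
      fun h => ?_
    exact (Group.IsSolvable.commutator_lt_top_of_nontrivial (K ⧸ A.subgroupOf K)).ne
      (Subgroup.index_eq_one.1 h.symm)
  haveI := Finite.one_lt_card_iff_nontrivial.1 h1
  obtain ⟨⟨φ, hφ⟩, hne⟩ := exists_ne
    (⟨trivIrr _, rfl⟩ : {χ : Cfsg.IrrCharacter (K ⧸ A.subgroupOf K) //
      (χ : K ⧸ A.subgroupOf K → ℂ) 1 = 1})
  refine ⟨(φ : K ⧸ A.subgroupOf K → ℂ) ∘ QuotientGroup.mk' _,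
    isIrrCharacter_comp_surjective _ (QuotientGroup.mk'_surjective _) φ.2,
    fun e => hne (Subtype.ext (Subtype.ext (funext fun q => ?_))), ?_, fun a ha => ?_⟩
  · obtain ⟨x, rfl⟩ := QuotientGroup.mk'_surjective _ q
    simpa using congrFun e x
  · rw [Function.comp_apply, map_one, hφ]
  · simp only [Function.comp_apply, map_one]
    rw [show (QuotientGroup.mk' (A.subgroupOf K)) a = 1 from (QuotientGroup.eq_one_iff a).2 ha]

/-- The degree criterion: adding `S(B)` to a coherent `S(A)`. -/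
theorem coherent_above_step (hsolv : Group.IsSolvable K) {τ : (L → ℂ) → (G → ℂ)}
    {R : (L → ℂ) → Finset (G → ℂ)} (hS : Cfsg.IsCoherenceSystem (Cfsg.inducedIrrAbove K ⊥) τ R)
    {A B : Subgroup L} [A.Normal] [B.Normal] (hAK : A < K) (hBK : B < K)
    (hA : Cfsg.IsCoherent (Cfsg.inducedIrrAbove K A) {1}ᶜ τ)
    (hbound : ∀ θ : K → ℂ, Cfsg.IsIrrCharacter K θ → (∀ a : K, (a : L) ∈ B → θ a = θ 1) →
      ∀ f : ℕ, θ 1 = (f : ℂ) → 2 * K.index * f < A.relIndex K - 1) :
    Cfsg.IsCoherent (Cfsg.inducedIrrAbove K B) {1}ᶜ τ := by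
  classical
  set S := Cfsg.inducedIrrAbove K ⊥
  have hsubA := above_mono K (bot_le : ⊥ ≤ A)
  have hsubB := above_mono K (bot_le : ⊥ ≤ B)
  choose! d _hd0 hd using fun φ (h : φ ∈ S) => degree_pos hS h
  choose! n _hn0 hn using fun φ (h : φ ∈ S) => norm_pos hS h
  let sA := (above_finite K A).toFinset
  let U := sA ∪ (above_finite K B).toFinset
  let 𝒳 := U.powerset.filter fun X => sA ⊆ X ∧ (∀ φ ∈ X, Cfsg.conjFun φ ∈ X) ∧
    Cfsg.IsCoherent (↑X : Set (L → ℂ)) {1}ᶜ τ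
  have hne : 𝒳.Nonempty := ⟨sA, Finset.mem_filter.2 ⟨Finset.mem_powerset.2 Finset.subset_union_left,
    subset_rfl, fun φ h => by simpa [sA] using above_conj K A (by simpa [sA] using h),
    by simpa [sA] using hA⟩⟩
  obtain ⟨X, hX, hmax⟩ := Finset.exists_max_image 𝒳 Finset.card hne
  obtain ⟨hXU, hAX, hXc, hXcoh⟩ := Finset.mem_filter.1 hX
  rw [Finset.mem_powerset] at hXU
  have hUS : ∀ φ ∈ U, φ ∈ S := fun φ h => by
    rcases Finset.mem_union.1 h with h | h
    · exact hsubA (by simpa [sA] using h)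
    · exact hsubB (by simpa using h)
  by_cases hall : Cfsg.inducedIrrAbove K B ⊆ ↑X
  · obtain ⟨θ, hθ, hθ1, -, hker⟩ := exists_linear_above K hsolv hBK
    exact isCoherent_mono hXcoh hall
      (exists_nonzero hS hsubB ⟨_, θ, hθ, hθ1, hker, rfl⟩ fun φ => above_conj K B)
  obtain ⟨χ, hχB, hχX⟩ := Set.not_subset.1 hall
  have hχS := hsubB hχB
  have hχcX : Cfsg.conjFun χ ∉ X := fun h => hχX (by simpa [conjFun_conjFun] using hXc _ h)
  obtain ⟨θ₁, hθ₁, hθ₁ne, hθ₁1, hθ₁A⟩ := exists_linear_above K hsolv hAK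
  have hχ₁ : Cfsg.indFun K θ₁ ∈ Cfsg.inducedIrrAbove K A := ⟨θ₁, hθ₁, hθ₁ne, hθ₁A, rfl⟩
  have hd₁ : d (Cfsg.indFun K θ₁) = K.index := by
    have := hd _ (hsubA hχ₁)
    rw [indFun_one, hθ₁1, mul_one, Nat.cast_inj] at this
    exact this.symm
  obtain ⟨θ, hθ, hθ1, hθB, hχθ⟩ := hχB
  obtain ⟨f, hf0, hf⟩ := irr_one_pos hθ
  have hdχ : d χ = K.index * f := by
    have := hd χ hχS
    rw [hχθ, indFun_one, hf, ← Nat.cast_mul, Nat.cast_inj] at this
    rw [hχθ]; exact this.symm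
  have hsum := sum_above K hS A X (fun φ h => hUS φ (hXU h))
    (fun φ h => hAX (by simpa [sA] using h)) d n (fun φ h => hd φ (hUS φ (hXU h)))
    (fun φ h => hn φ (hUS φ (hXU h)))
  have hb := hbound θ hθ hθB f hf
  have hcoh := extend_pair hS d n hd hn X (fun φ h => hUS φ (hXU h)) hXc hXcoh hχS hχX hχcX
    (χ₁ := Cfsg.indFun K θ₁) (hAX (by simpa [sA] using hχ₁))
    (by rw [hd₁, hdχ]; exact Dvd.intro _ rfl) (by
      refine lt_of_lt_of_le ?_ hsum
      rw [hd₁, hdχ]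
      have hb' : (2 * K.index * f : ℝ) < (A.relIndex K : ℝ) - 1 := by
        have : 2 * K.index * f + 1 < A.relIndex K := by omega
        have h' : ((2 * K.index * f + 1 : ℕ) : ℝ) < (A.relIndex K : ℝ) := Nat.cast_lt.2 this
        push_cast at h'
        linarith
      have hK0 : (0 : ℝ) < K.index :=
        Nat.cast_pos.2 (Nat.pos_of_ne_zero Subgroup.index_ne_zero_of_finite)
      push_cast
      nlinarith)
  have hmem : X ∪ {χ, Cfsg.conjFun χ} ∈ 𝒳 := by
    refine Finset.mem_filter.2 ⟨Finset.mem_powerset.2 ?_,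
      hAX.trans Finset.subset_union_left, ?_, by simpa using hcoh⟩
    · refine Finset.union_subset hXU (Finset.insert_subset ?_ (Finset.singleton_subset_iff.2 ?_))
      · exact Finset.mem_union_right _ (by simpa using ⟨θ, hθ, hθ1, hθB, hχθ⟩)
      · exact Finset.mem_union_right _
          (by simpa using above_conj K B ⟨θ, hθ, hθ1, hθB, hχθ⟩)
    · intro φ hφ
      simp only [Finset.mem_union, Finset.mem_insert, Finset.mem_singleton] at hφ ⊢
      rcases hφ with h | rfl | rfl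
      · exact Or.inl (hXc φ h)
      · exact Or.inr (Or.inr rfl)
      · exact Or.inr (Or.inl (conjFun_conjFun χ))
  have hlt : X.card < (X ∪ {χ, Cfsg.conjFun χ}).card :=
    Finset.card_lt_card ⟨Finset.subset_union_left, fun h => hχX (h (by simp))⟩
  exact absurd (hmax _ hmem) (by omega)

end Above

section Degree

variable (K : Subgroup L)

/-- `θ(1) ≤ [K : C] √[C : D]` for an irreducible character of `K/B`, `D/B` central in `C/B`. -/
theorem degree_bound {B C D : Subgroup L} [B.Normal] (hBD : B ≤ D) (_hDC : D ≤ C) (hCK : C ≤ K)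
    (hcent : ∀ x ∈ D, ∀ y ∈ C, x * y * x⁻¹ * y⁻¹ ∈ B) {θ : K → ℂ} (hθ : Cfsg.IsIrrCharacter K θ)
    (hker : ∀ a : K, (a : L) ∈ B → θ a = θ 1) {f : ℕ} (hf : θ 1 = (f : ℂ)) :
    f ^ 2 ≤ C.relIndex K ^ 2 * D.relIndex C := by
  classical
  haveI := Fintype.ofFinite K
  set C' := C.subgroupOf K with hC'
  haveI := Fintype.ofFinite C'
  have hres : Cfsg.IsCharacter C' (fun y : C' => θ y) :=
    isCharacter_restrict C' (isCharacter_of_isIrr hθ)
  obtain ⟨η, hη, hηθ⟩ := Constituent.exists_constituent hres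
    (by simpa using irr_one_ne_zero hθ)
  obtain ⟨g, hg⟩ := char_one_nat (isCharacter_of_isIrr hη)
  have hind : Cfsg.classInner (Cfsg.indFun C' η) θ ≠ 0 := by
    rw [frobenius_reciprocity C' η (char_isClassFunction (isCharacter_of_isIrr hθ))]
    exact fun e => hηθ (inner_comm_zero e)
  have hle := irr_degree_le (isCharacter_indFun C' (isCharacter_of_isIrr hη)) hθ hind
  rw [hf, indFun_one, hg, ← Nat.cast_mul, Complex.natCast_re, Complex.natCast_re, Nat.cast_le,
    show C'.index = C.relIndex K from rfl] at hle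
  set N := (B.subgroupOf K).subgroupOf C'
  obtain ⟨ψ, -, hψ, hψi⟩ := exists_deflate_quotient N (isCharacter_of_isIrr hη) fun x hx =>
    Constituent.constituent_apply_eq_one hres hη hηθ (g := x) (by
      show θ (x : K) = θ ((1 : C') : K)
      rw [OneMemClass.coe_one]; exact hker _ hx)
  have h1 := CN.degree_sq_le_center_index (hψi hη) (n := g) (by
    rw [← hg, ← hψ 1, QuotientGroup.mk_one])
  set D' := (D.subgroupOf K).subgroupOf C'
  have hND : N ≤ D' := fun x hx => hBD hx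
  have h2 : (Subgroup.center (C' ⧸ N)).index ≤ D.relIndex C := by
    have hmap : D'.map (QuotientGroup.mk' N) ≤ Subgroup.center (C' ⧸ N) := by
      rintro - ⟨x, hx, rfl⟩
      rw [Subgroup.mem_center_iff]
      intro q
      obtain ⟨y, rfl⟩ := QuotientGroup.mk'_surjective N q
      rw [← map_mul, ← map_mul]
      refine (QuotientGroup.eq (s := N)).2 ?_
      show (((y * x)⁻¹ * (x * y) : C') : K).1 ∈ B
      have := hcent _ hx _ y.2
      have h' := (inferInstance : B.Normal).conj_mem _ this ((((y : K) : L) * (x : K))⁻¹)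
      simpa [mul_assoc] using h'
    have h3 := Subgroup.index_antitone hmap
    rw [Subgroup.index_map_eq D' (QuotientGroup.mk'_surjective N)
      (by rw [QuotientGroup.ker_mk']; exact hND)] at h3
    refine h3.trans (le_of_eq ?_)
    show (D.subgroupOf K).relIndex C' = D.relIndex C
    exact Subgroup.relIndex_subgroupOf hCK
  calc f ^ 2 ≤ (C.relIndex K * g) ^ 2 := Nat.pow_le_pow_left hle 2
    _ = C.relIndex K ^ 2 * g ^ 2 := by ring
    _ ≤ C.relIndex K ^ 2 * D.relIndex C := Nat.mul_le_mul_left _ (h1.trans h2)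

end Degree

section Nilpotent

variable (K : Subgroup L) [hK : K.Normal] (hsolv : Group.IsSolvable K)
  {τ : (L → ℂ) → (G → ℂ)} {R : (L → ℂ) → Finset (G → ℂ)}
  (hS : Cfsg.IsCoherenceSystem (Cfsg.inducedIrrAbove K ⊥) τ R)

include hsolv hS

/-- `S(B)` is coherent when `S(A)` is and `4 [L:C]² [C:D] < ([K:A] - 1)²`. -/
theorem coherent_step {A B C D : Subgroup L} [A.Normal] [B.Normal] (hAK : A < K) (hBK : B < K)
    (hBD : B ≤ D) (hDC : D ≤ C) (hCK : C ≤ K)
    (hcent : ∀ x ∈ D, ∀ y ∈ C, x * y * x⁻¹ * y⁻¹ ∈ B)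
    (hA : Cfsg.IsCoherent (Cfsg.inducedIrrAbove K A) {1}ᶜ τ)
    (hlt : 4 * C.index ^ 2 * D.relIndex C < (A.relIndex K - 1) ^ 2) :
    Cfsg.IsCoherent (Cfsg.inducedIrrAbove K B) {1}ᶜ τ := by
  refine coherent_above_step K hsolv hS hAK hBK hA fun θ hθ hker f hf => ?_
  have hb := degree_bound K hBD hDC hCK hcent hθ hker hf
  have hC : C.index = C.relIndex K * K.index := (Subgroup.relIndex_mul_index hCK).symm
  refine (Nat.pow_lt_pow_iff_left two_ne_zero).1 (lt_of_le_of_lt ?_ hlt)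
  calc (2 * K.index * f) ^ 2 = 4 * K.index ^ 2 * f ^ 2 := by ring
    _ ≤ 4 * K.index ^ 2 * (C.relIndex K ^ 2 * D.relIndex C) := Nat.mul_le_mul_left _ hb
    _ = 4 * C.index ^ 2 * D.relIndex C := by rw [hC]; ring

/-- Coherence descends along a nilpotent section that is large. -/
theorem coherent_nilpotent {M H₁ H : Subgroup L} [M.Normal] [H₁.Normal] [H.Normal] (hMH₁ : M ≤ H₁)
    (hH₁H : H₁ ≤ H) (hHK : H ≤ K) [(M.subgroupOf H).Normal]
    (hnil : Group.IsNilpotent (H ⧸ M.subgroupOf H))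
    (hcoh : Cfsg.IsCoherent (Cfsg.inducedIrrAbove K H₁) {1}ᶜ τ)
    (hbig : 4 * K.index ^ 2 + 1 < H₁.relIndex H) :
    Cfsg.IsCoherent (Cfsg.inducedIrrAbove K M) {1}ᶜ τ := by
  classical
  obtain ⟨H₂, -, ⟨⟨hN₂, hMH₂, hH₂₁, hcoh₂⟩, hmin⟩⟩ := Set.Finite.exists_le_minimal
    (Set.toFinite {X : Subgroup L | X.Normal ∧ M ≤ X ∧ X ≤ H₁ ∧
      Cfsg.IsCoherent (Cfsg.inducedIrrAbove K X) {1}ᶜ τ}) (a := H₁)
    ⟨inferInstance, hMH₁, le_rfl, hcoh⟩
  haveI := hN₂
  by_cases hM : H₂ ≤ M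
  · exact le_antisymm hM hMH₂ ▸ hcoh₂
  obtain ⟨B, -, ⟨⟨hNB, hMB, hB₂⟩, hmax⟩⟩ := Set.Finite.exists_le_maximal
    (Set.toFinite {X : Subgroup L | X.Normal ∧ M ≤ X ∧ X < H₂}) (a := M)
    ⟨inferInstance, le_rfl, lt_of_le_not_ge hMH₂ hM⟩
  haveI := hNB
  have h₂H : H₂ ≤ H := hH₂₁.trans hH₁H
  have hH₂K : H₂ < K := by
    refine lt_of_le_of_ne (h₂H.trans hHK) fun e => ?_
    have e₁ : H₁ = H := le_antisymm hH₁H (hHK.trans (e.symm.le.trans hH₂₁))
    rw [e₁, Subgroup.relIndex_self] at hbig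
    omega
  have hcent : ∀ x ∈ H₂, ∀ y ∈ H, x * y * x⁻¹ * y⁻¹ ∈ B := by
    by_contra hnc
    have hle : ⁅H₂, H⁆ ⊔ B = H₂ := by
      refine le_antisymm (sup_le (Subgroup.commutator_le_left H₂ H) hB₂.le) ?_
      by_contra hlt
      have := hmax ⟨inferInstance, hMB.trans le_sup_right,
        lt_of_le_not_ge (sup_le (Subgroup.commutator_le_left H₂ H) hB₂.le) hlt⟩ le_sup_right
      exact hnc fun x hx y hy => this (Subgroup.mem_sup_left
        (Subgroup.commutator_mem_commutator hx hy))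
    -- iterate: `H₂ ≤ B ⊔ γ_k(H)` for all `k`
    obtain ⟨k, hk⟩ := Subgroup.nilpotent_iff_lowerCentralSeries.1 hnil
    have hnorm : ∀ j, (H.lowerCentralSeries j).Normal := by
      intro j
      induction j with
      | zero => simpa using (inferInstance : H.Normal)
      | succ j ih => haveI := ih; rw [Subgroup.lowerCentralSeries_succ]; infer_instance
    have hstep : ∀ j, H₂ ≤ H.lowerCentralSeries j ⊔ B := by
      intro j
      induction j with
      | zero => exact le_sup_of_le_left (by simpa using h₂H)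
      | succ j ih =>
        conv_lhs => rw [← hle]
        refine sup_le ?_ le_sup_right
        haveI := hnorm j
        refine (Subgroup.commutator_mono ih le_rfl).trans ?_
        rw [Subgroup.commutator_le]
        intro x hx y hy
        obtain ⟨u, hu, b, hb, rfl⟩ := Subgroup.mem_sup_of_normal_right.1 hx
        have e : ⁅u * b, y⁆ = (u * ⁅b, y⁆ * u⁻¹) * ⁅u, y⁆ := by
          simp only [commutatorElement_def]; group
        rw [e]
        refine Subgroup.mul_mem _ (Subgroup.mem_sup_right (hNB.conj_mem _ ?_ u))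
          (Subgroup.mem_sup_left ?_)
        · rw [commutatorElement_def, mul_assoc b, mul_assoc b]
          exact B.mul_mem hb (by simpa [mul_assoc] using hNB.conj_mem _ (B.inv_mem hb) y)
        · rw [Subgroup.lowerCentralSeries_succ]
          exact Subgroup.commutator_mem_commutator hu hy
    refine hB₂.not_ge ((hstep k).trans (sup_le ?_ le_rfl))
    rw [← Subgroup.top_subtype_lowerCentralSeries H k]
    rintro - ⟨u, hu, rfl⟩
    have h1 := Subgroup.mem_map_of_mem (QuotientGroup.mk' (M.subgroupOf H)) hu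
    rw [Subgroup.map_lowerCentralSeries, Subgroup.map_top_of_surjective _
      (QuotientGroup.mk'_surjective _), hk, Subgroup.mem_bot] at h1
    exact hMB ((QuotientGroup.eq_one_iff u).1 h1)
  have hBK : B < K := hB₂.trans hH₂K
  have hrel : H₂.relIndex H * H.relIndex K = H₂.relIndex K := Subgroup.relIndex_mul_relIndex _ _ _ h₂H hHK
  have hb : 4 * K.index ^ 2 + 1 < H₂.relIndex H :=
    lt_of_lt_of_le hbig (Nat.le_of_dvd (Nat.pos_of_ne_zero (Subgroup.index_ne_zero_of_finite))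
      (Subgroup.relIndex_dvd_of_le_left H hH₂₁))
  have hcohB := coherent_step K hsolv hS hH₂K hBK hB₂.le h₂H hHK hcent hcoh₂ (by
    rw [← Subgroup.relIndex_mul_index hHK, ← hrel]
    have ha : 0 < H.relIndex K := Nat.pos_of_ne_zero (Subgroup.index_ne_zero_of_finite)
    have hab : 1 ≤ H₂.relIndex H * H.relIndex K := Nat.mul_pos (by omega) ha
    zify [hab] at hb ha ⊢
    nlinarith [mul_le_mul_of_nonneg_left hb (mul_nonneg (mul_nonneg
      (show (0 : ℤ) ≤ (H₂.relIndex H : ℤ) by positivity) ha.le) ha.le),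
      mul_le_mul_of_nonneg_left (show (1 : ℤ) ≤ (H.relIndex K : ℤ) from ha)
        (mul_nonneg (show (0 : ℤ) ≤ (H₂.relIndex H : ℤ) by positivity) ha.le)])
  exact absurd (hmin ⟨hNB, hMB, hB₂.le.trans hH₂₁, hcohB⟩ hB₂.le) hB₂.not_ge

end Nilpotent

end Cfsg.Agent.OddChar.Coherence
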