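import Cfsg.Agent.OddChar.Coherence.Irr
import Cfsg.Agent.Lib.Characters.Coherence

/-!
# Sets of irreducible characters of one degree are coherent
-/

set_option linter.style.haveILetI false
set_option linter.unusedSectionVars false

namespace Cfsg.Agent.OddChar.Coherence

open Cfsg.Agent.Characters Cfsg.Agent.OddChar.Isometry

universe u v

variable {L : Type u} [Group L] [Fintype L] {G : Type v} [Group G] [Fintype G]

/-- Irreducible characters of equal degree form a coherent set, without any hypothesis on conjugation. -/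
theorem coherent_irr_equal_degree (s : Finset (L → ℂ)) (hirr : ∀ χ ∈ s, Cfsg.IsIrrCharacter L χ)
    (hdeg : ∀ χ ∈ s, ∀ ψ ∈ s, χ 1 = ψ 1) (h2 : 2 ≤ s.card) {τ : (L → ℂ) → (G → ℂ)}
    (hτ : Cfsg.IsLinearIsometryOn (Cfsg.zspanOn (↑s : Set (L → ℂ)) {1}ᶜ) τ)
    (hτ1 : ∀ α ∈ Cfsg.zspanOn (↑s : Set (L → ℂ)) {1}ᶜ, τ α 1 = 0) :
    Cfsg.IsCoherent (↑s : Set (L → ℂ)) {1}ᶜ τ := by
  classical
  let M : Submodule ℤ (L → ℂ) :=
    { carrier := Cfsg.zspanOn (↑s : Set (L → ℂ)) {1}ᶜ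
      add_mem' := fun {a b} ha hb => mem_zspanOn_compl_one (Submodule.add_mem _ ha.1 hb.1)
        (by rw [Pi.add_apply, apply_one_eq_zero ha, apply_one_eq_zero hb, add_zero])
      zero_mem' := mem_zspanOn_compl_one (Submodule.zero_mem _) rfl
      smul_mem' := fun c {a} ha => mem_zspanOn_compl_one (Submodule.smul_mem _ c ha.1)
        (by rw [Pi.smul_apply, apply_one_eq_zero ha, smul_zero]) }
  have hτM : Cfsg.IsLinearIsometryOn (M : Set (L → ℂ)) τ := hτ
  let e : Fin s.card ≃ s := s.equivFin.symm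
  let i₀ : Fin s.card := ⟨0, by omega⟩
  set χ₀ : L → ℂ := (e i₀ : L → ℂ) with hχ₀def
  have hχ₀ : χ₀ ∈ s := (e i₀).2
  have hmem : ∀ χ ∈ s, χ - χ₀ ∈ M := fun χ hχ =>
    mem_zspanOn_compl_one (Submodule.sub_mem _ (mem_zS hχ) (mem_zS hχ₀))
      (by rw [Pi.sub_apply, hdeg χ hχ χ₀ hχ₀, sub_self])
  let T : Fin s.card → (G → ℂ) := fun i => τ ((e i : L → ℂ) - χ₀)
  have hT0 : T i₀ = 0 := by
    show τ (χ₀ - χ₀) = 0
    rw [sub_self]; exact map_zero' hτM
  obtain ⟨ε, hε, μ, hμ, hμinj, hTμ⟩ := exists_coherent_family i₀ T hT0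
    (fun i => hτ.2.2.2 _ (hmem _ (e i).2)) (fun i => hτ1 _ (hmem _ (e i).2)) (by
      intro i j hi hj
      have hi' : (e i : L → ℂ) ≠ χ₀ := fun h => hi (e.injective (Subtype.ext h))
      have hj' : (e j : L → ℂ) ≠ χ₀ := fun h => hj (e.injective (Subtype.ext h))
      have hirr' : ∀ ξ ∈ (↑s : Set (L → ℂ)), Cfsg.IsIrrCharacter L ξ := hirr
      show Cfsg.classInner (τ _) (τ _) = _
      rw [hτ.2.2.1 _ (hmem _ (e i).2) _ (hmem _ (e j).2), classInner_sub_left,
        classInner_sub_right, classInner_sub_right, irr_orth hirr' (e i).2 (e j).2,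
        irr_orth hirr' (e i).2 hχ₀, irr_orth hirr' hχ₀ (e j).2, irr_orth hirr' hχ₀ hχ₀,
        if_neg hi', if_neg (Ne.symm hj'), if_pos rfl]
      by_cases h : i = j
      · subst h; simp; norm_num
      · rw [if_neg fun h' => h (e.injective (Subtype.ext h')), if_neg h]; ring)
  let f : (L → ℂ) → (G → ℂ) := fun χ => if h : χ ∈ s then ε • μ (e.symm ⟨χ, h⟩) else 0
  have hf : ∀ i, f (e i : L → ℂ) = ε • μ i := fun i => by
    simp only [f, dif_pos (e i).2, Subtype.coe_eta, Equiv.symm_apply_apply]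
  have hεε : ε * (starRingEnd ℂ) ε = 1 := by rcases hε with rfl | rfl <;> simp
  have horth : ∀ a ∈ s, ∀ b ∈ s, a ≠ b → Cfsg.classInner a b = 0 := fun a ha b hb h =>
    classInner_isIrr_ne (hirr a ha) (hirr b hb) h
  have hne : ∀ a ∈ s, Cfsg.classInner a a ≠ 0 := fun a ha => by
    rw [classInner_isIrr_self (hirr a ha)]; exact one_ne_zero
  have hgram : ∀ a ∈ s, ∀ b ∈ s, Cfsg.classInner (f a) (f b) = Cfsg.classInner a b := by
    intro a ha b hb
    obtain ⟨i, hi⟩ := e.surjective ⟨a, ha⟩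
    obtain ⟨j, hj⟩ := e.surjective ⟨b, hb⟩
    obtain rfl : (e i : L → ℂ) = a := congrArg Subtype.val hi
    obtain rfl : (e j : L → ℂ) = b := congrArg Subtype.val hj
    rw [hf, hf, classInner_smul_left, classInner_smul_right, ← mul_assoc, hεε, one_mul]
    by_cases h : i = j
    · subst h; rw [classInner_isIrr_self (hμ i), classInner_isIrr_self (hirr _ ha)]
    · rw [classInner_isIrr_ne (hμ i) (hμ j) fun h' => h (hμinj h'),
        horth _ ha _ hb fun h' => h (e.injective (Subtype.ext h'))]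
  have hgen : ∀ a ∈ s, Cfsg.IsGeneralizedCharacter G (f a) := by
    intro a ha
    obtain ⟨i, hi⟩ := e.surjective ⟨a, ha⟩
    obtain rfl : (e i : L → ℂ) = a := congrArg Subtype.val hi
    rw [hf]
    rcases hε with rfl | rfl
    · rw [one_smul]; exact isGen_of_isCharacter (isCharacter_of_isIrr (hμ i))
    · rw [show ((-1 : ℂ) • μ i) = ((-1 : ℤ) : ℂ) • μ i by norm_num]
      exact isGen_intSmul (isGen_of_isCharacter (isCharacter_of_isIrr (hμ i))) _
  obtain ⟨d₀, hd₀, hd₀'⟩ := irr_one_pos (hirr _ hχ₀)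
  refine ⟨?_, extend s f, extend_isometry horth hne hgram hgen, ?_⟩
  · obtain ⟨χ, hχ, hχne⟩ := s.exists_mem_ne h2 χ₀
    exact ⟨_, hmem χ hχ, sub_ne_zero.2 hχne⟩
  · intro α hα
    suffices h : ∀ β ∈ Cfsg.zspan (↑s : Set (L → ℂ)), ∃ m : ℤ, β 1 = (m : ℂ) * χ₀ 1 ∧
        β - m • χ₀ ∈ M ∧ extend s f β = τ (β - m • χ₀) + m • f χ₀ by
      obtain ⟨m, hm, -, hm'⟩ := h α hα.1
      rw [apply_one_eq_zero hα, hd₀'] at hm
      obtain rfl : m = 0 := by
        rcases mul_eq_zero.1 hm.symm with h' | h'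
        · exact_mod_cast h'
        · exact absurd h' (Nat.cast_ne_zero.2 hd₀.ne')
      rw [hm', zero_smul, zero_smul, add_zero, sub_zero]
    intro β hβ
    refine Submodule.span_induction (p := fun β _ => ∃ m : ℤ, β 1 = (m : ℂ) * χ₀ 1 ∧
      β - m • χ₀ ∈ M ∧ extend s f β = τ (β - m • χ₀) + m • f χ₀) ?_ ?_ ?_ ?_ hβ
    · intro χ hχ
      obtain ⟨i, hi⟩ := e.surjective ⟨χ, hχ⟩
      obtain rfl : (e i : L → ℂ) = χ := congrArg Subtype.val hi
      refine ⟨1, by rw [Int.cast_one, one_mul]; exact hdeg _ hχ _ hχ₀,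
        by rw [one_smul]; exact hmem _ hχ, ?_⟩
      rw [extend_apply horth hne hχ, one_smul, one_smul, hf, hχ₀def, hf]
      show ε • μ i = T i + ε • μ i₀
      rw [hTμ i, smul_sub, sub_add_cancel]
    · exact ⟨0, by simp, by simp, by simp [map_zero' hτM]⟩
    · rintro a b - - ⟨m, hm, hmM, hm'⟩ ⟨n, hn, hnM, hn'⟩
      have e1 : a + b - (m + n) • χ₀ = (a - m • χ₀) + (b - n • χ₀) := by module
      refine ⟨m + n, by rw [Pi.add_apply, hm, hn]; push_cast; ring, e1 ▸ M.add_mem hmM hnM, ?_⟩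
      rw [map_add, hm', hn', e1, hτ.1 _ hmM _ hnM, add_smul]
      abel
    · rintro c a - ⟨m, hm, hmM, hm'⟩
      have e1 : c • a - (c * m) • χ₀ = c • (a - m • χ₀) := by module
      refine ⟨c * m, by rw [Pi.smul_apply, hm, zsmul_eq_mul]; push_cast; ring,
        e1 ▸ M.smul_mem c hmM, ?_⟩
      rw [map_zsmul, hm', e1, hτ.2.1 _ hmM, smul_add, smul_smul]

end Cfsg.Agent.OddChar.Coherence
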