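import Cfsg.Agent.OddChar.Coherence.System

/-!
# Extending coherence by a pair of conjugate characters; equal degrees
-/

set_option linter.style.haveILetI false
set_option linter.unusedSectionVars false

namespace Cfsg.Agent.OddChar.Coherence

open Cfsg.Agent.Characters Cfsg.Agent.OddChar.Isometry
open scoped ComplexConjugate

universe u v

variable {L : Type u} [Group L] [Fintype L] {G : Type v} [Group G] [Fintype G]
variable {S : Set (L → ℂ)} {τ : (L → ℂ) → (G → ℂ)} {R : (L → ℂ) → Finset (G → ℂ)}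
  (hS : Cfsg.IsCoherenceSystem S τ R)

include hS

theorem tau_isometry : Cfsg.IsLinearIsometryOn (zOn S {1}ᶜ : Set (L → ℂ)) τ := hS.isometry

set_option maxHeartbeats 1600000 in
/-- Adding a pair of conjugate characters to a coherent set. -/
theorem extend_pair (d n : (L → ℂ) → ℕ) (hd : ∀ φ ∈ S, φ 1 = (d φ : ℂ))
    (hn : ∀ φ ∈ S, Cfsg.classInner φ φ = (n φ : ℂ)) (S₁ : Finset (L → ℂ)) (hS₁ : ↑S₁ ⊆ S)
    (hS₁c : ∀ φ ∈ S₁, Cfsg.conjFun φ ∈ S₁)
    (hcoh : Cfsg.IsCoherent (↑S₁ : Set (L → ℂ)) {1}ᶜ τ) {χ : L → ℂ} (hχ : χ ∈ S) (hχ₁ : χ ∉ S₁)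
    (hχ₂ : Cfsg.conjFun χ ∉ S₁) {χ₁ : L → ℂ} (hχ₁S : χ₁ ∈ S₁) (hdvd : d χ₁ ∣ d χ)
    (hineq : (2 * d χ * d χ₁ : ℝ) < ∑ φ ∈ S₁, ((d φ : ℝ) ^ 2 / (n φ : ℝ))) :
    Cfsg.IsCoherent (↑S₁ ∪ {χ, Cfsg.conjFun χ} : Set (L → ℂ)) {1}ᶜ τ := by
  classical
  obtain ⟨-, σ, hσ, hστ⟩ := hcoh
  obtain ⟨m, hm⟩ := hdvd
  have hS₁' : ∀ φ ∈ S₁, φ ∈ S := fun φ h => hS₁ h
  have hχbar : Cfsg.conjFun χ ∈ S := hS.conj_mem χ hχ
  have hne : ∀ φ ∈ S₁, φ ≠ χ ∧ φ ≠ Cfsg.conjFun χ := fun φ h =>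
    ⟨fun e => hχ₁ (e ▸ h), fun e => hχ₂ (e ▸ h)⟩
  have hn0 : ∀ φ ∈ S, 0 < n φ := fun φ h => by
    obtain ⟨k, hk, hk'⟩ := norm_pos hS h
    rw [hn φ h, Nat.cast_inj] at hk'; omega
  have hd0 : ∀ φ ∈ S, 0 < d φ := fun φ h => by
    obtain ⟨k, hk, hk'⟩ := degree_pos hS h
    rw [hd φ h, Nat.cast_inj] at hk'; omega
  have hd₁ : 0 < d χ₁ := hd0 χ₁ (hS₁' _ hχ₁S)
  have horth₁ : ∀ φ ∈ S₁, ∀ φ' ∈ S₁, Cfsg.classInner (σ φ) (σ φ') =
      if φ = φ' then (n φ : ℂ) else 0 := by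
    intro φ h φ' h'
    rw [hσ.2.2.1 _ (mem_zS h) _ (mem_zS h')]
    split_ifs with e
    · rw [← e]; exact hn φ (hS₁' _ h)
    · exact hS.orthogonal φ (hS₁' _ h) φ' (hS₁' _ h') e
  -- images of `S₁` are orthogonal to `R χ`
  have hσR : ∀ φ ∈ S₁, ∀ a ∈ R χ, Cfsg.classInner (σ φ) a = 0 := by
    intro φ hφ a ha
    have hφS := hS₁' φ hφ
    have hmem : φ - Cfsg.conjFun φ ∈ Cfsg.zspanOn (↑S₁ : Set (L → ℂ)) {1}ᶜ :=
      mem_zspanOn_compl_one (Submodule.sub_mem _ (mem_zS hφ) (mem_zS (hS₁c φ hφ)))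
        (by rw [Pi.sub_apply, conj_one hS hφS, sub_self])
    rw [eq_part hS hφS hσ (mem_zS hφ) hmem.1 (hστ _ hmem)]
    exact inner_part_other hS hχ hφS (hne φ hφ).1 (hne φ hφ).2 _ ha
  set ψ : L → ℂ := (m : ℤ) • χ₁ with hψ
  have hα : χ - ψ ∈ Cfsg.zspanOn S {1}ᶜ :=
    mem_zspanOn_compl_one
      (Submodule.sub_mem _ (mem_zS hχ) (Submodule.smul_mem _ _ (mem_zS (hS₁' _ hχ₁S))))
      (by
        simp only [hψ, Pi.sub_apply, zsmul_eq_mul, Pi.mul_apply, Pi.intCast_apply, hd χ hχ,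
          hd χ₁ (hS₁' _ hχ₁S), hm]
        push_cast; ring)
  have h1 : Cfsg.classInner χ ψ = 0 := by
    rw [hψ, inner_smul_int_right,
      hS.orthogonal χ hχ χ₁ (hS₁' _ hχ₁S) (hne χ₁ hχ₁S).1.symm, mul_zero]
  have h2 : Cfsg.classInner (Cfsg.conjFun χ) ψ = 0 := by
    rw [hψ, inner_smul_int_right,
      hS.orthogonal _ hχbar χ₁ (hS₁' _ hχ₁S) (hne χ₁ hχ₁S).2.symm, mul_zero]
  have hψψ : Cfsg.classInner ψ ψ = (m : ℂ) * (m : ℂ) * n χ₁ := by
    rw [hψ, inner_smul_int_left, inner_smul_int_right, hn χ₁ (hS₁' _ hχ₁S)]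
    push_cast; ring
  set v : G → ℂ := τ (χ - ψ) with hvdef
  obtain ⟨hvv, hvsum⟩ := proj_estimate hS hχ h1 h2 hS.isometry hα (diff_mem hS hχ) rfl (hn χ hχ)
  have hvgen : Cfsg.IsGeneralizedCharacter G v := hS.isometry.2.2.2 _ hα
  have hb := part_bound hS hχ hvgen hvsum
  set P := part (R χ) v with hP
  set sq : ℝ := ∑ a ∈ R χ, ‖Cfsg.classInner v a‖ ^ 2 with hsq
  have hres : (Cfsg.classInner (v - P) (v - P)).re = n χ + (m : ℝ) ^ 2 * n χ₁ - sq := by
    rw [hP, part_residual (orthR hS hχ) (normR hS hχ), part_self (orthR hS hχ) (normR hS hχ),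
      hvdef, hvv, hψψ, ← hvdef]
    simp [sq, pow_two]
  have hPσ : ∀ φ ∈ S₁, Cfsg.classInner P (σ φ) = 0 := fun φ hφ => by
    rw [hP, part, classInner_sum_left]
    exact Finset.sum_eq_zero fun a ha => by
      rw [classInner_smul_left, inner_comm_zero (hσR φ hφ a ha), mul_zero]
  have hu : ∀ φ ∈ S₁, ∃ z : ℤ, Cfsg.classInner (v - P) (σ φ) = (z : ℂ) := fun φ hφ => by
    rw [classInner_sub_left, hPσ φ hφ, sub_zero]
    exact classInner_gen_int hvgen (hσ.2.2.2 _ (mem_zS hφ))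
  choose! u hu using hu
  have hu' : ∀ φ ∈ S₁, Cfsg.classInner v (σ φ) = (u φ : ℂ) := fun φ hφ => by
    rw [← hu φ hφ, classInner_sub_left, hPσ φ hφ, sub_zero]
  set c : ℤ := (m : ℤ) * n χ₁ + u χ₁ with hc
  have hrel : ∀ φ ∈ S₁, φ ≠ χ₁ → (d χ₁ : ℤ) * u φ = c * d φ := by
    intro φ hφ hφ1
    set β : L → ℂ := (d χ₁ : ℤ) • φ - (d φ : ℤ) • χ₁ with hβdef
    have hβ : β ∈ Cfsg.zspanOn (↑S₁ : Set (L → ℂ)) {1}ᶜ :=
      mem_zspanOn_compl_one
        (Submodule.sub_mem _ (Submodule.smul_mem _ _ (mem_zS hφ))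
          (Submodule.smul_mem _ _ (mem_zS hχ₁S)))
        (by
          simp only [hβdef, Pi.sub_apply, zsmul_eq_mul, Pi.mul_apply, Pi.intCast_apply,
            hd φ (hS₁' _ hφ), hd χ₁ (hS₁' _ hχ₁S)]
          push_cast; ring)
    have h := hS.isometry.2.2.1 _ hα _ (zspanOn_mono _ hS₁ hβ)
    rw [← hστ β hβ, hβdef,
      map_sub' (M := zS (↑S₁ : Set (L → ℂ))) hσ
        (Submodule.smul_mem _ _ (mem_zS hφ)) (Submodule.smul_mem _ _ (mem_zS hχ₁S)),
      hσ.2.1 _ (mem_zS hφ), hσ.2.1 _ (mem_zS hχ₁S), ← hvdef] at h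
    simp only [classInner_sub_left, classInner_sub_right, inner_smul_int_right, hu' φ hφ,
      hu' χ₁ hχ₁S, hψ, inner_smul_int_left,
      hS.orthogonal χ hχ φ (hS₁' _ hφ) (hne φ hφ).1.symm,
      hS.orthogonal χ hχ χ₁ (hS₁' _ hχ₁S) (hne χ₁ hχ₁S).1.symm,
      hS.orthogonal χ₁ (hS₁' _ hχ₁S) φ (hS₁' _ hφ) (Ne.symm hφ1), hn χ₁ (hS₁' _ hχ₁S)] at h
    have h' : (((d χ₁ : ℤ) * u φ : ℤ) : ℂ) = ((c * d φ : ℤ) : ℂ) := by
      rw [hc]; push_cast at h ⊢; linear_combination h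
    exact_mod_cast h'
  have hd₁' : (0 : ℝ) < d χ₁ := by exact_mod_cast hd₁
  have hn₁' : (0 : ℝ) < n χ₁ := by exact_mod_cast hn0 χ₁ (hS₁' _ hχ₁S)
  set T : ℝ := ∑ φ ∈ S₁, ((d φ : ℝ) ^ 2 / (n φ : ℝ)) with hT
  have hbes := bessel (s := S₁) (f := σ) (n := n) (fun φ h => hn0 φ (hS₁' _ h)) horth₁ hu
  have hsum : ∑ φ ∈ S₁, (u φ : ℝ) ^ 2 / (n φ : ℝ) =
      (c : ℝ) ^ 2 * T / (d χ₁ : ℝ) ^ 2 + ((m : ℝ) ^ 2 * n χ₁ - 2 * m * c) := by
    rw [hT, ← Finset.add_sum_erase _ _ hχ₁S, ← Finset.add_sum_erase _ _ hχ₁S]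
    have he : ∀ φ ∈ S₁.erase χ₁, (u φ : ℝ) ^ 2 / (n φ : ℝ) =
        (c : ℝ) ^ 2 * ((d φ : ℝ) ^ 2 / (n φ : ℝ)) / (d χ₁ : ℝ) ^ 2 := by
      intro φ hφ
      have h := hrel φ (Finset.mem_of_mem_erase hφ) (Finset.ne_of_mem_erase hφ)
      have h' : (d χ₁ : ℝ) * (u φ : ℝ) = (c : ℝ) * (d φ : ℝ) := by exact_mod_cast h
      have h2 : (u φ : ℝ) = (c : ℝ) * (d φ : ℝ) / (d χ₁ : ℝ) := by
        rw [eq_div_iff hd₁'.ne', mul_comm, h']
      rw [h2]; ring
    rw [Finset.sum_congr rfl he, ← Finset.sum_div, ← Finset.mul_sum]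
    have hu1 : (u χ₁ : ℝ) = (c : ℝ) - (m : ℝ) * n χ₁ := by rw [hc]; push_cast; ring
    rw [hu1]
    field_simp
    ring
  rw [hsum, hres] at hbes
  have hdm : (d χ : ℝ) = (d χ₁ : ℝ) * m := by exact_mod_cast hm
  have hc0 : c = 0 := by
    have hle : (c : ℝ) ^ 2 * T ≤ 2 * m * c * (d χ₁ : ℝ) ^ 2 := by
      have h := hb.1
      have h' : (c : ℝ) ^ 2 * T / (d χ₁ : ℝ) ^ 2 ≤ 2 * m * c := by linarith
      rwa [div_le_iff₀ (by positivity)] at h'
    have hTpos : 2 * (m : ℝ) * (d χ₁ : ℝ) ^ 2 < T := by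
      rw [hdm] at hineq
      nlinarith [hineq]
    rcases lt_trichotomy c 0 with h | h | h
    · have h1 : (c : ℝ) ≤ -1 := by exact_mod_cast (show c ≤ -1 by omega)
      have hT0 : 0 < T := lt_of_le_of_lt (by positivity) hTpos
      have hm0 : (0 : ℝ) ≤ 2 * m * (d χ₁ : ℝ) ^ 2 := by positivity
      nlinarith [mul_nonneg hm0 (neg_nonneg.2 (h1.trans (by norm_num))),
        mul_pos hT0 (show (0 : ℝ) < (c : ℝ) ^ 2 by nlinarith)]
    · exact h
    · have h1 : (1 : ℝ) ≤ c := by exact_mod_cast (show 1 ≤ c by omega)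
      have h2 : 0 < (c : ℝ) * (T - 2 * m * (d χ₁ : ℝ) ^ 2) := mul_pos (by linarith) (by linarith)
      have hT0 : 0 < T := lt_of_le_of_lt (by positivity) hTpos
      nlinarith [mul_le_mul_of_nonneg_right h1 (mul_nonneg (show (0:ℝ) ≤ c by linarith) hT0.le)]
  have hu1 : u χ₁ = -((m : ℤ) * n χ₁) := by omega
  have hsq_eq : sq = n χ := by
    have hc' : (c : ℝ) = 0 := by rw [hc0, Int.cast_zero]
    rw [hc'] at hbes
    have := hb.1
    simp at hbes
    linarith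
  have hvP : v - P = (-(m : ℂ)) • σ χ₁ := by
    have h := eq_of_bessel_le (s := {χ₁}) (f := σ) (n := n) (u := u) (v := v - P)
      (by simpa using hn0 χ₁ (hS₁' _ hχ₁S))
      (fun i hi j hj => by
        rw [Finset.mem_singleton.1 hi, Finset.mem_singleton.1 hj]; exact horth₁ _ hχ₁S _ hχ₁S)
      (fun i hi => by rw [Finset.mem_singleton.1 hi]; exact hu χ₁ hχ₁S)
      (by
        rw [hres, hsq_eq, Finset.sum_singleton, hu1]
        push_cast
        rw [le_div_iff₀ hn₁']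
        apply le_of_eq
        ring)
    rw [h, Finset.sum_singleton, hu1]
    congr 1
    push_cast
    field_simp [Nat.cast_ne_zero.2 (hn0 χ₁ (hS₁' _ hχ₁S)).ne']
  -- the extension
  set s : Finset (L → ℂ) := S₁ ∪ {χ, Cfsg.conjFun χ} with hs
  have hsS : ∀ φ ∈ s, φ ∈ S := fun φ h => by
    simp only [hs, Finset.mem_union, Finset.mem_insert, Finset.mem_singleton] at h
    rcases h with h | rfl | rfl
    exacts [hS₁' φ h, hχ, hχbar]
  let f : (L → ℂ) → (G → ℂ) := fun φ =>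
    if φ = χ then P else if φ = Cfsg.conjFun χ then P - ∑ a ∈ R χ, a else σ φ
  have hfχ : f χ = P := if_pos rfl
  have hfc : f (Cfsg.conjFun χ) = P - ∑ a ∈ R χ, a := by
    simp only [f, if_neg (hS.conj_ne χ hχ), ↓reduceIte]
  have hf₁ : ∀ φ ∈ S₁, f φ = σ φ := fun φ h => by
    simp only [f, if_neg (hne φ h).1, if_neg (hne φ h).2]
  have hPP : Cfsg.classInner P P = (n χ : ℂ) := by
    rw [hP, part_self (orthR hS hχ) (normR hS hχ), ← hsq, hsq_eq, Complex.ofReal_natCast]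
  have hPR : Cfsg.classInner P (∑ a ∈ R χ, a) = (n χ : ℂ) := by
    rw [hP, inner_part_sum (orthR hS hχ) (normR hS hχ), ← hS.sum_eq χ hχ]
    exact hvsum
  have hRP : Cfsg.classInner (∑ a ∈ R χ, a) P = (n χ : ℂ) := by
    rw [classInner_conj_symm P, hPR, map_natCast]
  have hRR : Cfsg.classInner (∑ a ∈ R χ, a) (∑ a ∈ R χ, a) = 2 * (n χ : ℂ) := by
    rw [inner_sum_self (orthR hS hχ) (normR hS hχ), card_R hS hχ (hn χ hχ)]; push_cast; ring
  have hRσ : ∀ φ ∈ S₁, Cfsg.classInner (∑ a ∈ R χ, a) (σ φ) = 0 := fun φ h => by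
    rw [classInner_sum_left]
    exact Finset.sum_eq_zero fun a ha => inner_comm_zero (hσR φ h a ha)
  have hgram : ∀ a ∈ s, ∀ b ∈ s, Cfsg.classInner (f a) (f b) = Cfsg.classInner a b := by
    intro a ha b hb
    simp only [hs, Finset.mem_union, Finset.mem_insert, Finset.mem_singleton] at ha hb
    rcases ha with ha | rfl | rfl <;> rcases hb with hb | rfl | rfl
    · rw [hf₁ a ha, hf₁ b hb, hσ.2.2.1 _ (mem_zS ha) _ (mem_zS hb)]
    · rw [hf₁ a ha, hfχ, inner_comm_zero (hPσ a ha),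
        hS.orthogonal a (hS₁' a ha) _ hχ (hne a ha).1]
    · rw [hf₁ a ha, hfc, classInner_sub_right, inner_comm_zero (hPσ a ha),
        inner_comm_zero (hRσ a ha), sub_zero, hS.orthogonal a (hS₁' a ha) _ hχbar (hne a ha).2]
    · rw [hf₁ b hb, hfχ, hPσ b hb, hS.orthogonal _ hχ b (hS₁' b hb) (hne b hb).1.symm]
    · rw [hfχ, hPP, hn _ hχ]
    · rw [hfχ, hfc, classInner_sub_right, hPP, hPR, sub_self, conj_orth hS hχ]
    · rw [hf₁ b hb, hfc, classInner_sub_left, hPσ b hb, hRσ b hb, sub_zero,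
        hS.orthogonal _ hχbar b (hS₁' b hb) (hne b hb).2.symm]
    · rw [hfχ, hfc, classInner_sub_left, hPP, hRP, sub_self, inner_comm_zero (conj_orth hS hχ)]
    · rw [hfc, classInner_sub_left, classInner_sub_right, classInner_sub_right, hPP, hPR, hRP, hRR,
        conj_norm hS hχ, hn _ hχ]
      ring
  have hgen : ∀ a ∈ s, Cfsg.IsGeneralizedCharacter G (f a) := by
    intro a ha
    simp only [hs, Finset.mem_union, Finset.mem_insert, Finset.mem_singleton] at ha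
    rcases ha with ha | rfl | rfl
    · rw [hf₁ a ha]; exact hσ.2.2.2 _ (mem_zS ha)
    · rw [hfχ]; exact isGen_part hS hχ hvgen
    · rw [hfc]; exact isGen_sub (isGen_part hS hχ hvgen) (isGen_sum _ _ (hS.virtual χ hχ))
  have horths : ∀ a ∈ s, ∀ b ∈ s, a ≠ b → Cfsg.classInner a b = 0 := fun a ha b hb =>
    hS.orthogonal a (hsS a ha) b (hsS b hb)
  have hnes : ∀ a ∈ s, Cfsg.classInner a a ≠ 0 := fun a ha => inner_self_ne hS (hsS a ha)
  set F := extend s f with hF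
  have hFiso := extend_isometry horths hnes hgram hgen
  have hset : (↑s : Set (L → ℂ)) = ↑S₁ ∪ {χ, Cfsg.conjFun χ} := by simp [hs]
  have hFσ : ∀ β ∈ Cfsg.zspan (↑S₁ : Set (L → ℂ)), F β = σ β := fun β hβ => by
    refine Submodule.span_induction (p := fun x _ => F x = σ x)
      (fun x hx => ?_) ?_ ?_ ?_ hβ
    · rw [hF, extend_apply horths hnes (Finset.mem_union_left _ hx), hf₁ x hx]
    · rw [map_zero, map_zero' (M := zS (↑S₁ : Set (L → ℂ))) hσ]
    · intro x y hx hy ex ey; rw [map_add, ex, ey, hσ.1 x hx y hy]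
    · intro k x hx ex; rw [map_zsmul, ex, hσ.2.1 x hx k]
  refine ⟨⟨χ - Cfsg.conjFun χ, ?_, sub_ne_zero.2 (hS.conj_ne χ hχ).symm⟩, F, hset ▸ hFiso, ?_⟩
  · exact mem_zspanOn_compl_one (Submodule.sub_mem _ (mem_zS (Or.inr (Or.inl rfl)))
      (mem_zS (Or.inr (Or.inr rfl)))) (by rw [Pi.sub_apply, conj_one hS hχ, sub_self])
  intro α hα'
  have hm' : α ∈ Submodule.span ℤ ((↑S₁ : Set (L → ℂ)) ∪ {χ, Cfsg.conjFun χ}) := hα'.1
  rw [Submodule.span_union] at hm'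
  obtain ⟨β, hβ, γ, hγ, rfl⟩ := Submodule.mem_sup.1 hm'
  obtain ⟨a, b, rfl⟩ := Submodule.mem_span_pair.1 hγ
  have hdecomp : β + (a • χ + b • Cfsg.conjFun χ) =
      (β + (a + b) • ψ) + ((a + b) • (χ - ψ) + (-b) • (χ - Cfsg.conjFun χ)) := by module
  have hβ' : β + (a + b) • ψ ∈ Cfsg.zspanOn (↑S₁ : Set (L → ℂ)) {1}ᶜ := by
    refine mem_zspanOn_compl_one
      (Submodule.add_mem _ hβ (Submodule.smul_mem _ _ (Submodule.smul_mem _ _ (mem_zS hχ₁S)))) ?_
    have h0 := apply_one_eq_zero hα'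
    rw [hdecomp] at h0
    have e1 : (χ - ψ) 1 = 0 := apply_one_eq_zero hα
    have e2 : (χ - Cfsg.conjFun χ) 1 = 0 := apply_one_eq_zero (diff_mem hS hχ)
    simpa [Pi.add_apply, Pi.smul_apply, e1, e2] using h0
  have hz := tau_isometry hS
  have m1 : (β + (a + b) • ψ) ∈ zOn S {1}ᶜ := zspanOn_mono _ hS₁ hβ'
  have m2 : (a + b) • (χ - ψ) ∈ zOn S {1}ᶜ := Submodule.smul_mem _ _ hα
  have m3 : (-b) • (χ - Cfsg.conjFun χ) ∈ zOn S {1}ᶜ := Submodule.smul_mem _ _ (diff_mem hS hχ)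
  have hFα : F (χ - ψ) = τ (χ - ψ) := by
    rw [map_sub, hF, extend_apply horths hnes (show χ ∈ s by simp [hs]), hfχ, ← hF, hψ, map_zsmul,
      hF, extend_apply horths hnes (show χ₁ ∈ s by simp [hs, hχ₁S]), hf₁ χ₁ hχ₁S, ← hψ, ← hvdef,
      ← sub_add_cancel v P, hvP, ← Int.cast_smul_eq_zsmul ℂ]
    push_cast
    module
  have hFd : F (χ - Cfsg.conjFun χ) = τ (χ - Cfsg.conjFun χ) := by
    rw [map_sub, hF, extend_apply horths hnes (show χ ∈ s by simp [hs]), hfχ,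
      extend_apply horths hnes (show Cfsg.conjFun χ ∈ s by simp [hs]), hfc, sub_sub_cancel,
      hS.sum_eq χ hχ]
  rw [hdecomp, map_add F (β + (a + b) • ψ), map_add F ((a + b) • (χ - ψ)),
    map_zsmul F (a + b) (χ - ψ), map_zsmul F (-b) (χ - Cfsg.conjFun χ),
    hFα, hFd, hFσ _ hβ'.1, hστ _ hβ',
    hz.1 _ m1 _ ((zOn S {1}ᶜ).add_mem m2 m3), hz.1 _ m2 _ m3, hz.2.1 _ hα,
    hz.2.1 _ (diff_mem hS hχ)]

/-- All degrees equal: the whole set is coherent. -/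
theorem coherent_of_equal_degree (hdeg : ∀ φ ∈ S, ∀ ψ ∈ S, φ 1 = ψ 1) :
    Cfsg.IsCoherent S {1}ᶜ τ := by
  classical
  obtain ⟨χ₁, hχ₁⟩ := hS.nonempty
  have hfin := finite_mem hS
  set s := hfin.toFinset with hs
  have hsmem : ∀ φ, φ ∈ s ↔ φ ∈ S := fun φ => hfin.mem_toFinset
  have hc₁ := hS.conj_mem χ₁ hχ₁
  obtain ⟨n₁, -, hn₁⟩ := norm_pos hS hχ₁
  have hdiff : ∀ φ ∈ S, φ - χ₁ ∈ Cfsg.zspanOn S {1}ᶜ := fun φ hφ =>
    mem_zspanOn_compl_one (Submodule.sub_mem _ (mem_zS hφ) (mem_zS hχ₁))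
      (by rw [Pi.sub_apply, hdeg φ hφ χ₁ hχ₁, sub_self])
  have hz := tau_isometry hS
  have hz0 : τ 0 = 0 := map_zero' hz
  -- the image of `χ₁`
  obtain ⟨A, hAgen, hAA, hAd⟩ : ∃ A : G → ℂ, Cfsg.IsGeneralizedCharacter G A ∧
      Cfsg.classInner A A = (n₁ : ℂ) ∧
      ∀ φ ∈ S, φ ≠ χ₁ → Cfsg.classInner (τ (φ - χ₁)) A = -(n₁ : ℂ) := by
    have hbarτ : τ (Cfsg.conjFun χ₁ - χ₁) = -∑ a ∈ R χ₁, a := by
      rw [← hS.sum_eq χ₁ hχ₁, ← map_neg' hz (diff_mem hS hχ₁), neg_sub]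
    by_cases hout : ∃ φ₂ ∈ S, φ₂ ≠ χ₁ ∧ φ₂ ≠ Cfsg.conjFun χ₁
    · obtain ⟨φ₂, hφ₂, hne, hne'⟩ := hout
      have key : ∀ φ ∈ S, φ ≠ χ₁ → φ ≠ Cfsg.conjFun χ₁ →
          τ (χ₁ - φ) = part (R χ₁) (τ (χ₁ - φ)) - part (R φ) (τ (φ - χ₁)) ∧
          Cfsg.classInner (part (R χ₁) (τ (χ₁ - φ))) (part (R χ₁) (τ (χ₁ - φ))) = (n₁ : ℂ) := by
        intro φ hφ h h'
        obtain ⟨k, -, hk⟩ := norm_pos hS hφ
        have m1 : χ₁ - φ ∈ Cfsg.zspanOn S {1}ᶜ := by
          rw [← neg_sub]; exact (zOn S {1}ᶜ).neg_mem (hdiff φ hφ)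
        have e := map_neg' hz (hdiff φ hφ)
        rw [neg_sub] at e
        have hcne : χ₁ ≠ Cfsg.conjFun φ := fun e' => h' (by rw [e', conjFun_conjFun])
        obtain ⟨hv, hvs⟩ := proj_estimate hS hχ₁ (hS.orthogonal _ hχ₁ _ hφ h.symm)
          (hS.orthogonal _ hc₁ _ hφ h'.symm) hS.isometry m1 (diff_mem hS hχ₁) rfl hn₁
        obtain ⟨hw, hws⟩ := proj_estimate hS hφ (hS.orthogonal _ hφ _ hχ₁ h)
          (hS.orthogonal _ (hS.conj_mem φ hφ) _ hχ₁ hcne.symm) hS.isometry (hdiff φ hφ)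
          (diff_mem hS hφ) rfl hk
        have b1 := (part_bound hS hχ₁ (hS.isometry.2.2.2 _ m1) hvs).1
        have b2 := (part_bound hS hφ (hS.isometry.2.2.2 _ (hdiff φ hφ)) hws).1
        set v := τ (χ₁ - φ) with hvdef
        have hwv : τ (φ - χ₁) = -v := by rw [e, neg_neg]
        rw [hwv] at b2 ⊢
        simp only [classInner_neg_left, norm_neg] at b2
        rw [hk] at hv
        have hortho : ∀ a ∈ R φ, Cfsg.classInner (part (R χ₁) v) a = 0 := fun a ha =>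
          inner_part_other hS hφ hχ₁ h.symm hcne v ha
        have hr := part_le (orthR hS hφ) (normR hS hφ) (v - part (R χ₁) v)
        have hr' : ∑ a ∈ R φ, ‖Cfsg.classInner (v - part (R χ₁) v) a‖ ^ 2 =
            ∑ a ∈ R φ, ‖Cfsg.classInner v a‖ ^ 2 :=
          Finset.sum_congr rfl fun a ha => by rw [classInner_sub_left, hortho a ha, sub_zero]
        have hres : (Cfsg.classInner (v - part (R χ₁) v) (v - part (R χ₁) v)).re =
            n₁ + k - ∑ a ∈ R χ₁, ‖Cfsg.classInner v a‖ ^ 2 := by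
          rw [part_residual (orthR hS hχ₁) (normR hS hχ₁),
            part_self (orthR hS hχ₁) (normR hS hχ₁), hv, Complex.sub_re, Complex.add_re,
            Complex.natCast_re, Complex.natCast_re, Complex.ofReal_re]
        rw [hr', hres] at hr
        have hsq : ∑ a ∈ R χ₁, ‖Cfsg.classInner v a‖ ^ 2 = (n₁ : ℝ) := by linarith
        refine ⟨?_, by rw [part_self (orthR hS hχ₁) (normR hS hχ₁), hsq, Complex.ofReal_natCast]⟩
        have h2 : v - part (R χ₁) v = part (R φ) (v - part (R χ₁) v) :=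
          eq_part_of_le (orthR hS hφ) (normR hS hφ) (by rw [hr', hres]; linarith)
        have h3 : part (R φ) (v - part (R χ₁) v) = -part (R φ) (-v) := by
          rw [part_neg, neg_neg]
          exact Finset.sum_congr rfl fun a ha => by
            rw [classInner_sub_left, hortho a ha, sub_zero]
        rw [sub_eq_add_neg, ← h3, ← h2, add_sub_cancel]
      set A := part (R χ₁) (τ (χ₁ - φ₂)) with hA
      have hm2 : χ₁ - φ₂ ∈ Cfsg.zspanOn S {1}ᶜ := by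
        rw [← neg_sub]; exact (zOn S {1}ᶜ).neg_mem (hdiff φ₂ hφ₂)
      have hsame : ∀ φ ∈ S, φ ≠ χ₁ → φ ≠ Cfsg.conjFun χ₁ →
          part (R χ₁) (τ (χ₁ - φ)) = A := by
        intro φ hφ h h'
        -- the difference lies in the span of `R φ` and `R φ₂`
        rw [hA]
        simp only [part]
        refine Finset.sum_congr rfl fun a ha => ?_
        congr 1
        by_cases hpair : φ = φ₂
        · rw [hpair]
        have m1 : χ₁ - φ ∈ Cfsg.zspanOn S {1}ᶜ := by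
          rw [← neg_sub]; exact (zOn S {1}ᶜ).neg_mem (hdiff φ hφ)
        have hd2 : φ₂ - φ ∈ Cfsg.zspanOn S {1}ᶜ :=
          mem_zspanOn_compl_one (Submodule.sub_mem _ (mem_zS hφ₂) (mem_zS hφ))
            (by rw [Pi.sub_apply, hdeg φ₂ hφ₂ φ hφ, sub_self])
        have e : τ (φ₂ - φ) = τ (χ₁ - φ) - τ (χ₁ - φ₂) := by
          rw [← map_sub' hz m1 hm2]; congr 1; abel
        have h0 : Cfsg.classInner (τ (φ₂ - φ)) a = 0 := by
          by_cases hconj : φ₂ = Cfsg.conjFun φ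
          · rw [hconj, ← neg_sub, map_neg' hz (diff_mem hS hφ), classInner_neg_left,
              hS.sum_eq φ hφ, classInner_sum_left, neg_eq_zero]
            exact Finset.sum_eq_zero fun b hb => hS.disjoint χ₁ hχ₁ φ hφ
              (hS.orthogonal φ hφ χ₁ hχ₁ h) (hS.orthogonal φ hφ _ hc₁ h') b hb a ha
          · have hφφ : φ ≠ Cfsg.conjFun φ₂ := fun e' => hconj (by rw [e', conjFun_conjFun])
            obtain ⟨k, -, hk⟩ := norm_pos hS hφ
            obtain ⟨k₂, -, hk₂⟩ := norm_pos hS hφ₂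
            obtain ⟨hv, hvs⟩ := proj_estimate hS hφ₂ (hS.orthogonal _ hφ₂ _ hφ (Ne.symm hpair))
              (hS.orthogonal _ (hS.conj_mem φ₂ hφ₂) _ hφ hφφ.symm) hS.isometry hd2
              (diff_mem hS hφ₂) rfl hk₂
            have hd2' : φ - φ₂ ∈ Cfsg.zspanOn S {1}ᶜ := by
              rw [← neg_sub]; exact (zOn S {1}ᶜ).neg_mem hd2
            obtain ⟨hw, hws⟩ := proj_estimate hS hφ (hS.orthogonal _ hφ _ hφ₂ hpair)
              (hS.orthogonal _ (hS.conj_mem φ hφ) _ hφ₂ (Ne.symm hconj)) hS.isometry hd2'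
              (diff_mem hS hφ) rfl hk
            have b1 := (part_bound hS hφ₂ (hS.isometry.2.2.2 _ hd2) hvs).1
            have b2 := (part_bound hS hφ (hS.isometry.2.2.2 _ hd2') hws).1
            set v := τ (φ₂ - φ) with hvdef
            have hwv : τ (φ - φ₂) = -v := by
              rw [hvdef, ← map_neg' hz hd2, neg_sub]
            rw [hwv] at b2
            simp only [classInner_neg_left, norm_neg] at b2
            rw [hk] at hv
            have hortho : ∀ b ∈ R φ, Cfsg.classInner (part (R φ₂) v) b = 0 := fun b hb =>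
              inner_part_other hS hφ hφ₂ (Ne.symm hpair) hconj v hb
            have hr' : ∑ b ∈ R φ, ‖Cfsg.classInner (v - part (R φ₂) v) b‖ ^ 2 =
                ∑ b ∈ R φ, ‖Cfsg.classInner v b‖ ^ 2 :=
              Finset.sum_congr rfl fun b hb => by rw [classInner_sub_left, hortho b hb, sub_zero]
            have h2 : v - part (R φ₂) v = part (R φ) (v - part (R φ₂) v) :=
              eq_part_of_le (orthR hS hφ) (normR hS hφ) (by
                rw [hr', part_residual (orthR hS hφ₂) (normR hS hφ₂),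
                  part_self (orthR hS hφ₂) (normR hS hφ₂), hv, Complex.sub_re, Complex.add_re,
                  Complex.natCast_re, Complex.natCast_re, Complex.ofReal_re]
                linarith)
            rw [sub_eq_iff_eq_add] at h2
            rw [h2, classInner_add_left, inner_part_other hS hχ₁ hφ h h' _ ha,
              inner_part_other hS hχ₁ hφ₂ hne hne' _ ha, add_zero]
        rw [e, classInner_sub_left, sub_eq_zero] at h0
        exact h0
      refine ⟨A, isGen_part hS hχ₁ (hS.isometry.2.2.2 _ hm2), (key φ₂ hφ₂ hne hne').2,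
        fun φ hφ h => ?_⟩
      by_cases h' : φ = Cfsg.conjFun χ₁
      · subst h'
        have hvs := (proj_estimate hS hχ₁ (hS.orthogonal _ hχ₁ _ hφ₂ hne.symm)
          (hS.orthogonal _ hc₁ _ hφ₂ hne'.symm) hS.isometry hm2 (diff_mem hS hχ₁) rfl hn₁).2
        rw [hbarτ, classInner_neg_left, hA, classInner_conj_symm,
          inner_part_sum (orthR hS hχ₁) (normR hS hχ₁), ← hS.sum_eq χ₁ hχ₁, hvs, map_natCast]
      · obtain ⟨k1, k2⟩ := key φ hφ h h'
        have m1 : χ₁ - φ ∈ Cfsg.zspanOn S {1}ᶜ := by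
          rw [← neg_sub]; exact (zOn S {1}ᶜ).neg_mem (hdiff φ hφ)
        rw [show φ - χ₁ = -(χ₁ - φ) by abel, map_neg' hz m1, classInner_neg_left, k1,
          classInner_sub_left]
        have hzero : Cfsg.classInner (part (R φ) (τ (φ - χ₁))) A = 0 := by
          rw [hA]
          conv_lhs => arg 2; rw [part]
          rw [classInner_sum_right]
          exact Finset.sum_eq_zero fun a ha => by
            rw [classInner_smul_right, inner_part_other hS hχ₁ hφ h h' _ ha, mul_zero]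
        rw [hzero, sub_zero, hsame φ hφ h h', ← hsame φ₂ hφ₂ hne hne',
          (key φ₂ hφ₂ hne hne').2]
    · push Not at hout
      obtain ⟨T, hT, hTc⟩ := Finset.exists_subset_card_eq (s := R χ₁) (n := n₁)
        (by rw [card_R hS hχ₁ hn₁]; omega)
      refine ⟨∑ a ∈ T, a, isGen_sum _ _ fun a ha => hS.virtual χ₁ hχ₁ a (hT ha),
        by rw [inner_sum_self (fun a ha b hb => orthR hS hχ₁ a (hT ha) b (hT hb))
          (fun a ha => normR hS hχ₁ a (hT ha)), hTc], fun φ hφ h => ?_⟩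
      rw [hout φ hφ h, hbarτ, classInner_neg_left, classInner_sum_right,
        Finset.sum_congr rfl (g := fun _ => (1 : ℂ)) fun a ha => ?_]
      · simp [hTc]
      · rw [classInner_sum_left, Finset.sum_eq_single a]
        · exact normR hS hχ₁ a (hT ha)
        · exact fun b hb hba => orthR hS hχ₁ b hb a (hT ha) hba
        · exact fun hn => absurd (hT ha) hn
  let f : (L → ℂ) → (G → ℂ) := fun φ => τ (φ - χ₁) + A
  have hgram : ∀ a ∈ s, ∀ b ∈ s, Cfsg.classInner (f a) (f b) = Cfsg.classInner a b := by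
    intro a ha b hb
    rw [hsmem] at ha hb
    have e1 : ∀ φ ∈ S, Cfsg.classInner (τ (φ - χ₁)) A = if φ = χ₁ then 0 else -(n₁ : ℂ) := by
      intro φ hφ
      split_ifs with h
      · rw [h, sub_self, hz0, classInner_zero_left]
      · exact hAd φ hφ h
    have e2 : ∀ φ ∈ S, Cfsg.classInner A (τ (φ - χ₁)) = if φ = χ₁ then 0 else -(n₁ : ℂ) := by
      intro φ hφ
      rw [classInner_conj_symm, e1 φ hφ]
      split_ifs <;> simp
    have e3 : ∀ φ ∈ S, Cfsg.classInner φ χ₁ = if φ = χ₁ then (n₁ : ℂ) else 0 := by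
      intro φ hφ
      split_ifs with h
      · rw [h, hn₁]
      · exact hS.orthogonal φ hφ χ₁ hχ₁ h
    have e4 : ∀ φ ∈ S, Cfsg.classInner χ₁ φ = if φ = χ₁ then (n₁ : ℂ) else 0 := by
      intro φ hφ
      rw [classInner_conj_symm, e3 φ hφ]
      split_ifs <;> simp
    simp only [f, classInner_add_left, classInner_add_right,
      hS.isometry.2.2.1 _ (hdiff a ha) _ (hdiff b hb), classInner_sub_left, classInner_sub_right,
      e1 a ha, e2 b hb, hAA, e3 a ha, e4 b hb, hn₁]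
    split_ifs <;> ring
  have horths : ∀ a ∈ s, ∀ b ∈ s, a ≠ b → Cfsg.classInner a b = 0 := fun a ha b hb =>
    hS.orthogonal a ((hsmem a).1 ha) b ((hsmem b).1 hb)
  have hnes : ∀ a ∈ s, Cfsg.classInner a a ≠ 0 := fun a ha => inner_self_ne hS ((hsmem a).1 ha)
  have hFiso := extend_isometry (f := f) horths hnes hgram fun a ha =>
    isGen_add (hS.isometry.2.2.2 _ (hdiff a ((hsmem a).1 ha))) hAgen
  have hset : (↑s : Set (L → ℂ)) = S := hfin.coe_toFinset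
  rw [hset] at hFiso
  refine ⟨⟨_, diff_mem hS hχ₁, sub_ne_zero.2 (hS.conj_ne χ₁ hχ₁).symm⟩, _, hFiso, ?_⟩
  -- every element of the lattice is `k χ₁` plus a combination of differences
  have main : ∀ α ∈ Cfsg.zspan S, ∃ k : ℤ, α - k • χ₁ ∈ Cfsg.zspanOn S {1}ᶜ ∧
      extend s f (α - k • χ₁) = τ (α - k • χ₁) ∧ α 1 = k * χ₁ 1 := by
    intro α hα
    refine Submodule.span_induction (fun x hx => ⟨1, ?_, ?_, ?_⟩) ⟨0, ?_, ?_, ?_⟩ ?_ ?_ hα
    · rw [one_smul]; exact hdiff x hx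
    · rw [one_smul, map_sub, extend_apply horths hnes ((hsmem x).2 hx),
        extend_apply horths hnes ((hsmem χ₁).2 hχ₁)]
      simp only [f, sub_self, hz0, zero_add, add_sub_cancel_right]
    · rw [Int.cast_one, one_mul, hdeg x hx χ₁ hχ₁]
    · rw [zero_smul, sub_zero]; exact (zOn S {1}ᶜ).zero_mem
    · simp [hz0]
    · simp
    · rintro x y - - ⟨k, h1, h2, h3⟩ ⟨l, h4, h5, h6⟩
      have e : x + y - (k + l) • χ₁ = (x - k • χ₁) + (y - l • χ₁) := by module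
      refine ⟨k + l, ?_, ?_, ?_⟩
      · rw [e]; exact (zOn S {1}ᶜ).add_mem h1 h4
      · rw [e, map_add, h2, h5, hz.1 _ h1 _ h4]
      · simp [h3, h6]; ring
    · rintro c x - ⟨k, h1, h2, h3⟩
      have e : c • x - (c * k) • χ₁ = c • (x - k • χ₁) := by module
      refine ⟨c * k, ?_, ?_, ?_⟩
      · rw [e]; exact (zOn S {1}ᶜ).smul_mem c h1
      · rw [e, map_zsmul, h2, hz.2.1 _ h1]
      · simp [h3]; ring
  intro α hα
  obtain ⟨k, -, h2, h3⟩ := main α hα.1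
  rw [apply_one_eq_zero hα] at h3
  obtain ⟨d₁, hd₁, hd₁'⟩ := degree_pos hS hχ₁
  rw [hd₁'] at h3
  have hk : k = 0 := by
    rcases mul_eq_zero.1 h3.symm with e | e
    · exact_mod_cast e
    · exact absurd (Nat.cast_eq_zero.1 e) hd₁.ne'
  rwa [hk, zero_smul, sub_zero] at h2

end Cfsg.Agent.OddChar.Coherence
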