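import Cfsg.Agent.OddChar.Coherence.Above
import Cfsg.Agent.OddChar.Coherence.EqualDegree
import Cfsg.Agent.Solvable.Thompson
import Cfsg.Agent.Lib.Characters.Integrality
import Cfsg.Agent.S0188
import Cfsg.Agent.OddLocal.Coprime

/-!
# Frobenius groups: the characters nontrivial on the kernel
-/

set_option linter.style.haveILetI false
set_option linter.unusedSectionVars false

namespace Cfsg.Agent.OddChar.Coherence.Frobenius

open Cfsg.Agent.Characters Cfsg.Agent.OddChar.Isometry

universe u v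

variable {N : Type u} [Group N] [Fintype N] (H : Subgroup N) [hN : H.Normal]
  (hC : ∀ h ∈ H, h ≠ 1 → Subgroup.centralizer ({h} : Set N) ≤ H)

include hC

theorem coprime_index : Nat.Coprime (Nat.card H) H.index := by
  refine Nat.coprime_of_dvd fun p hp hpH hpI => ?_
  haveI := Fact.mk hp
  obtain P : Sylow p N := default
  obtain ⟨⟨h, hh⟩, hord⟩ := exists_prime_orderOf_dvd_card' (G := H) p hpH
  have hh1 : h ≠ 1 := fun e => hp.ne_one (by rw [← hord]; simp [e])
  -- the Sylow subgroup is contained in `H`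
  have hPH : (P : Subgroup N) ≤ H := by
    obtain ⟨Q, hQ⟩ := (IsPGroup.of_card (n := 1) (by
      rw [Nat.card_zpowers, pow_one, ← Subgroup.orderOf_mk h hh, hord]) :
        IsPGroup p (Subgroup.zpowers h)).exists_le_sylow
    -- a central element of a Sylow subgroup inside `H`
    haveI : Nontrivial ((H ⊓ (Q : Subgroup N)).subgroupOf (Q : Subgroup N)) := by
      rw [Subgroup.nontrivial_iff_ne_bot, ne_eq, Subgroup.subgroupOf_eq_bot, disjoint_iff, inf_assoc,
        inf_idem]
      intro e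
      exact hh1 (Subgroup.mem_bot.1 (e ▸ ⟨hh, hQ (Subgroup.mem_zpowers h)⟩))
    haveI : ((H ⊓ (Q : Subgroup N)).subgroupOf (Q : Subgroup N)).Normal := by
      rw [Subgroup.inf_subgroupOf_right]; exact hN.subgroupOf _
    obtain ⟨z, hz, hz1⟩ : ∃ z : (Q : Subgroup N), z ∈ (H ⊓ (Q : Subgroup N)).subgroupOf
        (Q : Subgroup N) ⊓ Subgroup.center (Q : Subgroup N) ∧ z ≠ 1 := by
      haveI : Group.IsNilpotent (Q : Subgroup N) := Q.2.isNilpotent
      exact (Subgroup.ne_bot_iff_exists_ne_one.1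
        (OddLocal.Coprime.inf_center_ne_bot inferInstance ((Subgroup.nontrivial_iff_ne_bot _).1 inferInstance)))
          |> fun ⟨⟨z, hz⟩, h⟩ => ⟨z, hz, fun e => h (Subtype.ext e)⟩
    have hQH : (Q : Subgroup N) ≤ H := fun x hx =>
      hC (z : N) hz.1.1 (fun e => hz1 (Subtype.ext e)) (by
        rw [Subgroup.mem_centralizer_singleton_iff]
        exact congrArg Subtype.val (Subgroup.mem_center_iff.1 hz.2 ⟨x, hx⟩))
    obtain ⟨g, hg⟩ := MulAction.exists_smul_eq N Q P
    intro x hx
    rw [← hg] at hx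
    obtain ⟨y, hy, rfl⟩ := hx
    exact hN.conj_mem y (hQH hy) g
  exact P.not_dvd_index (hpI.trans (Subgroup.index_dvd_of_le hPH))

theorem nilpotent (hH2 : H ≠ ⊤) : Group.IsNilpotent H := by
  have hi : H.index ≠ 1 := fun e => hH2 (Subgroup.index_eq_one.1 e)
  obtain ⟨q, hq, hqd⟩ := Nat.exists_prime_and_dvd hi
  haveI := Fact.mk hq
  obtain ⟨x, hx⟩ := exists_prime_orderOf_dvd_card' (G := N) q
    (hqd.trans H.index_dvd_card)
  have hxH : x ∉ H := fun h => hq.ne_one (Nat.eq_one_of_dvd_coprimes (coprime_index H hC)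
    (hx ▸ Subgroup.orderOf_dvd_natCard _ h) hqd)
  refine Solvable.Thompson.isNilpotent_of_fixedPointFree (MulAut.conjNormal x : MulAut H) hq
    (fun y hy => ?_) (by rw [← map_pow, ← hx, pow_orderOf_eq_one, map_one])
  by_contra hy1
  refine hxH (hC y y.2 (fun e => hy1 (Subtype.ext e)) ?_)
  rw [Subgroup.mem_centralizer_singleton_iff]
  have h := congrArg Subtype.val hy
  rw [MulAut.conjNormal_apply] at h
  exact mul_inv_eq_iff_eq_mul.1 h

theorem stab {θ : H → ℂ} (hθ : Cfsg.IsIrrCharacter H θ) (hθ1 : θ ≠ fun _ => 1) {x : N}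
    (hx : Characters.conjFun H θ x = θ) : x ∈ H := by
  haveI := Fintype.ofFinite H
  obtain ⟨h, hh1, hconj⟩ := (Constituent.exists_fixed_irr_iff (Characters.conjAut H x)).1
    ⟨θ, hθ, hθ1, hx⟩
  obtain ⟨k, hk⟩ := isConj_iff.1 hconj
  have e : (k : N) * (x * h * x⁻¹) * (k : N)⁻¹ = h := congrArg Subtype.val hk
  have hmem : (k : N) * x ∈ Subgroup.centralizer ({(h : N)} : Set N) := by
    rw [Subgroup.mem_centralizer_singleton_iff]
    conv_rhs => rw [← e]
    group
  simpa using H.mul_mem (H.inv_mem k.2) (hC h h.2 (fun e => hh1 (Subtype.ext e)) hmem)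

theorem isIrr_ind {θ : H → ℂ} (hθ : Cfsg.IsIrrCharacter H θ) (hθ1 : θ ≠ fun _ => 1) :
    Cfsg.IsIrrCharacter N (Cfsg.indFun H θ) := by
  haveI := Fintype.ofFinite H
  refine isIrr_of_isCharacter_of_norm_one (isCharacter_indFun H (isCharacter_of_isIrr hθ)) ?_
  have h := card_mul_classInner_indFun H hθ
  have hcard : Nat.card {g : N // Characters.conjFun H θ g = θ} = Nat.card H :=
    Nat.card_congr (Equiv.subtypeEquivRight fun g => ⟨stab H hC hθ hθ1, fun hg => funext fun y =>
      char_isClassFunction (isCharacter_of_isIrr hθ) y ⟨g, hg⟩⟩)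
  rw [hcard] at h
  exact mul_left_cancel₀ (Nat.cast_ne_zero.2 (Nat.card_pos (α := H)).ne') (by rw [h, mul_one])

theorem ind_inj {θ η : H → ℂ} (hθ : Cfsg.IsIrrCharacter H θ) (hθ1 : θ ≠ fun _ => 1)
    (hη : Cfsg.IsIrrCharacter H η) (h : Cfsg.indFun H θ = Cfsg.indFun H η) :
    ∃ x : N, Characters.conjFun H θ x = η := by
  haveI := Fintype.ofFinite H
  by_contra hno
  push Not at hno
  have hI := isIrr_ind H hC hθ hθ1
  have h1 := classInner_isIrr_self hI
  nth_rw 2 [h] at h1
  rw [frobenius_reciprocity' H η (char_isClassFunction (isCharacter_of_isIrr hI)),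
    show (fun y : H => Cfsg.indFun H θ y) = (Nat.card H : ℂ)⁻¹ •
      ∑ x : N, θ ∘ Induce.conjHom H x (Induce.conj_mem_of_normal H x) from funext fun y => by
      rw [Induce.indFun_apply_normal H θ y]; simp [Finset.sum_apply],
    classInner_smul_left, classInner_sum_left,
    Finset.sum_eq_zero (f := fun x : N => Cfsg.classInner
      (θ ∘ Induce.conjHom H x (Induce.conj_mem_of_normal H x)) η) fun x _ =>
      classInner_isIrr_ne ((isIrrCharacter_comp_mulEquiv _).2 hθ) hη fun e => hno x⁻¹ (by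
        rw [← e]; funext y
        exact congrArg θ (Subtype.ext (by simp [Induce.conjHom]))), mul_zero] at h1
  exact one_ne_zero h1.symm

theorem mem_set_iff {χ : N → ℂ} :
    (Cfsg.IsIrrCharacter N χ ∧ ∃ h ∈ H, χ h ≠ χ 1) ↔
      ∃ θ : H → ℂ, Cfsg.IsIrrCharacter H θ ∧ θ ≠ (fun _ => 1) ∧ χ = Cfsg.indFun H θ := by
  haveI := Fintype.ofFinite H
  constructor
  · rintro ⟨hχ, h, hh, hne⟩
    obtain ⟨θ, hθ, hinner, hθh⟩ := Constituent.exists_constituent_ne
      (isCharacter_restrict H (isCharacter_of_isIrr hχ)) (g := ⟨h, hh⟩) hne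
    have hθ1 : θ ≠ fun _ => 1 := fun e => hθh (by rw [e])
    refine ⟨θ, hθ, hθ1, by_contra fun hne' => hinner ?_⟩
    have h0 := classInner_isIrr_ne hχ (isIrr_ind H hC hθ hθ1) hne'
    rwa [frobenius_reciprocity' H θ (char_isClassFunction (isCharacter_of_isIrr hχ))] at h0
  · rintro ⟨θ, hθ, hθ1, rfl⟩
    have hI := isIrr_ind H hC hθ hθ1
    refine ⟨hI, ?_⟩
    by_contra hno
    push Not at hno
    refine hθ1 ?_
    have hker : ∀ a : H, θ a = θ 1 := fun a => by
      refine Constituent.constituent_apply_eq_one (isCharacter_restrict H (isCharacter_of_isIrr hI))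
        hθ ?_ (g := a) (by simpa using hno a a.2)
      rw [← frobenius_reciprocity' H θ (char_isClassFunction (isCharacter_of_isIrr hI)),
        classInner_isIrr_self hI]
      exact one_ne_zero
    by_contra hne
    have h0 := classInner_isIrr_ne hθ (trivIrr H).2 hne
    obtain ⟨m, hm, hm'⟩ := irr_one_pos hθ
    rw [show θ = fun _ => (m : ℂ) from funext fun a => (hker a).trans hm', classInner_def] at h0
    simp [Nat.card_eq_fintype_card, hm.ne'] at h0

open Classical in
/-- Each member has exactly `[N : H]` preimages. -/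
theorem card_fibre [Fintype H] [Fintype (Cfsg.IrrCharacter H)] {θ : H → ℂ}
    (hθ : Cfsg.IsIrrCharacter H θ) (hθ1 : θ ≠ fun _ => 1) :
    (Finset.univ.filter fun η : Cfsg.IrrCharacter H => (η : H → ℂ) ≠ (fun _ => 1) ∧
      Cfsg.indFun H (η : H → ℂ) = Cfsg.indFun H θ).card = H.index := by
  set F := Finset.univ.filter fun η : Cfsg.IrrCharacter H => (η : H → ℂ) ≠ (fun _ => 1) ∧
    Cfsg.indFun H (η : H → ℂ) = Cfsg.indFun H θ
  have hI := isIrr_ind H hC hθ hθ1
  have hres : Cfsg.IsCharacter H (fun y : H => Cfsg.indFun H θ y) :=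
    isCharacter_restrict H (isCharacter_of_isIrr hI)
  have hcoef : ∀ η : Cfsg.IrrCharacter H,
      Cfsg.classInner (fun y : H => Cfsg.indFun H θ y) (η : H → ℂ) =
        if η ∈ F then (1 : ℂ) else 0 := by
    intro η
    by_cases h1 : (η : H → ℂ) = fun _ => 1
    · rw [if_neg fun h => (Finset.mem_filter.1 h).2.1 h1, h1]
      exact inner_res_one H hθ hθ1
    · rw [← frobenius_reciprocity' H (η : H → ℂ) (char_isClassFunction (isCharacter_of_isIrr hI))]
      by_cases he : Cfsg.indFun H (η : H → ℂ) = Cfsg.indFun H θ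
      · rw [if_pos (Finset.mem_filter.2 ⟨Finset.mem_univ _, h1, he⟩), he, classInner_isIrr_self hI]
      · rw [if_neg fun h => he (Finset.mem_filter.1 h).2.2]
        exact classInner_isIrr_ne hI (isIrr_ind H hC η.2 h1) (Ne.symm he)
  obtain ⟨f, hf0, hf⟩ := irr_one_pos hθ
  have h1 := congrFun (classFun_eq_sum (char_isClassFunction hres)) 1
  simp only [Finset.sum_apply, Pi.smul_apply, smul_eq_mul, hcoef, ite_mul, zero_mul, one_mul,
    Finset.sum_ite_mem, Finset.univ_inter, OneMemClass.coe_one, indFun_one, hf] at h1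
  have hdeg : ∀ η ∈ F, (η : H → ℂ) 1 = (f : ℂ) := fun η hη => by
    have h := congrFun (Finset.mem_filter.1 hη).2.2 1
    rw [indFun_one, indFun_one, hf] at h
    exact mul_left_cancel₀ (Nat.cast_ne_zero.2 Subgroup.index_ne_zero_of_finite) h
  rw [Finset.sum_congr rfl hdeg, Finset.sum_const, nsmul_eq_mul] at h1
  exact_mod_cast (mul_right_cancel₀ (Nat.cast_ne_zero.2 hf0.ne') h1).symm

end Cfsg.Agent.OddChar.Coherence.Frobenius
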