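import Cfsg.Agent.OddChar.Coherence.Frobenius
import Cfsg.Agent.OddChar.Coherence.Reduce

/-!
# Degree inequalities for Feit's coherence theorem
-/

set_option linter.style.haveILetI false
set_option linter.unusedSectionVars false

namespace Cfsg.Agent.OddChar.Coherence.Frobenius

open Cfsg.Agent.Characters Cfsg.Agent.OddChar.Isometry

universe u

section PGroup

variable {P : Type u} [Group P] [Fintype P] {p : ℕ} [hp : Fact p.Prime]

/-- In a `p`-group every degree is a power of `p` whose square divides the order. -/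
theorem pgroup_degree (hP : IsPGroup p P) (θ : Cfsg.IrrCharacter P) :
    ∃ a : ℕ, Cfsg.charDegree (θ : P → ℂ) = p ^ a ∧ (p ^ a) ^ 2 ∣ Nat.card P := by
  obtain ⟨m, hm⟩ := hP.exists_card_eq
  obtain ⟨f, hf, -, hdvd⟩ := irr_degree_dvd_card θ.2
  rw [hm] at hdvd
  obtain ⟨a, -, rfl⟩ := (Nat.dvd_prime_pow hp.out).1 hdvd
  refine ⟨a, by rw [Cfsg.charDegree, hf, Complex.natCast_re, Nat.floor_natCast], ?_⟩
  have h1 := CN.degree_sq_le_center_index θ.2 hf
  obtain ⟨j, -, hj⟩ := (Nat.dvd_prime_pow hp.out).1 (hm ▸ (Subgroup.center P).index_dvd_card)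
  rw [hj, ← pow_mul] at h1
  have h2 := (Nat.pow_le_pow_iff_right hp.out.one_lt).1 h1
  rw [← pow_mul]
  exact (pow_dvd_pow p h2).trans (hj ▸ (Subgroup.center P).index_dvd_card)

/-- The squares of the degrees below a given one. -/
theorem pgroup_sum_low [Fintype (Cfsg.IrrCharacter P)] (hP : IsPGroup p P)
    (θ : Cfsg.IrrCharacter P) (hθ : 1 < Cfsg.charDegree (θ : P → ℂ)) :
    Cfsg.charDegree (θ : P → ℂ) ^ 2 ≤
      ∑ η ∈ Finset.univ.filter (fun η : Cfsg.IrrCharacter P =>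
        Cfsg.charDegree (η : P → ℂ) < Cfsg.charDegree (θ : P → ℂ)),
        Cfsg.charDegree (η : P → ℂ) ^ 2 := by
  obtain ⟨a, ha, hdvd⟩ := pgroup_degree hP θ
  refine Nat.le_of_dvd ?_ ?_
  · refine Finset.sum_pos' (fun _ _ => Nat.zero_le _) ⟨trivIrr P, Finset.mem_filter.2
      ⟨Finset.mem_univ _, by rw [BlocksChars.Codegree.charDegree_triv]; exact hθ⟩, ?_⟩
    rw [BlocksChars.Codegree.charDegree_triv]; norm_num
  · have hrest : Cfsg.charDegree (θ : P → ℂ) ^ 2 ∣
        ∑ η ∈ Finset.univ.filter (fun η : Cfsg.IrrCharacter P =>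
          ¬ Cfsg.charDegree (η : P → ℂ) < Cfsg.charDegree (θ : P → ℂ)),
          Cfsg.charDegree (η : P → ℂ) ^ 2 := by
      refine Finset.dvd_sum fun η hη => ?_
      obtain ⟨b, hb, -⟩ := pgroup_degree hP η
      have hle := Nat.not_lt.1 (Finset.mem_filter.1 hη).2
      rw [ha, hb] at hle ⊢
      exact pow_dvd_pow_of_dvd (pow_dvd_pow p ((Nat.pow_le_pow_iff_right hp.out.one_lt).1 hle)) 2
    refine (Nat.dvd_add_left hrest).1 ?_
    rw [Finset.sum_filter_add_sum_filter_not, BlocksChars.Codegree.sum_degree_sq_nat, ha]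
    exact hdvd

end PGroup

theorem deg_eq {X : Type u} [Group X] {θ : X → ℂ} (_h : Cfsg.IsIrrCharacter X θ) {f : ℕ}
    (hf : θ 1 = (f : ℂ)) : Cfsg.charDegree θ = f := by
  rw [Cfsg.charDegree, hf, Complex.natCast_re, Nat.floor_natCast]

theorem eq_one_of_const {X : Type u} [Group X] [Finite X] {θ : X → ℂ}
    (h : Cfsg.IsIrrCharacter X θ) (hc : ∀ x, θ x = θ 1) : θ = fun _ => 1 := by
  haveI := Fintype.ofFinite X
  by_contra hne
  have h0 := classInner_isIrr_ne h (trivIrr X).2 hne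
  obtain ⟨m, hm, hm'⟩ := irr_one_pos h
  rw [show θ = fun _ => (m : ℂ) from funext fun a => (hc a).trans hm', classInner_def] at h0
  simp [Nat.card_eq_fintype_card, hm.ne'] at h0

/-- A normal `p`-complement and a normal Sylow `p`-subgroup give a decomposition. -/
theorem exists_decomposition {K : Type u} [Group K] [Finite K] [Group.IsNilpotent K] {p : ℕ}
    [hp : Fact p.Prime] :
    ∃ P Q : Subgroup K, P.Normal ∧ Q.Normal ∧ IsPGroup p P ∧ ¬ p ∣ Nat.card Q ∧
      P ⊓ Q = ⊥ ∧ Nat.card P * Nat.card Q = Nat.card K := by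
  obtain ⟨Q, hQ, hcop, k, hk⟩ :=
    Transfer.NormalPComplement.hasNormalPComplement_iff_exists.1
      (Solvable.Thompson.hasNormalPComplement_of_nilpotent (H := K) (q := p))
  obtain P : Sylow p K := default
  have hndvd : ¬ p ∣ Nat.card Q := (hp.out.coprime_iff_not_dvd).1 hcop.symm
  obtain ⟨j, hj⟩ := P.2.exists_card_eq
  refine ⟨P, Q, inferInstance, hQ, P.2, hndvd, ?_, ?_⟩
  · refine (Subgroup.eq_bot_iff_forall _).2 fun x hx => orderOf_eq_one_iff.1 ?_
    exact Nat.eq_one_of_dvd_coprimes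
      (hj.symm ▸ Nat.Coprime.pow_left _ ((hp.out.coprime_iff_not_dvd).2 hndvd) :
        Nat.Coprime (Nat.card (P : Subgroup K)) (Nat.card Q))
      (Subgroup.orderOf_dvd_natCard _ hx.1) (Subgroup.orderOf_dvd_natCard _ hx.2)
  · rw [P.card_eq_multiplicity, mul_comm, ← Q.card_mul_index, hk]
    congr 1
    rw [Nat.factorization_mul Nat.card_pos.ne' (pow_ne_zero _ hp.out.ne_zero)]
    simp [Nat.factorization_eq_zero_of_not_dvd hndvd, hp.out.factorization_self]

theorem exists_factors {K : Type u} [Group K] [Finite K] {P Q : Subgroup K} (hinf : P ⊓ Q = ⊥)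
    (hcard : Nat.card P * Nat.card Q = Nat.card K) (y : K) : ∃ a ∈ P, ∃ b ∈ Q, a * b = y := by
  haveI := Fintype.ofFinite K
  haveI := Fintype.ofFinite (P × Q)
  have hb : Function.Bijective fun z : P × Q => (z.1 : K) * z.2 := by
    refine (Fintype.bijective_iff_injective_and_card _).2
      ⟨Subgroup.mul_injective_of_disjoint (disjoint_iff.2 hinf), ?_⟩
    rw [← Nat.card_eq_fintype_card, ← Nat.card_eq_fintype_card, Nat.card_prod, hcard]
  obtain ⟨⟨a, b⟩, h⟩ := hb.2 y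
  exact ⟨a, a.2, b, b.2, h⟩

variable {N : Type u} [Group N] [Fintype N] (H : Subgroup N) [hN : H.Normal]
  (hC : ∀ h ∈ H, h ≠ 1 → Subgroup.centralizer ({h} : Set N) ≤ H)

include hC

/-- Characters of the product of the two factors induce differently. -/
theorem ind_product_inj {p : ℕ} [hp : Fact p.Prime] (P Q : Subgroup H) [P.Normal] [Q.Normal]
    (hP : IsPGroup p P) (hQ : ¬ p ∣ Nat.card Q) (hinf : P ⊓ Q = ⊥)
    (hcard : Nat.card P * Nat.card Q = Nat.card H)
    {γ γ' : H ⧸ Q → ℂ} {η η' : H ⧸ P → ℂ} (hγ : Cfsg.IsIrrCharacter (H ⧸ Q) γ)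
    (hγ' : Cfsg.IsIrrCharacter (H ⧸ Q) γ') (hη : Cfsg.IsIrrCharacter (H ⧸ P) η)
    (hη' : Cfsg.IsIrrCharacter (H ⧸ P) η') (hne : η ≠ fun _ => 1)
    (hθ : Cfsg.IsIrrCharacter H (fun y : H => γ y * η y))
    (hθ' : Cfsg.IsIrrCharacter H (fun y : H => γ' y * η' y)) (hd : γ' 1 = γ 1)
    (hind : Cfsg.indFun H (fun y : H => γ y * η y) =
      Cfsg.indFun H (fun y : H => γ' y * η' y)) :
    η' ≠ (fun _ => 1) ∧ (η' = η → γ' = γ) := by
  obtain ⟨m, hm⟩ := hP.exists_card_eq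
  have hθ1 : (fun y : H => γ y * η y) ≠ fun _ => 1 := by
    intro e
    refine hne (eq_one_of_const hη fun q => ?_)
    obtain ⟨y, rfl⟩ := QuotientGroup.mk'_surjective P q
    -- move `y` into `Q`
    obtain ⟨a, ha, b, hb, rfl⟩ := exists_factors hinf hcard y
    have h1 : γ (b : H ⧸ Q) * η (b : H ⧸ P) = 1 := congrFun e b
    have h2 : γ ((1 : H) : H ⧸ Q) * η ((1 : H) : H ⧸ P) = 1 := congrFun e 1
    have hb' : (b : H ⧸ Q) = ((1 : H) : H ⧸ Q) := by
      rw [QuotientGroup.mk_one, QuotientGroup.eq_one_iff]; exact hb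
    rw [hb'] at h1
    rw [QuotientGroup.mk_one] at h1 h2
    have h3 : η (b : H ⧸ P) = η 1 := mul_left_cancel₀ (irr_one_ne_zero hγ) (h1.trans h2.symm)
    show η (QuotientGroup.mk' P (a * b)) = η 1
    rw [map_mul, show QuotientGroup.mk' P a = 1 from (QuotientGroup.eq_one_iff a).2 ha, one_mul]
    exact h3
  obtain ⟨x, hx⟩ := ind_inj H hC hθ hθ1 hθ' hind
  set c := Characters.conjAut H x
  have hQinv : ∀ y ∈ Q, c y ∈ Q := fun y hy => by
    rw [← QuotientGroup.eq_one_iff (N := Q), ← orderOf_eq_one_iff]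
    have h1 : orderOf ((c y : H) : H ⧸ Q) ∣ Nat.card Q :=
      (orderOf_map_dvd (QuotientGroup.mk' Q) (c y)).trans
        ((c.orderOf_eq y).symm ▸ Subgroup.orderOf_dvd_natCard Q hy)
    have h2 : orderOf ((c y : H) : H ⧸ Q) ∣ p ^ m := by
      rw [← hm]
      refine (orderOf_dvd_natCard _).trans (dvd_of_eq ?_)
      rw [← Subgroup.index_eq_card]
      exact Nat.eq_of_mul_eq_mul_left Nat.card_pos
        (Q.card_mul_index.trans (by rw [mul_comm, hcard]))
    exact Nat.eq_one_of_dvd_coprimes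
      (Nat.Coprime.pow_right m ((hp.out.coprime_iff_not_dvd).2 hQ).symm) h1 h2
  have hPinv : ∀ y ∈ P, c y ∈ P := fun y hy => by
    rw [← QuotientGroup.eq_one_iff (N := P), ← orderOf_eq_one_iff]
    have h1 : orderOf ((c y : H) : H ⧸ P) ∣ p ^ m :=
      (orderOf_map_dvd (QuotientGroup.mk' P) (c y)).trans
        ((c.orderOf_eq y).symm ▸ (hm ▸ Subgroup.orderOf_dvd_natCard P hy))
    have h2 : orderOf ((c y : H) : H ⧸ P) ∣ Nat.card Q := by
      refine (orderOf_dvd_natCard _).trans (dvd_of_eq ?_)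
      rw [← Subgroup.index_eq_card]
      exact Nat.eq_of_mul_eq_mul_left Nat.card_pos (P.card_mul_index.trans hcard.symm)
    exact Nat.eq_one_of_dvd_coprimes
      (Nat.Coprime.pow_left m ((hp.out.coprime_iff_not_dvd).2 hQ)) h1 h2
  have hval : ∀ y : H, γ (c y : H) * η (c y : H) = γ' y * η' y := fun y => congrFun hx y
  have hsplit : ∀ y : H, ∃ a ∈ P, ∃ b ∈ Q, a * b = y := exists_factors hinf hcard
  have hmkQ : ∀ y ∈ Q, (y : H ⧸ Q) = 1 := fun y hy => (QuotientGroup.eq_one_iff y).2 hy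
  have hmkP : ∀ y ∈ P, (y : H ⧸ P) = 1 := fun y hy => (QuotientGroup.eq_one_iff y).2 hy
  -- on `Q`
  have hQval : ∀ y ∈ Q, η (c y : H) = η' y := fun y hy => by
    have h := hval y
    rw [hmkQ _ (hQinv y hy), hmkQ _ hy, hd] at h
    exact mul_left_cancel₀ (irr_one_ne_zero hγ) h
  have hall : ∀ y : H, η (c y : H) = η' y := fun y => by
    obtain ⟨a, ha, b, hb, rfl⟩ := hsplit y
    rw [map_mul, QuotientGroup.mk_mul, QuotientGroup.mk_mul, hmkP _ (hPinv a ha), hmkP _ ha,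
      one_mul, one_mul]
    exact hQval b hb
  constructor
  · intro e
    refine hne (eq_one_of_const hη fun q => ?_)
    obtain ⟨y, rfl⟩ := QuotientGroup.mk'_surjective P q
    have h1 := hall (c.symm y)
    have h2 := hall 1
    rw [MulEquiv.apply_symm_apply] at h1
    rw [map_one, QuotientGroup.mk_one] at h2
    show η (y : H ⧸ P) = η 1
    rw [h1, h2, e]
  · intro e
    subst e
    have hxH : x ∈ H := by
      have hirr : Cfsg.IsIrrCharacter H (η' ∘ QuotientGroup.mk' P) :=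
        isIrrCharacter_comp_surjective _ (QuotientGroup.mk'_surjective P) hη'
      refine stab H hC hirr (fun e => hne (funext fun q => ?_)) (funext fun y => hall y)
      obtain ⟨y, rfl⟩ := QuotientGroup.mk'_surjective P q
      exact congrFun e y
    funext q
    obtain ⟨y, rfl⟩ := QuotientGroup.mk'_surjective Q q
    have hclass := char_isClassFunction (isCharacter_of_isIrr hθ) y ⟨x, hxH⟩
    obtain ⟨a, ha, b, hb, rfl⟩ := hsplit y
    have h : γ (c (a * b) : H) * η' (c (a * b) : H) = γ' (a * b : H) * η' (a * b : H) := hval _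
    have hclass' : γ (c a : H) * η' (c a : H) = γ (a : H) * η' (a : H) :=
      char_isClassFunction (isCharacter_of_isIrr hθ) a ⟨x, hxH⟩
    have h' := hval a
    rw [hclass', hmkP _ ha] at h'
    show γ' ((a * b : H) : H ⧸ Q) = γ ((a * b : H) : H ⧸ Q)
    rw [QuotientGroup.mk_mul, hmkQ _ hb, mul_one]
    exact (mul_right_cancel₀ (irr_one_ne_zero hη') h').symm

theorem isIrr_product {p : ℕ} [hp : Fact p.Prime] (P Q : Subgroup H) [P.Normal] [Q.Normal]
    (hinf : P ⊓ Q = ⊥) (hcard : Nat.card P * Nat.card Q = Nat.card H) :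
    (∀ (γ : H ⧸ Q → ℂ) (η : H ⧸ P → ℂ), Cfsg.IsIrrCharacter (H ⧸ Q) γ →
      Cfsg.IsIrrCharacter (H ⧸ P) η → Cfsg.IsIrrCharacter H (fun y : H => γ y * η y)) ∧
    ∀ θ : H → ℂ, Cfsg.IsIrrCharacter H θ → ∃ (γ : H ⧸ Q → ℂ) (η : H ⧸ P → ℂ),
      Cfsg.IsIrrCharacter (H ⧸ Q) γ ∧ Cfsg.IsIrrCharacter (H ⧸ P) η ∧
        θ = fun y : H => γ y * η y := by
  set φ := (QuotientGroup.mk' Q).prod (QuotientGroup.mk' P) with hφ
  have hb : Function.Bijective φ := by
    haveI := Fintype.ofFinite H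
    haveI := Fintype.ofFinite ((H ⧸ Q) × (H ⧸ P))
    refine (Fintype.bijective_iff_injective_and_card _).2 ⟨?_, ?_⟩
    · rw [← MonoidHom.ker_eq_bot_iff, hφ, MonoidHom.ker_prod, QuotientGroup.ker_mk',
        QuotientGroup.ker_mk', inf_comm, hinf]
    · rw [← Nat.card_eq_fintype_card, ← Nat.card_eq_fintype_card, Nat.card_prod,
        ← Subgroup.index_eq_card, ← Subgroup.index_eq_card,
        Nat.eq_of_mul_eq_mul_left Nat.card_pos (Q.card_mul_index.trans (by rw [mul_comm, hcard]) :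
          Nat.card Q * Q.index = Nat.card Q * Nat.card P),
        Nat.eq_of_mul_eq_mul_left Nat.card_pos (P.card_mul_index.trans hcard.symm), hcard]
  let iso := MulEquiv.ofBijective φ hb
  have hiff : ∀ θ : (H ⧸ Q) × (H ⧸ P) → ℂ,
      Cfsg.IsIrrCharacter H (θ ∘ iso) ↔ Cfsg.IsIrrCharacter _ θ :=
    fun θ => isIrrCharacter_comp_mulEquiv iso
  constructor
  · intro γ η hγ hη
    exact (hiff _).2 ((S0188.result _).2 ⟨γ, η, hγ, hη, rfl⟩)
  · intro θ hθ
    have h : Cfsg.IsIrrCharacter _ (θ ∘ iso.symm) := (hiff _).1 (by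
      simpa [Function.comp_assoc, MulEquiv.self_comp_symm] using
        (show Cfsg.IsIrrCharacter H ((θ ∘ iso.symm) ∘ iso) by
          convert hθ using 1; funext y; simp))
    obtain ⟨γ, η, hγ, hη, he⟩ := (S0188.result _).1 h
    refine ⟨γ, η, hγ, hη, funext fun y => ?_⟩
    have := congrFun he (iso y)
    simp only [Function.comp_apply, MulEquiv.symm_apply_apply] at this
    exact this

open Classical in
/-- The degree inequality when `H` has at least two prime divisors. -/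
theorem key_composite (hH2 : H ≠ ⊤) (hnp : ¬ ∃ p m : ℕ, p.Prime ∧ Nat.card H = p ^ m)
    (W : Finset (N → ℂ))
    (hW : ∀ θ : H → ℂ, Cfsg.IsIrrCharacter H θ → θ ≠ (fun _ => 1) → Cfsg.indFun H θ ∈ W)
    (d : (N → ℂ) → ℕ) (hd : ∀ θ : H → ℂ, Cfsg.IsIrrCharacter H θ → θ ≠ (fun _ => 1) →
      d (Cfsg.indFun H θ) = Cfsg.charDegree θ) :
    2 ≤ (W.filter fun φ => d φ = 1).card ∧
      ∀ θ : H → ℂ, Cfsg.IsIrrCharacter H θ → 1 < Cfsg.charDegree θ →
        2 * Cfsg.charDegree θ < ∑ φ ∈ W.filter (fun φ => d φ < Cfsg.charDegree θ), d φ ^ 2 := by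
  haveI := nilpotent H hC hH2
  haveI := Fintype.ofFinite H
  have hne1 : Nat.card H ≠ 1 := fun e => hnp ⟨2, 0, Nat.prime_two, by rw [e, pow_zero]⟩
  have hlin : ∀ (R : Subgroup H) [R.Normal], R ≠ ⊤ → ∃ η : H ⧸ R → ℂ,
      Cfsg.IsIrrCharacter (H ⧸ R) η ∧ η ≠ (fun _ => 1) ∧ η 1 = 1 := by
    intro R _ hR
    haveI : Nontrivial (H ⧸ R) := QuotientGroup.nontrivial_iff.2 hR
    haveI := Fintype.ofFinite (H ⧸ R)
    haveI : Group.IsNilpotent (H ⧸ R) :=
      Group.nilpotent_of_surjective (QuotientGroup.mk' R) (QuotientGroup.mk'_surjective R)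
    have h1 : 1 < Nat.card {χ : Cfsg.IrrCharacter (H ⧸ R) // (χ : H ⧸ R → ℂ) 1 = 1} := by
      rw [card_degree_one]
      refine Nat.lt_of_le_of_ne (Nat.one_le_iff_ne_zero.2 Subgroup.index_ne_zero_of_finite)
        fun h => ?_
      exact (Group.IsSolvable.commutator_lt_top_of_nontrivial (H ⧸ R)).ne
        (Subgroup.index_eq_one.1 h.symm)
    haveI := Finite.one_lt_card_iff_nontrivial.1 h1
    obtain ⟨⟨η, hη⟩, hne⟩ := exists_ne
      (⟨trivIrr _, rfl⟩ : {χ : Cfsg.IrrCharacter (H ⧸ R) // (χ : H ⧸ R → ℂ) 1 = 1})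
    exact ⟨η, η.2, fun e => hne (Subtype.ext (Subtype.ext e)), hη⟩
  -- everything for a fixed prime
  have main : ∀ p : ℕ, p.Prime → p ∣ Nat.card H → ∃ (P Q : Subgroup H) (_ : P.Normal) (_ : Q.Normal),
      IsPGroup p P ∧ ¬ p ∣ Nat.card Q ∧ P ⊓ Q = ⊥ ∧ Nat.card P * Nat.card Q = Nat.card H ∧
        P ≠ ⊤ ∧ Q ≠ ⊤ := by
    intro p hp hpd
    haveI := Fact.mk hp
    obtain ⟨P, Q, hPn, hQn, hP, hQ, hinf, hcard⟩ := exists_decomposition (K := H) (p := p)
    refine ⟨P, Q, hPn, hQn, hP, hQ, hinf, hcard, fun e => ?_, fun e => ?_⟩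
    · obtain ⟨m, hm⟩ := hP.exists_card_eq
      rw [e, Subgroup.card_top] at hm
      exact hnp ⟨p, m, hp, hm⟩
    · rw [e, Subgroup.card_top] at hQ; exact hQ hpd
  constructor
  · obtain ⟨p, hp, hpd⟩ := Nat.exists_prime_and_dvd hne1
    haveI := Fact.mk hp
    obtain ⟨P, Q, hPn, hQn, hP, hQ, hinf, hcard, hPtop, hQtop⟩ := main p hp hpd
    obtain ⟨γ, hγ, hγne, hγ1⟩ := hlin Q hQtop
    obtain ⟨η, hη, hηne, hη1⟩ := hlin P hPtop
    have hI := (isIrr_product H hC P Q (p := p) hinf hcard).1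
    have hθ₁ := hI _ _ hγ (trivIrr (H ⧸ P)).2
    have hθ₂ := hI _ _ (trivIrr (H ⧸ Q)).2 hη
    have hne₁ : (fun y : H => γ y * (trivIrr (H ⧸ P) : H ⧸ P → ℂ) y) ≠ fun _ => 1 := fun e =>
      hγne (funext fun q => by
        obtain ⟨y, rfl⟩ := QuotientGroup.mk'_surjective Q q
        simpa using congrFun e y)
    have hne₂ : (fun y : H => (trivIrr (H ⧸ Q) : H ⧸ Q → ℂ) y * η y) ≠ fun _ => 1 := fun e =>
      hηne (funext fun q => by
        obtain ⟨y, rfl⟩ := QuotientGroup.mk'_surjective P q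
        simpa using congrFun e y)
    refine Finset.one_lt_card.2 ⟨_, Finset.mem_filter.2 ⟨hW _ hθ₁ hne₁, ?_⟩,
      _, Finset.mem_filter.2 ⟨hW _ hθ₂ hne₂, ?_⟩, fun e => ?_⟩
    · rw [hd _ hθ₁ hne₁]; exact deg_eq hθ₁ (by simpa using hγ1)
    · rw [hd _ hθ₂ hne₂]; exact deg_eq hθ₂ (by simpa using hη1)
    · exact (ind_product_inj H hC P Q hP hQ hinf hcard (trivIrr (H ⧸ Q)).2 hγ hη
        (trivIrr (H ⧸ P)).2 hηne hθ₂ hθ₁ (by simpa using hγ1) e.symm).1 rfl
  · intro θ hθ hf1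
    set f := Cfsg.charDegree θ with hfdef
    obtain ⟨p, hp, hpf⟩ := Nat.exists_prime_and_dvd (show f ≠ 1 by omega)
    haveI := Fact.mk hp
    obtain ⟨f', hf', -, hdvd⟩ := irr_degree_dvd_card hθ
    obtain rfl : f = f' := deg_eq hθ hf'
    obtain ⟨P, Q, hPn, hQn, hP, hQ, hinf, hcard, hPtop, hQtop⟩ := main p hp (hpf.trans hdvd)
    obtain ⟨hI, hsurj⟩ := isIrr_product H hC P Q (p := p) hinf hcard
    obtain ⟨α, β, hα, hβ, hθeq⟩ := hsurj θ hθ
    have hPQ : IsPGroup p (H ⧸ Q) := by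
      obtain ⟨m, hm⟩ := hP.exists_card_eq
      refine IsPGroup.of_card (n := m) ?_
      rw [← hm, ← Subgroup.index_eq_card]
      exact Nat.eq_of_mul_eq_mul_left Nat.card_pos (Q.card_mul_index.trans (by rw [mul_comm, hcard]))
    haveI := Fintype.ofFinite (H ⧸ Q)
    haveI := Fintype.ofFinite (Cfsg.IrrCharacter (H ⧸ Q))
    obtain ⟨r, -, hr⟩ := irr_one_pos hα
    obtain ⟨m, hm0, hm⟩ := irr_one_pos hβ
    have hfrm : f = r * m := deg_eq hθ (by simp [hθeq, hr, hm])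
    have hpm : ¬ p ∣ m := by
      obtain ⟨m', hm', -, hdvd'⟩ := irr_degree_dvd_card hβ
      rw [hm, Nat.cast_inj] at hm'
      subst hm'
      intro h
      refine hQ ((h.trans hdvd').trans (dvd_of_eq ?_))
      rw [← Subgroup.index_eq_card]
      exact Nat.eq_of_mul_eq_mul_left Nat.card_pos (P.card_mul_index.trans hcard.symm)
    have hr1 : 1 < r := by
      rw [hfrm] at hpf
      have hpr := (hp.dvd_mul.1 hpf).resolve_right hpm
      rcases Nat.eq_zero_or_pos r with rfl | h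
      · simp [hfrm] at hf1
      · exact hp.one_lt.trans_le (Nat.le_of_dvd h hpr)
    obtain ⟨η, hη, hηne, hηd⟩ : ∃ η : H ⧸ P → ℂ, Cfsg.IsIrrCharacter (H ⧸ P) η ∧
        η ≠ (fun _ => 1) ∧ η 1 = (m : ℂ) := by
      by_cases h : β = fun _ => 1
      · obtain ⟨η, hη, hηne, hη1⟩ := hlin P hPtop
        refine ⟨η, hη, hηne, ?_⟩
        rw [hη1, ← hm, h]
      · exact ⟨β, hβ, h, hm⟩
    obtain ⟨lam, hlam, hlamne, hlam1⟩ := hlin Q hQtop
    set T := Finset.univ.filter (fun γ : Cfsg.IrrCharacter (H ⧸ Q) =>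
      Cfsg.charDegree (γ : H ⧸ Q → ℂ) < r)
    have hT : r ^ 2 ≤ ∑ γ ∈ T, Cfsg.charDegree (γ : H ⧸ Q → ℂ) ^ 2 := by
      have := pgroup_sum_low hPQ ⟨α, hα⟩ (by rw [deg_eq hα hr]; exact hr1)
      rwa [show Cfsg.charDegree ((⟨α, hα⟩ : Cfsg.IrrCharacter (H ⧸ Q)) : H ⧸ Q → ℂ) = r from
        deg_eq hα hr] at this
    let F : Cfsg.IrrCharacter (H ⧸ Q) → (N → ℂ) := fun γ =>
      Cfsg.indFun H (fun y : H => (γ : H ⧸ Q → ℂ) y * η y)
    have hFne : ∀ γ : Cfsg.IrrCharacter (H ⧸ Q),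
        (fun y : H => (γ : H ⧸ Q → ℂ) y * η y) ≠ fun _ => 1 := by
      intro γ e
      obtain ⟨g, hg0, hg⟩ := irr_one_pos γ.2
      refine hηne (eq_one_of_const hη fun q => ?_)
      obtain ⟨y, rfl⟩ := QuotientGroup.mk'_surjective P q
      have h1 : (γ : H ⧸ Q → ℂ) 1 * η 1 = 1 := by simpa using congrFun e 1
      rw [hg, hηd, ← Nat.cast_mul, Nat.cast_eq_one] at h1
      have hg1 := (Nat.eq_one_of_mul_eq_one_right h1)
      have h2 : ∀ q : H ⧸ Q, (γ : H ⧸ Q → ℂ) q * η 1 = 1 → (γ : H ⧸ Q → ℂ) q = 1 := fun q h => by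
        rw [hηd, Nat.eq_one_of_mul_eq_one_left h1, Nat.cast_one, mul_one] at h; exact h
      have hy := congrFun e y
      obtain ⟨a, ha, b, hb, hab⟩ := exists_factors hinf hcard y
      have hb1 : (γ : H ⧸ Q → ℂ) (b : H ⧸ Q) * η (b : H ⧸ P) = 1 := congrFun e b
      rw [(QuotientGroup.eq_one_iff b).2 hb, hg, hg1, Nat.cast_one, one_mul] at hb1
      show η ((y : H) : H ⧸ P) = η 1
      rw [← hab, QuotientGroup.mk_mul, (QuotientGroup.eq_one_iff a).2 ha, one_mul, hb1, hηd,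
        Nat.eq_one_of_mul_eq_one_left h1, Nat.cast_one]
    have hFd : ∀ γ : Cfsg.IrrCharacter (H ⧸ Q), d (F γ) = Cfsg.charDegree (γ : H ⧸ Q → ℂ) * m := by
      intro γ
      rw [hd _ (hI _ _ γ.2 hη) (hFne γ)]
      exact deg_eq (hI _ _ γ.2 hη) (by
        simp [hηd, ← BlocksChars.Degrees.charDegree_cast])
    have hinj : Set.InjOn F T := by
      intro γ _ γ' _ he
      have hdeq : Cfsg.charDegree (γ : H ⧸ Q → ℂ) = Cfsg.charDegree (γ' : H ⧸ Q → ℂ) :=
        Nat.eq_of_mul_eq_mul_right hm0 (by rw [← hFd, ← hFd, he])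
      exact Subtype.ext ((ind_product_inj H hC P Q hP hQ hinf hcard γ.2 γ'.2 hη hη hηne
        (hI _ _ γ.2 hη) (hI _ _ γ'.2 hη) (by
          rw [← BlocksChars.Degrees.charDegree_cast γ', ← BlocksChars.Degrees.charDegree_cast γ,
            hdeq]) he).2 rfl).symm
    have hθl := hI _ _ hlam (trivIrr (H ⧸ P)).2
    have hlne : (fun y : H => lam y * (trivIrr (H ⧸ P) : H ⧸ P → ℂ) y) ≠ fun _ => 1 := fun e =>
      hlamne (funext fun q => by
        obtain ⟨y, rfl⟩ := QuotientGroup.mk'_surjective Q q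
        simpa using congrFun e y)
    set φl := Cfsg.indFun H (fun y : H => lam y * (trivIrr (H ⧸ P) : H ⧸ P → ℂ) y)
    have hdl : d φl = 1 := by rw [hd _ hθl hlne]; exact deg_eq hθl (by simpa using hlam1)
    have hnotin : φl ∉ T.image F := by
      intro h
      obtain ⟨γ, -, he⟩ := Finset.mem_image.1 h
      have h1 : Cfsg.charDegree (γ : H ⧸ Q → ℂ) * m = 1 := by rw [← hFd γ, he, hdl]
      refine (ind_product_inj H hC P Q hP hQ hinf hcard γ.2 hlam hη (trivIrr (H ⧸ P)).2 hηne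
        (hI _ _ γ.2 hη) hθl ?_ he).1 rfl
      rw [hlam1, ← BlocksChars.Degrees.charDegree_cast γ, Nat.eq_one_of_mul_eq_one_right h1,
        Nat.cast_one]
    have hsub : insert φl (T.image F) ⊆ W.filter (fun φ => d φ < r * m) := by
      refine Finset.insert_subset ?_ fun φ hφ => ?_
      · refine Finset.mem_filter.2 ⟨hW _ hθl hlne, ?_⟩
        rw [hdl]
        calc 1 < r := hr1
          _ ≤ r * m := Nat.le_mul_of_pos_right r hm0
      · obtain ⟨γ, hγ, rfl⟩ := Finset.mem_image.1 hφ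
        refine Finset.mem_filter.2 ⟨hW _ (hI _ _ γ.2 hη) (hFne γ), ?_⟩
        rw [hFd]
        exact Nat.mul_lt_mul_of_pos_right (Finset.mem_filter.1 hγ).2 hm0
    rw [hfrm]
    calc 2 * (r * m) < 1 + (r * m) ^ 2 := by nlinarith [Nat.le_mul_of_pos_right r hm0]
      _ ≤ d φl ^ 2 + ∑ φ ∈ T.image F, d φ ^ 2 := by
        rw [hdl, one_pow, Finset.sum_image hinj,
          Finset.sum_congr rfl fun γ _ => show d (F γ) ^ 2 =
            Cfsg.charDegree (γ : H ⧸ Q → ℂ) ^ 2 * m ^ 2 by rw [hFd, mul_pow], ← Finset.sum_mul,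
          mul_pow]
        exact Nat.add_le_add_left (Nat.mul_le_mul_right _ hT) 1
      _ = ∑ φ ∈ insert φl (T.image F), d φ ^ 2 :=
        (Finset.sum_insert (f := fun φ => d φ ^ 2) hnotin).symm
      _ ≤ _ := Finset.sum_le_sum_of_subset hsub

open Classical in
/-- The degree inequality for a `p`-group kernel with a large abelianisation. -/
theorem key_pgroup [Fintype H] [Fintype (Cfsg.IrrCharacter H)] {p : ℕ} [Fact p.Prime]
    (hP : IsPGroup p H) (W : Finset (N → ℂ))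
    (hW : ∀ θ : H → ℂ, Cfsg.IsIrrCharacter H θ → θ ≠ (fun _ => 1) → Cfsg.indFun H θ ∈ W)
    (hW' : ∀ φ ∈ W, ∃ θ : H → ℂ, Cfsg.IsIrrCharacter H θ ∧ θ ≠ (fun _ => 1) ∧
      φ = Cfsg.indFun H θ)
    (d : (N → ℂ) → ℕ) (hd : ∀ θ : H → ℂ, Cfsg.IsIrrCharacter H θ → θ ≠ (fun _ => 1) →
      d (Cfsg.indFun H θ) = Cfsg.charDegree θ) :
    H.index * (W.filter fun φ => d φ = 1).card + 1 = (commutator H).index ∧
      (4 * H.index ^ 2 + 1 < (commutator H).index →
        ∀ θ : H → ℂ, Cfsg.IsIrrCharacter H θ → 1 < Cfsg.charDegree θ →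
          2 * Cfsg.charDegree θ < ∑ φ ∈ W.filter (fun φ => d φ < Cfsg.charDegree θ), d φ ^ 2) := by
  have hsum : ∀ (D : ℕ → Prop) [DecidablePred D], D 1 →
      H.index * ∑ φ ∈ W.filter (fun φ => D (d φ)), d φ ^ 2 + 1 =
        ∑ η ∈ Finset.univ.filter (fun η : Cfsg.IrrCharacter H =>
          D (Cfsg.charDegree (η : H → ℂ))), Cfsg.charDegree (η : H → ℂ) ^ 2 := by
    intro D _ hD1
    set U := Finset.univ.filter (fun η : Cfsg.IrrCharacter H => D (Cfsg.charDegree (η : H → ℂ)))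
    have h1U : trivIrr H ∈ U := Finset.mem_filter.2 ⟨Finset.mem_univ _, by
      rw [BlocksChars.Codegree.charDegree_triv]; exact hD1⟩
    have hne : ∀ η ∈ U.erase (trivIrr H), (η : H → ℂ) ≠ fun _ => 1 := fun η hη e =>
      Finset.ne_of_mem_erase hη (Subtype.ext e)
    rw [← Finset.add_sum_erase _ _ h1U, BlocksChars.Codegree.charDegree_triv, one_pow, add_comm 1,
      ← Finset.sum_fiberwise_of_maps_to (g := fun η : Cfsg.IrrCharacter H =>
        Cfsg.indFun H (η : H → ℂ)) (t := W.filter fun φ => D (d φ))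
      (fun η hη => Finset.mem_filter.2 ⟨hW _ η.2 (hne η hη), by
        rw [hd _ η.2 (hne η hη)]
        exact (Finset.mem_filter.1 (Finset.mem_of_mem_erase hη)).2⟩), Finset.mul_sum]
    congr 1
    refine Finset.sum_congr rfl fun φ hφ => ?_
    obtain ⟨θ, hθ, hθ1, rfl⟩ := hW' φ (Finset.mem_filter.1 hφ).1
    have hset : (U.erase (trivIrr H)).filter (fun η : Cfsg.IrrCharacter H =>
        Cfsg.indFun H (η : H → ℂ) = Cfsg.indFun H θ) =
        Finset.univ.filter fun η : Cfsg.IrrCharacter H => (η : H → ℂ) ≠ (fun _ => 1) ∧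
          Cfsg.indFun H (η : H → ℂ) = Cfsg.indFun H θ := by
      ext η
      simp only [U, Finset.mem_filter, Finset.mem_erase, Finset.mem_univ, true_and]
      constructor
      · rintro ⟨⟨h1, -⟩, h2⟩; exact ⟨fun e => h1 (Subtype.ext e), h2⟩
      · rintro ⟨h1, h2⟩
        refine ⟨⟨fun e => h1 (by rw [e]; rfl), ?_⟩, h2⟩
        rw [← hd _ η.2 h1, h2]
        exact (Finset.mem_filter.1 hφ).2
    rw [hset, Finset.sum_congr rfl (g := fun _ => d (Cfsg.indFun H θ) ^ 2) fun η hη => by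
      obtain ⟨h1, h2⟩ := (Finset.mem_filter.1 hη).2
      rw [← hd _ η.2 h1, h2], Finset.sum_const, card_fibre H hC hθ hθ1, smul_eq_mul]
  have hone : ∑ η ∈ Finset.univ.filter (fun η : Cfsg.IrrCharacter H =>
      Cfsg.charDegree (η : H → ℂ) = 1), Cfsg.charDegree (η : H → ℂ) ^ 2 = (commutator H).index := by
    rw [Finset.sum_congr rfl (g := fun _ => 1) fun η hη => by
      rw [(Finset.mem_filter.1 hη).2, one_pow], Finset.sum_const, smul_eq_mul, mul_one,
      ← card_degree_one, Nat.card_eq_fintype_card, Fintype.card_subtype]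
    congr 1
    ext η
    simp only [Finset.mem_filter, Finset.mem_univ, true_and]
    rw [← BlocksChars.Degrees.charDegree_cast, Nat.cast_eq_one]
  constructor
  · rw [← hone, ← hsum (fun k => k = 1) rfl, Finset.sum_congr rfl (g := fun _ => 1) fun φ hφ => by
      rw [(Finset.mem_filter.1 hφ).2, one_pow], Finset.sum_const, smul_eq_mul, mul_one]
  · intro hbig θ hθ hf
    have h1 := pgroup_sum_low hP ⟨θ, hθ⟩ hf
    have h2 : (commutator H).index ≤ ∑ η ∈ Finset.univ.filter (fun η : Cfsg.IrrCharacter H =>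
        Cfsg.charDegree (η : H → ℂ) < Cfsg.charDegree θ), Cfsg.charDegree (η : H → ℂ) ^ 2 := by
      rw [← hone]
      refine Finset.sum_le_sum_of_subset fun η hη => Finset.mem_filter.2 ⟨Finset.mem_univ _, ?_⟩
      rw [(Finset.mem_filter.1 hη).2]; exact hf
    rw [← hsum (fun k => k < Cfsg.charDegree θ) hf] at h1 h2
    set f := Cfsg.charDegree θ
    refine Nat.lt_of_mul_lt_mul_left (a := H.index) ?_
    rcases Nat.lt_or_ge (2 * H.index) f with h | h
    · have h1' : f ^ 2 ≤ H.index * ∑ φ ∈ W.filter (fun φ => d φ < f), d φ ^ 2 + 1 := h1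
      nlinarith
    · nlinarith

end Cfsg.Agent.OddChar.Coherence.Frobenius
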