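import Cfsg.Agent.OddChar.Coherence.Basic
import Cfsg.Agent.OddChar.Signed

/-!
# Coherence for sets of irreducible characters
-/

set_option linter.style.haveILetI false
set_option linter.unusedSectionVars false

namespace Cfsg.Agent.OddChar.Coherence

open Cfsg.Agent.Characters Cfsg.Agent.OddChar.Isometry Cfsg.Agent.OddChar.Signed
open scoped ComplexConjugate

universe u v

variable {L : Type u} [Group L] [Fintype L] {G : Type v} [Group G] [Fintype G]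

theorem irr_orth {S : Set (L → ℂ)} (hirr : ∀ ξ ∈ S, Cfsg.IsIrrCharacter L ξ) {a b : L → ℂ}
    (ha : a ∈ S) (hb : b ∈ S) [Decidable (a = b)] :
    Cfsg.classInner a b = if a = b then 1 else 0 := by
  split_ifs with h
  · rw [h]; exact classInner_isIrr_self (hirr b hb)
  · exact classInner_isIrr_ne (hirr a ha) (hirr b hb) h

theorem isSIrr_image {S : Set (L → ℂ)} (hirr : ∀ ξ ∈ S, Cfsg.IsIrrCharacter L ξ)
    {σ : (L → ℂ) → (G → ℂ)} (hσ : Cfsg.IsLinearIsometryOn (Cfsg.zspan S) σ) {a : L → ℂ}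
    (ha : a ∈ S) : IsSIrr (σ a) :=
  isSIrr_of_norm_one (hσ.2.2.2 _ (mem_zS ha))
    (by rw [hσ.2.2.1 _ (mem_zS ha) _ (mem_zS ha)]; exact classInner_isIrr_self (hirr a ha))

set_option maxHeartbeats 800000 in
/-- Feit's criterion. -/
theorem feit_criterion (S₀ : Finset (L → ℂ)) {χ : L → ℂ}
    (hirr : ∀ ξ ∈ S₀, Cfsg.IsIrrCharacter L ξ) (hχ : Cfsg.IsIrrCharacter L χ) (hχS : χ ∉ S₀)
    (d : (L → ℂ) → ℕ) (hdχ : χ 1 = (d χ : ℂ)) (hd : ∀ ξ ∈ S₀, ξ 1 = (d ξ : ℂ))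
    {τ : (L → ℂ) → (G → ℂ)}
    (hτ : Cfsg.IsLinearIsometryOn (Cfsg.zspanOn (insert χ (↑S₀ : Set (L → ℂ))) {1}ᶜ) τ)
    (hτ1 : ∀ α ∈ Cfsg.zspanOn (insert χ (↑S₀ : Set (L → ℂ))) {1}ᶜ, τ α 1 = 0)
    (hcoh : Cfsg.IsCoherent (↑S₀ : Set (L → ℂ)) {1}ᶜ τ) {ψ : L → ℂ} (hψ : ψ ∈ S₀)
    (hdvd : d ψ ∣ d χ) (hlt : 2 * d ψ * d χ < ∑ ξ ∈ S₀, d ξ ^ 2) :
    Cfsg.IsCoherent (insert χ (↑S₀ : Set (L → ℂ))) {1}ᶜ τ := by
  classical
  obtain ⟨⟨α₀, hα₀, hα₀ne⟩, σ, hσ, hστ⟩ := hcoh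
  obtain ⟨m, hm⟩ := hdvd
  have hdpos : ∀ ξ ∈ S₀, 0 < d ξ := fun ξ hξ => by
    obtain ⟨k, hk, hk'⟩ := irr_one_pos (hirr ξ hξ)
    rw [hd ξ hξ, Nat.cast_inj] at hk'; omega
  have hmpos : 0 < m := by
    obtain ⟨k, hk, hk'⟩ := irr_one_pos hχ
    rw [hdχ, Nat.cast_inj] at hk'
    refine Nat.pos_of_ne_zero fun e => ?_
    rw [e, mul_zero] at hm; omega
  set S : Set (L → ℂ) := insert χ (↑S₀ : Set (L → ℂ)) with hS
  have hS₀ : (↑S₀ : Set (L → ℂ)) ⊆ S := Set.subset_insert _ _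
  have hirrS : ∀ ξ ∈ S, Cfsg.IsIrrCharacter L ξ := by
    rintro ξ (rfl | h)
    exacts [hχ, hirr ξ h]
  have hχm : χ ∈ S := Set.mem_insert _ _
  have hneχ : ∀ ξ ∈ S₀, χ ≠ ξ := fun ξ h e => hχS (e ▸ h)
  have hσo : ∀ a ∈ S₀, ∀ b ∈ S₀, Cfsg.classInner (σ a) (σ b) = if a = b then ((1 : ℕ) : ℂ) else 0 :=
    fun a ha b hb => by
      rw [hσ.2.2.1 _ (mem_zS ha) _ (mem_zS hb), irr_orth (S := ↑S₀) hirr ha hb, Nat.cast_one]
  have hα : χ - (m : ℤ) • ψ ∈ Cfsg.zspanOn S {1}ᶜ :=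
    mem_zspanOn_compl_one
      (Submodule.sub_mem _ (mem_zS hχm) (Submodule.smul_mem _ _ (mem_zS (hS₀ hψ))))
      (by
        simp only [Pi.sub_apply, zsmul_eq_mul, Pi.mul_apply, Pi.intCast_apply, hdχ, hd ψ hψ, hm]
        push_cast; ring)
  set v : G → ℂ := τ (χ - (m : ℤ) • ψ) with hv
  have hvgen : Cfsg.IsGeneralizedCharacter G v := hτ.2.2.2 _ hα
  have hu : ∀ ξ ∈ S₀, ∃ z : ℤ, Cfsg.classInner v (σ ξ) = (z : ℂ) := fun ξ hξ =>
    classInner_gen_int hvgen (hσ.2.2.2 _ (mem_zS hξ))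
  choose! u hu using hu
  set c : ℤ := m + u ψ with hc
  have hβ : ∀ ξ ∈ S₀, (d ψ : ℤ) • ξ - (d ξ : ℤ) • ψ ∈ Cfsg.zspanOn (↑S₀ : Set (L → ℂ)) {1}ᶜ :=
    fun ξ hξ => mem_zspanOn_compl_one
      (Submodule.sub_mem _ (Submodule.smul_mem _ _ (mem_zS hξ)) (Submodule.smul_mem _ _ (mem_zS hψ)))
      (by
        simp only [Pi.sub_apply, zsmul_eq_mul, Pi.mul_apply, Pi.intCast_apply, hd ξ hξ, hd ψ hψ]
        push_cast; ring)
  have hσβ : ∀ ξ ∈ S₀, τ ((d ψ : ℤ) • ξ - (d ξ : ℤ) • ψ) =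
      (d ψ : ℤ) • σ ξ - (d ξ : ℤ) • σ ψ := fun ξ hξ => by
    rw [← hστ _ (hβ ξ hξ), map_sub' (M := zS (↑S₀ : Set (L → ℂ))) hσ
      (Submodule.smul_mem _ _ (mem_zS hξ)) (Submodule.smul_mem _ _ (mem_zS hψ)),
      hσ.2.1 _ (mem_zS hξ), hσ.2.1 _ (mem_zS hψ)]
  have hχo : ∀ ξ ∈ S₀, Cfsg.classInner χ ξ = 0 := fun ξ h =>
    classInner_isIrr_ne hχ (hirr ξ h) (hneχ ξ h)
  have hrel : ∀ ξ ∈ S₀, (d ψ : ℤ) * u ξ = c * d ξ - if ξ = ψ then (m : ℤ) * d ψ else 0 := by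
    intro ξ hξ
    have h := hτ.2.2.1 _ hα _ (zspanOn_mono _ hS₀ (hβ ξ hξ))
    rw [hσβ ξ hξ, ← hv] at h
    simp only [classInner_sub_left, classInner_sub_right, inner_smul_int_left, inner_smul_int_right,
      hu ξ hξ, hu ψ hψ, hχo ξ hξ, hχo ψ hψ, classInner_isIrr_self (hirr ψ hψ)] at h
    by_cases e : ξ = ψ
    · subst e; rw [if_pos rfl, hc]; ring
    · rw [if_neg e, sub_zero]
      rw [classInner_isIrr_ne (hirr ψ hψ) (hirr ξ hξ) (Ne.symm e)] at h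
      have h' : (((d ψ : ℤ) * u ξ : ℤ) : ℂ) = ((c * d ξ : ℤ) : ℂ) := by
        rw [hc]; push_cast at h ⊢; linear_combination h
      exact_mod_cast h'
  set D : ℤ := ∑ ξ ∈ S₀, (d ξ : ℤ) ^ 2 with hD
  have hlt' : 2 * (m : ℤ) * (d ψ : ℤ) ^ 2 < D := by
    have h : ((2 * d ψ * d χ : ℕ) : ℤ) < ((∑ ξ ∈ S₀, d ξ ^ 2 : ℕ) : ℤ) := by exact_mod_cast hlt
    rw [hm] at h
    push_cast at h
    rw [hD]; linarith [h]
  have hdψ : (0 : ℤ) < d ψ := by exact_mod_cast hdpos ψ hψ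
  have hsq : (d ψ : ℤ) ^ 2 * ∑ ξ ∈ S₀, u ξ ^ 2 =
      c ^ 2 * D + ((m : ℤ) ^ 2 - 2 * m * c) * (d ψ : ℤ) ^ 2 := by
    rw [Finset.mul_sum, Finset.sum_congr rfl fun ξ hξ => show (d ψ : ℤ) ^ 2 * u ξ ^ 2 =
        (c * d ξ - if ξ = ψ then (m : ℤ) * d ψ else 0) ^ 2 by rw [← hrel ξ hξ]; ring,
      hD, ← Finset.add_sum_erase _ _ hψ, ← Finset.add_sum_erase _ _ hψ, if_pos rfl]
    rw [Finset.sum_congr rfl fun ξ hξ => show (c * d ξ - if ξ = ψ then (m : ℤ) * d ψ else 0) ^ 2 =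
        c ^ 2 * (d ξ : ℤ) ^ 2 by rw [if_neg (Finset.ne_of_mem_erase hξ)]; ring, ← Finset.mul_sum]
    ring
  have hvv : Cfsg.classInner v v = 1 + (m : ℂ) ^ 2 := by
    rw [hv, hτ.2.2.1 _ hα _ hα]
    simp only [classInner_sub_left, classInner_sub_right, inner_smul_int_left, inner_smul_int_right,
      hχo ψ hψ, inner_comm_zero (hχo ψ hψ), classInner_isIrr_self (hirr ψ hψ),
      classInner_isIrr_self hχ]
    push_cast; ring
  have hb := bessel (s := S₀) (f := σ) (n := fun _ => 1) (fun _ _ => one_pos) hσo hu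
  simp only [Nat.cast_one, div_one, hvv] at hb
  have hb' : (∑ ξ ∈ S₀, u ξ ^ 2) ≤ 1 + (m : ℤ) ^ 2 := by
    have h : ((∑ ξ ∈ S₀, u ξ ^ 2 : ℤ) : ℝ) ≤ ((1 + (m : ℤ) ^ 2 : ℤ) : ℝ) := by
      push_cast
      simpa [sq] using hb
    exact_mod_cast h
  have hc0 : c = 0 := by
    by_contra hne
    have hDpos : 0 < D := lt_of_le_of_lt (by positivity) hlt'
    have hK : 0 < c ^ 2 * D - 2 * m * c * (d ψ : ℤ) ^ 2 := by
      rcases lt_or_gt_of_ne hne with h | h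
      · nlinarith [mul_pos (mul_pos_of_neg_of_neg h h) hDpos,
          mul_nonneg (mul_nonneg (Int.natCast_nonneg m) (neg_nonneg.2 h.le)) (sq_nonneg (d ψ : ℤ))]
      · nlinarith [mul_le_mul_of_nonneg_right (show (1 : ℤ) ≤ c by omega) (mul_nonneg h.le hDpos.le),
          mul_pos h (show 0 < D - 2 * (m : ℤ) * (d ψ : ℤ) ^ 2 by linarith)]
    have heq : ∑ ξ ∈ S₀, u ξ ^ 2 = 1 + (m : ℤ) ^ 2 := by
      refine le_antisymm hb' ?_
      by_contra h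
      have : (d ψ : ℤ) ^ 2 * ∑ ξ ∈ S₀, u ξ ^ 2 ≤ (d ψ : ℤ) ^ 2 * (m : ℤ) ^ 2 :=
        mul_le_mul_of_nonneg_left (by omega) (sq_nonneg _)
      nlinarith
    have hve := eq_of_bessel_le (s := S₀) (f := σ) (n := fun _ => 1) (fun _ _ => one_pos) hσo hu (by
      simp only [Nat.cast_one, div_one, hvv]
      have : ((∑ ξ ∈ S₀, u ξ ^ 2 : ℤ) : ℝ) = ((1 + (m : ℤ) ^ 2 : ℤ) : ℝ) := by rw [heq]
      push_cast at this
      rw [this]
      simp [sq])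
    have hval : ∀ ξ ∈ S₀, (d ψ : ℂ) * σ ξ 1 = (d ξ : ℂ) * σ ψ 1 := fun ξ hξ => by
      have h := hτ1 _ (zspanOn_mono _ hS₀ (hβ ξ hξ))
      rw [hσβ ξ hξ] at h
      simp only [Pi.sub_apply, zsmul_eq_mul, Pi.mul_apply, Pi.intCast_apply] at h
      push_cast at h
      linear_combination h
    have h0 : v 1 = 0 := hτ1 _ hα
    rw [hve] at h0
    simp only [Finset.sum_apply, Pi.smul_apply, smul_eq_mul, Nat.cast_one, div_one] at h0
    have h1 : (((∑ ξ ∈ S₀, ((d ψ : ℤ) * u ξ) * d ξ) : ℤ) : ℂ) * σ ψ 1 = 0 := by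
      rw [Int.cast_sum, Finset.sum_mul, Finset.sum_congr rfl fun ξ hξ => show
        (((d ψ : ℤ) * u ξ * d ξ : ℤ) : ℂ) * σ ψ 1 = (d ψ : ℂ) ^ 2 * ((u ξ : ℂ) * σ ξ 1) by
          push_cast; linear_combination (-(d ψ : ℂ) * (u ξ : ℂ)) * hval ξ hξ,
        ← Finset.mul_sum, h0, mul_zero]
    have hσψ : σ ψ 1 ≠ 0 := (isSIrr_image (S := ↑S₀) hirr hσ hψ).apply_one_ne_zero
    have h2 : c * D - (m : ℤ) * (d ψ : ℤ) ^ 2 = 0 := by
      have h3 := Int.cast_eq_zero.1 ((mul_eq_zero.1 h1).resolve_right hσψ)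
      rw [Finset.sum_congr rfl fun ξ hξ => show (d ψ : ℤ) * u ξ * d ξ =
        c * (d ξ : ℤ) ^ 2 - if ξ = ψ then (m : ℤ) * d ψ * d ψ else 0 by
          rw [hrel ξ hξ]; split_ifs with e
          · subst e; ring
          · ring, Finset.sum_sub_distrib, ← Finset.mul_sum, Finset.sum_ite_eq', if_pos hψ] at h3
      rw [hD]; linarith [h3]
    have hmd : 0 < (m : ℤ) * (d ψ : ℤ) ^ 2 := by positivity
    rcases lt_or_gt_of_ne hne with h | h
    · nlinarith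
    · nlinarith [mul_le_mul_of_nonneg_right (show (1 : ℤ) ≤ c by omega) hDpos.le]
  have hu0 : ∀ ξ ∈ S₀, u ξ = if ξ = ψ then -(m : ℤ) else 0 := by
    intro ξ hξ
    have h := hrel ξ hξ
    rw [hc0] at h
    split_ifs with e
    · subst e; omega
    · rw [if_neg e, zero_mul, sub_zero] at h
      exact (mul_eq_zero.1 h).resolve_left hdψ.ne'
  set e : G → ℂ := v + (m : ℤ) • σ ψ with he
  have heσ : ∀ ξ ∈ S₀, Cfsg.classInner e (σ ξ) = 0 := fun ξ hξ => by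
    rw [he, classInner_add_left, inner_smul_int_left, hu ξ hξ, hσo ψ hψ ξ hξ, hu0 ξ hξ]
    by_cases h : ξ = ψ
    · subst h; simp
    · rw [if_neg h, if_neg (Ne.symm h)]; simp
  have hee : Cfsg.classInner e e = 1 := by
    rw [he, classInner_add_left, classInner_add_right, classInner_add_right, inner_smul_int_left,
      inner_smul_int_left, inner_smul_int_right, inner_smul_int_right, hvv, hu ψ hψ,
      inner_comm_int (hu ψ hψ), hσo ψ hψ ψ hψ, hu0 ψ hψ, if_pos rfl, if_pos rfl]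
    push_cast; ring
  have hegen : Cfsg.IsGeneralizedCharacter G e := by
    rw [he, ← Int.cast_smul_eq_zsmul ℂ]
    exact isGen_add hvgen (isGen_intSmul (hσ.2.2.2 _ (mem_zS hψ)) _)
  let f : (L → ℂ) → (G → ℂ) := fun φ => if φ = χ then e else σ φ
  have hfχ : f χ = e := if_pos rfl
  have hf : ∀ φ ∈ S₀, f φ = σ φ := fun φ h => if_neg (hneχ φ h).symm
  set s : Finset (L → ℂ) := insert χ S₀ with hs
  have hsS : (↑s : Set (L → ℂ)) = S := by simp [hs, hS]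
  have horths : ∀ a ∈ s, ∀ b ∈ s, a ≠ b → Cfsg.classInner a b = 0 := fun a ha b hb h =>
    classInner_isIrr_ne (hirrS a (hsS ▸ ha)) (hirrS b (hsS ▸ hb)) h
  have hnes : ∀ a ∈ s, Cfsg.classInner a a ≠ 0 := fun a ha => by
    rw [classInner_isIrr_self (hirrS a (hsS ▸ ha))]; exact one_ne_zero
  have hgram : ∀ a ∈ s, ∀ b ∈ s, Cfsg.classInner (f a) (f b) = Cfsg.classInner a b := by
    intro a ha b hb
    rcases Finset.mem_insert.1 ha with ha' | ha' <;> rcases Finset.mem_insert.1 hb with hb' | hb'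
    · rw [ha', hb', hfχ, hee, classInner_isIrr_self hχ]
    · rw [ha', hfχ, hf b hb', heσ b hb', hχo b hb']
    · rw [hb', hfχ, hf a ha', inner_comm_zero (heσ a ha'), inner_comm_zero (hχo a ha')]
    · rw [hf a ha', hf b hb', hσ.2.2.1 _ (mem_zS ha') _ (mem_zS hb')]
  have hgen : ∀ a ∈ s, Cfsg.IsGeneralizedCharacter G (f a) := by
    intro a ha
    rcases Finset.mem_insert.1 ha with rfl | ha
    · rw [hfχ]; exact hegen
    · rw [hf a ha]; exact hσ.2.2.2 _ (mem_zS ha)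
  set F := extend s f with hF
  have hFiso := extend_isometry horths hnes hgram hgen
  rw [hsS] at hFiso
  refine ⟨⟨α₀, zspanOn_mono _ hS₀ hα₀, hα₀ne⟩, F, hFiso, ?_⟩
  have hFσ : ∀ β ∈ Cfsg.zspan (↑S₀ : Set (L → ℂ)), F β = σ β := fun β hβ => by
    refine Submodule.span_induction (p := fun x _ => F x = σ x) (fun x hx => ?_) ?_ ?_ ?_ hβ
    · rw [hF, extend_apply horths hnes (Finset.mem_insert_of_mem hx), hf x hx]
    · rw [map_zero, map_zero' (M := zS (↑S₀ : Set (L → ℂ))) hσ]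
    · intro x y hx hy ex ey; rw [map_add, ex, ey, hσ.1 x hx y hy]
    · intro k x hx ex; rw [map_zsmul, ex, hσ.2.1 x hx k]
  intro α hαm
  obtain ⟨k, β, hβm, rfl⟩ := Submodule.mem_span_insert.1 hαm.1
  have hd' : k • χ + β = (β + (k * m) • ψ) + k • (χ - (m : ℤ) • ψ) := by module
  have hβ' : β + (k * (m : ℤ)) • ψ ∈ Cfsg.zspanOn (↑S₀ : Set (L → ℂ)) {1}ᶜ := by
    refine mem_zspanOn_compl_one (Submodule.add_mem _ hβm (Submodule.smul_mem _ _ (mem_zS hψ))) ?_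
    have h0 := apply_one_eq_zero hαm
    rw [hd', Pi.add_apply, Pi.smul_apply, apply_one_eq_zero hα, smul_zero, add_zero] at h0
    exact h0
  have hFα : F (χ - (m : ℤ) • ψ) = τ (χ - (m : ℤ) • ψ) := by
    rw [map_sub, map_zsmul, hFσ ψ (mem_zS hψ), hF,
      extend_apply horths hnes (Finset.mem_insert_self χ S₀), hfχ, he, add_sub_cancel_right]
  rw [hd', map_add F (β + (k * (m : ℤ)) • ψ), map_zsmul F k (χ - (m : ℤ) • ψ), hFσ _ hβ'.1,
    hστ _ hβ', hFα]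
  have hz : Cfsg.IsLinearIsometryOn (zOn S {1}ᶜ : Set (L → ℂ)) τ := hτ
  rw [hz.1 _ (zspanOn_mono _ hS₀ hβ') _ ((zOn S {1}ᶜ).smul_mem k hα), hz.2.1 _ hα]

/-- Two coherent sets have orthogonal images. -/
theorem images_orth {S X Y : Set (L → ℂ)} (hirr : ∀ ξ ∈ S, Cfsg.IsIrrCharacter L ξ) (hXS : X ⊆ S)
    (hYS : Y ⊆ S) (hXY : Disjoint X Y) (hX2 : ∃ a ∈ X, ∃ b ∈ X, a ≠ b)
    (hY2 : ∃ a ∈ Y, ∃ b ∈ Y, a ≠ b) {α : (L → ℂ) → (G → ℂ)}
    (hα : Cfsg.IsLinearIsometryOn (Cfsg.zspanOn S {1}ᶜ) α)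
    (hα1 : ∀ θ ∈ Cfsg.zspanOn S {1}ᶜ, α θ 1 = 0) {σ τ : (L → ℂ) → (G → ℂ)}
    (hσ : Cfsg.IsLinearIsometryOn (Cfsg.zspan X) σ)
    (hσα : ∀ θ ∈ Cfsg.zspanOn X {1}ᶜ, σ θ = α θ)
    (hτ : Cfsg.IsLinearIsometryOn (Cfsg.zspan Y) τ)
    (hτα : ∀ θ ∈ Cfsg.zspanOn Y {1}ᶜ, τ θ = α θ) {χ η : L → ℂ} (hχ : χ ∈ X) (hη : η ∈ Y) :
    Cfsg.classInner (σ χ) (τ η) = 0 := by
  classical
  by_contra hne
  obtain ⟨b, hb, hbχ⟩ : ∃ b ∈ X, b ≠ χ := by
    obtain ⟨a, ha, b, hb, hab⟩ := hX2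
    by_cases e : b = χ
    · exact ⟨a, ha, fun e' => hab (e'.trans e.symm)⟩
    · exact ⟨b, hb, e⟩
  obtain ⟨d, hd, hdη⟩ : ∃ d ∈ Y, d ≠ η := by
    obtain ⟨a, ha, b, hb, hab⟩ := hY2
    by_cases e : b = η
    · exact ⟨a, ha, fun e' => hab (e'.trans e.symm)⟩
    · exact ⟨b, hb, e⟩
  obtain ⟨na, hna, ea⟩ := irr_one_pos (hirr χ (hXS hχ))
  obtain ⟨nb, hnb, eb⟩ := irr_one_pos (hirr b (hXS hb))
  obtain ⟨nc, hnc, ec⟩ := irr_one_pos (hirr η (hYS hη))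
  obtain ⟨nd, hnd, ed⟩ := irr_one_pos (hirr d (hYS hd))
  have hθ : (nb : ℤ) • χ - (na : ℤ) • b ∈ Cfsg.zspanOn X {1}ᶜ :=
    mem_zspanOn_compl_one
      (Submodule.sub_mem _ (Submodule.smul_mem _ _ (mem_zS hχ)) (Submodule.smul_mem _ _ (mem_zS hb)))
      (by
        simp only [Pi.sub_apply, zsmul_eq_mul, Pi.mul_apply, Pi.intCast_apply, ea, eb]
        push_cast; ring)
  have hφ : (nd : ℤ) • η - (nc : ℤ) • d ∈ Cfsg.zspanOn Y {1}ᶜ :=
    mem_zspanOn_compl_one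
      (Submodule.sub_mem _ (Submodule.smul_mem _ _ (mem_zS hη)) (Submodule.smul_mem _ _ (mem_zS hd)))
      (by
        simp only [Pi.sub_apply, zsmul_eq_mul, Pi.mul_apply, Pi.intCast_apply, ec, ed]
        push_cast; ring)
  have eθ : α ((nb : ℤ) • χ - (na : ℤ) • b) = (nb : ℤ) • σ χ - (na : ℤ) • σ b := by
    rw [← hσα _ hθ, map_sub' (M := zS X) hσ (Submodule.smul_mem _ _ (mem_zS hχ))
      (Submodule.smul_mem _ _ (mem_zS hb)), hσ.2.1 _ (mem_zS hχ), hσ.2.1 _ (mem_zS hb)]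
  have eφ : α ((nd : ℤ) • η - (nc : ℤ) • d) = (nd : ℤ) • τ η - (nc : ℤ) • τ d := by
    rw [← hτα _ hφ, map_sub' (M := zS Y) hτ (Submodule.smul_mem _ _ (mem_zS hη))
      (Submodule.smul_mem _ _ (mem_zS hd)), hτ.2.1 _ (mem_zS hη), hτ.2.1 _ (mem_zS hd)]
  have hθ1 := hα1 _ (zspanOn_mono _ hXS hθ)
  have hφ1 := hα1 _ (zspanOn_mono _ hYS hφ)
  rw [eθ] at hθ1
  rw [eφ] at hφ1
  simp only [Pi.sub_apply, zsmul_eq_mul, Pi.mul_apply, Pi.natCast_apply,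
    Int.cast_natCast] at hθ1 hφ1
  have hzero := hα.2.2.1 _ (zspanOn_mono _ hXS hθ) _ (zspanOn_mono _ hYS hφ)
  rw [eθ, eφ] at hzero
  have hd0 : ∀ x ∈ X, ∀ y ∈ Y, Cfsg.classInner x y = 0 := fun x hx y hy =>
    classInner_isIrr_ne (hirr x (hXS hx)) (hirr y (hYS hy))
      fun e => Set.disjoint_left.1 hXY hx (e ▸ hy)
  have hsa := isSIrr_image (fun x hx => hirr x (hXS hx)) hσ hχ
  have hsb := isSIrr_image (fun x hx => hirr x (hXS hx)) hσ hb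
  have hsc := isSIrr_image (fun x hx => hirr x (hYS hx)) hτ hη
  have hsd := isSIrr_image (fun x hx => hirr x (hYS hx)) hτ hd
  have hbχ0 : Cfsg.classInner (σ b) (σ χ) = 0 := by
    rw [hσ.2.2.1 _ (mem_zS hb) _ (mem_zS hχ)]
    exact classInner_isIrr_ne (hirr b (hXS hb)) (hirr χ (hXS hχ)) hbχ
  have hdη0 : Cfsg.classInner (τ η) (τ d) = 0 := by
    rw [hτ.2.2.1 _ (mem_zS hη) _ (mem_zS hd)]
    exact classInner_isIrr_ne (hirr η (hYS hη)) (hirr d (hYS hd)) hdη.symm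
  simp only [classInner_sub_left, classInner_sub_right, inner_smul_int_left, inner_smul_int_right,
    hd0 χ hχ η hη, hd0 χ hχ d hd, hd0 b hb η hη, hd0 b hb d hd, mul_zero, sub_zero] at hzero
  push_cast at hzero
  obtain ⟨ε, hε, hce⟩ : ∃ ε : ℂ, ε * ε = 1 ∧ τ η = ε • σ χ := by
    rcases hsc.inner_cases hsa with h | h | h
    · exact absurd (inner_comm_zero h) hne
    · exact ⟨1, by norm_num, by rw [h, one_smul]⟩
    · exact ⟨-1, by norm_num, by rw [h, neg_one_smul]⟩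
  have hεc : (starRingEnd ℂ) ε = ε := by
    rcases mul_self_eq_one_iff.1 hε with e | e <;> simp [e]
  have hε0 : ε ≠ 0 := fun e => by rw [e, mul_zero] at hε; exact zero_ne_one hε
  have hχd : Cfsg.classInner (σ χ) (τ d) = 0 := by
    rw [hce, classInner_smul_left] at hdη0
    exact (mul_eq_zero.1 hdη0).resolve_left hε0
  have hbη : Cfsg.classInner (σ b) (τ η) = 0 := by
    rw [hce, classInner_smul_right, hbχ0, mul_zero]
  have hχη : Cfsg.classInner (σ χ) (τ η) = ε := by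
    rw [hce, classInner_smul_right, hsa.inner_self, hεc, mul_one]
  rw [hχη, hχd, hbη] at hzero
  have hpos : (0 : ℝ) < (nb : ℝ) * nd := by positivity
  rcases hsd.inner_cases hsb with h | h | h
  · rw [inner_comm_zero h] at hzero
    have h' : (nb : ℂ) * nd * ε = 0 := by linear_combination hzero
    simp [hε0, hnb.ne', hnd.ne'] at h'
  all_goals
    rw [h] at hzero hφ1
    rw [hce] at hφ1
    simp only [Pi.smul_apply, smul_eq_mul, Pi.neg_apply] at hφ1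
    have h1 : Cfsg.classInner (σ b) (σ b) = 1 := hsb.inner_self
    have h2 : Cfsg.classInner (σ b) (-σ b) = -1 := by
      simp [classInner_def] at h1 ⊢; linear_combination h1
    simp only [h1, h2] at hzero
    have key : ((nc * nd * (na * na + nb * nb) : ℕ) : ℂ) = 0 ∨ σ b 1 = 0 := by
      refine mul_eq_zero.1 ?_
      push_cast
      rcases mul_self_eq_one_iff.1 hε with e | e <;> subst e
      · linear_combination (na : ℂ) * nc * nb * hφ1 - (na : ℂ) * nc * nd * hθ1 +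
          (nb : ℂ) * nc * (σ b 1) * hzero
      · linear_combination -((na : ℂ) * nc * nb) * hφ1 - (na : ℂ) * nc * nd * hθ1 -
          (nb : ℂ) * nc * (σ b 1) * hzero
    rcases key with k | k
    · have := Nat.cast_eq_zero.1 k
      have : 0 < nc * nd * (na * na + nb * nb) := by positivity
      omega
    · exact hsb.apply_one_ne_zero k

/-- The union of two coherent sets glued by one difference. -/
theorem coherent_union {S X Y : Set (L → ℂ)} (hirr : ∀ ξ ∈ S, Cfsg.IsIrrCharacter L ξ) (hXS : X ⊆ S)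
    (hYS : Y ⊆ S) (hXY : Disjoint X Y) (hX2 : ∃ a ∈ X, ∃ b ∈ X, a ≠ b)
    (hY2 : ∃ a ∈ Y, ∃ b ∈ Y, a ≠ b) {α : (L → ℂ) → (G → ℂ)}
    (hα : Cfsg.IsLinearIsometryOn (Cfsg.zspanOn S {1}ᶜ) α)
    (hα1 : ∀ θ ∈ Cfsg.zspanOn S {1}ᶜ, α θ 1 = 0) {σ τ : (L → ℂ) → (G → ℂ)}
    (hσ : Cfsg.IsLinearIsometryOn (Cfsg.zspan X) σ)
    (hσα : ∀ θ ∈ Cfsg.zspanOn X {1}ᶜ, σ θ = α θ)
    (hτ : Cfsg.IsLinearIsometryOn (Cfsg.zspan Y) τ)
    (hτα : ∀ θ ∈ Cfsg.zspanOn Y {1}ᶜ, τ θ = α θ) {χ₀ η₀ : L → ℂ} (hχ₀ : χ₀ ∈ X) (hη₀ : η₀ ∈ Y)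
    (hglue : α (χ₀ 1 • η₀ - η₀ 1 • χ₀) = χ₀ 1 • τ η₀ - η₀ 1 • σ χ₀) :
    Cfsg.IsCoherent (X ∪ Y) {1}ᶜ α := by
  classical
  have hUS : X ∪ Y ⊆ S := Set.union_subset hXS hYS
  haveI : Finite (Cfsg.IrrCharacter L) := inferInstance
  have hfin : (X ∪ Y).Finite :=
    (Set.finite_range (fun t : Cfsg.IrrCharacter L => (t : L → ℂ))).subset
      fun ξ h => ⟨⟨ξ, hirr ξ (hUS h)⟩, rfl⟩
  set s := hfin.toFinset with hs
  have hsU : (↑s : Set (L → ℂ)) = X ∪ Y := hfin.coe_toFinset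
  have hnotX : ∀ y ∈ Y, y ∉ X := fun y hy hx => Set.disjoint_left.1 hXY hx hy
  let f : (L → ℂ) → (G → ℂ) := fun φ => if φ ∈ X then σ φ else τ φ
  have hfX : ∀ x ∈ X, f x = σ x := fun x h => if_pos h
  have hfY : ∀ y ∈ Y, f y = τ y := fun y h => if_neg (hnotX y h)
  have hmem : ∀ a ∈ s, a ∈ X ∨ a ∈ Y := fun a ha => hfin.mem_toFinset.1 ha
  have horths : ∀ a ∈ s, ∀ b ∈ s, a ≠ b → Cfsg.classInner a b = 0 := fun a ha b hb h =>
    classInner_isIrr_ne (hirr a (hUS (hmem a ha))) (hirr b (hUS (hmem b hb))) h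
  have hnes : ∀ a ∈ s, Cfsg.classInner a a ≠ 0 := fun a ha => by
    rw [classInner_isIrr_self (hirr a (hUS (hmem a ha)))]; exact one_ne_zero
  have hcross : ∀ x ∈ X, ∀ y ∈ Y, Cfsg.classInner (σ x) (τ y) = 0 := fun x hx y hy =>
    images_orth hirr hXS hYS hXY hX2 hY2 hα hα1 hσ hσα hτ hτα hx hy
  have hxy : ∀ x ∈ X, ∀ y ∈ Y, Cfsg.classInner x y = 0 := fun x hx y hy =>
    classInner_isIrr_ne (hirr x (hXS hx)) (hirr y (hYS hy)) fun e => hnotX y hy (e ▸ hx)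
  have hgram : ∀ a ∈ s, ∀ b ∈ s, Cfsg.classInner (f a) (f b) = Cfsg.classInner a b := by
    intro a ha b hb
    rcases hmem a ha with ha' | ha' <;> rcases hmem b hb with hb' | hb'
    · rw [hfX a ha', hfX b hb', hσ.2.2.1 _ (mem_zS ha') _ (mem_zS hb')]
    · rw [hfX a ha', hfY b hb', hcross a ha' b hb', hxy a ha' b hb']
    · rw [hfY a ha', hfX b hb', inner_comm_zero (hcross b hb' a ha'),
        inner_comm_zero (hxy b hb' a ha')]
    · rw [hfY a ha', hfY b hb', hτ.2.2.1 _ (mem_zS ha') _ (mem_zS hb')]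
  have hgen : ∀ a ∈ s, Cfsg.IsGeneralizedCharacter G (f a) := by
    intro a ha
    rcases hmem a ha with ha' | ha'
    · rw [hfX a ha']; exact hσ.2.2.2 _ (mem_zS ha')
    · rw [hfY a ha']; exact hτ.2.2.2 _ (mem_zS ha')
  set F := extend s f with hF
  have hFiso := extend_isometry horths hnes hgram hgen
  rw [hsU] at hFiso
  have hFσ : ∀ β ∈ Cfsg.zspan X, F β = σ β := fun β hβ => by
    refine Submodule.span_induction (p := fun x _ => F x = σ x) (fun x hx => ?_) ?_ ?_ ?_ hβ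
    · rw [hF, extend_apply horths hnes (hfin.mem_toFinset.2 (Or.inl hx)), hfX x hx]
    · rw [map_zero, map_zero' (M := zS X) hσ]
    · intro x y hx hy ex ey; rw [map_add, ex, ey, hσ.1 x hx y hy]
    · intro k x hx ex; rw [map_zsmul, ex, hσ.2.1 x hx k]
  have hFτ : ∀ β ∈ Cfsg.zspan Y, F β = τ β := fun β hβ => by
    refine Submodule.span_induction (p := fun x _ => F x = τ x) (fun x hx => ?_) ?_ ?_ ?_ hβ
    · rw [hF, extend_apply horths hnes (hfin.mem_toFinset.2 (Or.inr hx)), hfY x hx]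
    · rw [map_zero, map_zero' (M := zS Y) hτ]
    · intro x y hx hy ex ey; rw [map_add, ex, ey, hτ.1 x hx y hy]
    · intro k x hx ex; rw [map_zsmul, ex, hτ.2.1 x hx k]
  obtain ⟨p, hp, ep⟩ := irr_one_pos (hirr χ₀ (hXS hχ₀))
  obtain ⟨q, hq, eq⟩ := irr_one_pos (hirr η₀ (hYS hη₀))
  refine ⟨?_, F, hFiso, ?_⟩
  · obtain ⟨a, ha, b, hb, hab⟩ := hX2
    obtain ⟨na, hna, ea⟩ := irr_one_pos (hirr a (hXS ha))
    obtain ⟨nb, hnb, eb⟩ := irr_one_pos (hirr b (hXS hb))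
    refine ⟨(nb : ℤ) • a - (na : ℤ) • b, mem_zspanOn_compl_one (Submodule.sub_mem _
      (Submodule.smul_mem _ _ (mem_zS (Or.inl ha))) (Submodule.smul_mem _ _ (mem_zS (Or.inl hb))))
      (by
        simp only [Pi.sub_apply, zsmul_eq_mul, Pi.mul_apply, Pi.intCast_apply, ea, eb]
        push_cast; ring), fun e => ?_⟩
    have h := congrArg (fun φ => Cfsg.classInner φ a) e
    simp only [classInner_sub_left, inner_smul_int_left, classInner_zero_left,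
      classInner_isIrr_self (hirr a (hXS ha)),
      classInner_isIrr_ne (hirr b (hXS hb)) (hirr a (hXS ha)) hab.symm] at h
    simp [hnb.ne'] at h
  set K : L → ℂ := (p : ℤ) • η₀ - (q : ℤ) • χ₀ with hK
  have hK' : χ₀ 1 • η₀ - η₀ 1 • χ₀ = K := by
    rw [hK, ep, eq, ← Int.cast_smul_eq_zsmul ℂ, ← Int.cast_smul_eq_zsmul ℂ]; norm_cast
  have hKmem : K ∈ Cfsg.zspanOn S {1}ᶜ :=
    mem_zspanOn_compl_one (Submodule.sub_mem _ (Submodule.smul_mem _ _ (mem_zS (hYS hη₀)))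
      (Submodule.smul_mem _ _ (mem_zS (hXS hχ₀))))
      (by
        simp only [hK, Pi.sub_apply, zsmul_eq_mul, Pi.mul_apply, Pi.intCast_apply, ep, eq]
        push_cast; ring)
  have hFK : F K = α K := by
    rw [← hK', hglue, map_sub, map_smul, map_smul, hFσ _ (mem_zS hχ₀), hFτ _ (mem_zS hη₀)]
  intro γ hγ
  have hγ' : γ ∈ Submodule.span ℤ (X ∪ Y) := hγ.1
  rw [Submodule.span_union] at hγ'
  obtain ⟨x, hx, y, hy, rfl⟩ := Submodule.mem_sup.1 hγ'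
  have hgx : Cfsg.IsGeneralizedCharacter L x := by
    refine Submodule.span_induction (p := fun z _ => Cfsg.IsGeneralizedCharacter L z)
      (fun z hz => isGen_of_isCharacter (isCharacter_of_isIrr (hirr z (hXS hz)))) isGen_zero
      (fun _ _ _ _ => isGen_add) (fun k z _ hz => ?_) hx
    rw [← Int.cast_smul_eq_zsmul ℂ k z]; exact isGen_intSmul hz k
  obtain ⟨r, hr⟩ : ∃ r : ℤ, x 1 = r := by
    obtain ⟨c, c', hc, hc', rfl⟩ := hgx
    obtain ⟨n, hn⟩ := char_one_nat hc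
    obtain ⟨n', hn'⟩ := char_one_nat hc'
    exact ⟨(n : ℤ) - n', by simp [hn, hn']⟩
  have hy1 : y 1 = -(r : ℂ) := by
    have h0 := apply_one_eq_zero hγ
    rw [Pi.add_apply, hr] at h0
    linear_combination h0
  set x' : L → ℂ := (p : ℤ) • x - r • χ₀ with hx'
  set y' : L → ℂ := (q : ℤ) • y + r • η₀ with hy'
  have hx'm : x' ∈ Cfsg.zspanOn X {1}ᶜ :=
    mem_zspanOn_compl_one (Submodule.sub_mem _ (Submodule.smul_mem _ _ hx)
      (Submodule.smul_mem _ _ (mem_zS hχ₀)))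
      (by
        simp only [hx', Pi.sub_apply, zsmul_eq_mul, Pi.mul_apply, Pi.intCast_apply, ep, hr]
        push_cast; ring)
  have hy'm : y' ∈ Cfsg.zspanOn Y {1}ᶜ :=
    mem_zspanOn_compl_one (Submodule.add_mem _ (Submodule.smul_mem _ _ hy)
      (Submodule.smul_mem _ _ (mem_zS hη₀)))
      (by
        simp only [hy', Pi.add_apply, zsmul_eq_mul, Pi.mul_apply, Pi.intCast_apply, eq, hy1]
        push_cast; ring)
  have hdec : ((p : ℤ) * q) • (x + y) = (q : ℤ) • x' + (p : ℤ) • y' + (-r) • K := by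
    rw [hx', hy', hK]; module
  have hz : Cfsg.IsLinearIsometryOn (zOn S {1}ᶜ : Set (L → ℂ)) α := hα
  have hzX := zspanOn_mono _ hXS hx'm
  have hzY := zspanOn_mono _ hYS hy'm
  have hFz : ((p : ℤ) * q) • F (x + y) = ((p : ℤ) * q) • α (x + y) := by
    rw [← map_zsmul F, ← hz.2.1 _ (zspanOn_mono _ hUS hγ), hdec,
      map_add F ((q : ℤ) • x' + (p : ℤ) • y'), map_add F ((q : ℤ) • x'), map_zsmul F (q : ℤ) x',
      map_zsmul F (p : ℤ) y', map_zsmul F (-r) K, hFK, hFσ _ hx'm.1, hσα _ hx'm, hFτ _ hy'm.1,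
      hτα _ hy'm,
      hz.1 _ ((zOn S {1}ᶜ).add_mem ((zOn S {1}ᶜ).smul_mem _ hzX) ((zOn S {1}ᶜ).smul_mem _ hzY))
        _ ((zOn S {1}ᶜ).smul_mem _ hKmem),
      hz.1 _ ((zOn S {1}ᶜ).smul_mem _ hzX) _ ((zOn S {1}ᶜ).smul_mem _ hzY),
      hz.2.1 _ hzX, hz.2.1 _ hzY, hz.2.1 _ hKmem]
  exact smul_right_injective _ (mul_ne_zero (Int.natCast_ne_zero.2 hp.ne')
    (Int.natCast_ne_zero.2 hq.ne')) hFz

end Cfsg.Agent.OddChar.Coherence
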