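import Cfsg.Agent.OddChar.Coherence.TI

/-!
# Sibley's theorem: the non-abelian case
-/

set_option linter.style.haveILetI false
set_option linter.unusedSectionVars false

namespace Cfsg.Agent.OddChar.Coherence.Sibley

open Cfsg.Agent.Characters Cfsg.Agent.OddChar.Isometry
open scoped ComplexConjugate

universe u v

section Swap

variable {N : Type u} [Group N] [Fintype N] {G : Type v} [Group G] [Fintype G]

open Classical in
/-- For two characters of one degree the extension may be swapped and negated. -/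
theorem swap_pair {Y : Set (N → ℂ)} {η₀ η₁ : N → ℂ} (hY : Y = {η₀, η₁}) (hne : η₀ ≠ η₁)
    (hirr : ∀ η ∈ Y, Cfsg.IsIrrCharacter N η) (hdeg : η₀ 1 = η₁ 1)
    {τ σ : (N → ℂ) → (G → ℂ)} (hσ : Cfsg.IsLinearIsometryOn (Cfsg.zspan Y) σ)
    (hστ : ∀ θ ∈ Cfsg.zspanOn Y {1}ᶜ, σ θ = τ θ) :
    ∃ σ' : (N → ℂ) → (G → ℂ), Cfsg.IsLinearIsometryOn (Cfsg.zspan Y) σ' ∧
      (∀ θ ∈ Cfsg.zspanOn Y {1}ᶜ, σ' θ = τ θ) ∧ σ' η₀ = -σ η₁ ∧ σ' η₁ = -σ η₀ := by
  have h0Y : η₀ ∈ Y := hY ▸ Set.mem_insert _ _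
  have h1Y : η₁ ∈ Y := hY ▸ Set.mem_insert_of_mem _ rfl
  set s : Finset (N → ℂ) := {η₀, η₁}
  have hs : (↑s : Set (N → ℂ)) = Y := by rw [hY]; simp [s]
  have hsY : ∀ a ∈ s, a = η₀ ∨ a = η₁ := fun a ha => by simpa [s] using ha
  let f : (N → ℂ) → (G → ℂ) := fun a => if a = η₀ then -σ η₁ else -σ η₀
  have hf0 : f η₀ = -σ η₁ := if_pos rfl
  have hf1 : f η₁ = -σ η₀ := if_neg hne.symm
  have horth : ∀ a ∈ s, ∀ b ∈ s, a ≠ b → Cfsg.classInner a b = 0 := fun a ha b hb h =>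
    classInner_isIrr_ne (hirr a (hs ▸ ha)) (hirr b (hs ▸ hb)) h
  have hnz : ∀ a ∈ s, Cfsg.classInner a a ≠ 0 := fun a ha => by
    rw [classInner_isIrr_self (hirr a (hs ▸ ha))]; exact one_ne_zero
  have hneg : ∀ a b : G → ℂ, Cfsg.classInner (-a) (-b) = Cfsg.classInner a b := fun a b => by
    rw [classInner_neg_left, classInner_conj_symm (-b) a, classInner_neg_left,
      classInner_conj_symm b a]
    simp
  have hg := hσ.2.2.1
  have hgram : ∀ a ∈ s, ∀ b ∈ s, Cfsg.classInner (f a) (f b) = Cfsg.classInner a b := by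
    intro a ha b hb
    rcases hsY a ha with rfl | rfl <;> rcases hsY b hb with rfl | rfl
    · rw [hf0, hneg, hg _ (mem_zS h1Y) _ (mem_zS h1Y), classInner_isIrr_self (hirr _ h1Y),
        classInner_isIrr_self (hirr _ h0Y)]
    · rw [hf0, hf1, hneg, hg _ (mem_zS h1Y) _ (mem_zS h0Y),
        classInner_isIrr_ne (hirr _ h1Y) (hirr _ h0Y) hne.symm,
        classInner_isIrr_ne (hirr _ h0Y) (hirr _ h1Y) hne]
    · rw [hf0, hf1, hneg, hg _ (mem_zS h0Y) _ (mem_zS h1Y),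
        classInner_isIrr_ne (hirr _ h1Y) (hirr _ h0Y) hne.symm,
        classInner_isIrr_ne (hirr _ h0Y) (hirr _ h1Y) hne]
    · rw [hf1, hneg, hg _ (mem_zS h0Y) _ (mem_zS h0Y), classInner_isIrr_self (hirr _ h1Y),
        classInner_isIrr_self (hirr _ h0Y)]
  have hgen : ∀ a ∈ s, Cfsg.IsGeneralizedCharacter G (f a) := fun a ha => by
    rcases hsY a ha with rfl | rfl
    · rw [hf0]; exact isGen_neg (hσ.2.2.2 _ (mem_zS h1Y))
    · rw [hf1]; exact isGen_neg (hσ.2.2.2 _ (mem_zS h0Y))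
  have hF := extend_isometry horth hnz hgram hgen
  rw [hs] at hF
  have h0 : η₀ ∈ s := by simp [s]
  have h1 : η₁ ∈ s := by simp [s]
  refine ⟨extend s f, hF, fun θ hθ => ?_, (extend_apply horth hnz h0).trans hf0,
    (extend_apply horth hnz h1).trans hf1⟩
  have hm : θ ∈ Submodule.span ℤ ({η₀, η₁} : Set (N → ℂ)) := hY ▸ hθ.1
  obtain ⟨a, b, rfl⟩ := Submodule.mem_span_pair.1 hm
  have hab : b = -a := by
    have h := apply_one_eq_zero hθ
    obtain ⟨k, hk, hk'⟩ := irr_one_pos (hirr _ h1Y)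
    have h : ((a • η₀ + b • η₁ : N → ℂ)) 1 = 0 := h
    rw [Pi.add_apply, Pi.smul_apply, Pi.smul_apply, hdeg, hk', zsmul_eq_mul, zsmul_eq_mul,
      ← add_mul] at h
    have h' := (mul_eq_zero.1 h).resolve_right (Nat.cast_ne_zero.2 hk.ne')
    have : a + b = 0 := by exact_mod_cast h'
    omega
  subst hab
  rw [← hστ _ hθ, map_add, map_zsmul, map_zsmul, extend_apply horth hnz h0,
    extend_apply horth hnz h1, hf0, hf1,
    hσ.1 _ (Submodule.smul_mem _ _ (mem_zS h0Y)) _ (Submodule.smul_mem _ _ (mem_zS h1Y)),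
    hσ.2.1 _ (mem_zS h0Y), hσ.2.1 _ (mem_zS h1Y)]
  module

end Swap

variable {G : Type u} [Group G] [Fintype G] (L : Subgroup G) [Fintype L] (K : Subgroup L)
  [hK : K.Normal] (hC : ∀ k ∈ K, k ≠ 1 → Subgroup.centralizer ({k} : Set L) ≤ K)
  (hTI : ∀ y : L, y ∈ K → y ≠ 1 → ∀ x : G, ∀ hx : x⁻¹ * (y : G) * x ∈ L,
    (⟨_, hx⟩ : L) ∈ K → x ∈ L)

include hC hTI

set_option maxHeartbeats 2000000 in
open Classical in
/-- The non-abelian case of Sibley's theorem. -/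
theorem coherent_nonabelian (hodd : Odd (Nat.card L)) {p : ℕ} [hp : Fact p.Prime]
    (hP : IsPGroup p K) (hna : ¬ IsMulCommutative K) (hKL : K < ⊤)
    (hcong : ∀ Z : Subgroup L, Z.Normal → Z ≠ ⊥ → Z ≤ K → (∀ z ∈ Z, ∀ k ∈ K, z * k = k * z) →
      ∀ ψ : G → ℂ, Cfsg.IsIrrCharacter G ψ →
      (∀ z ∈ Z, ∀ z' ∈ Z, z ≠ 1 → z' ≠ 1 → ψ (z : G) = ψ (z' : G)) →
      ∀ z ∈ Z, z ≠ 1 → ∃ j : ℤ, ψ 1 - ψ (z : G) = ((Nat.card K : ℤ) * j : ℤ)) :
    Cfsg.IsCoherent (TI.nontrivOn L K) {1}ᶜ (fun α : L → ℂ => Cfsg.indFun L α) := by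
  haveI := Fintype.ofFinite K
  haveI := Fintype.ofFinite (Cfsg.IrrCharacter L)
  haveI hnil : Group.IsNilpotent K := hP.isNilpotent
  haveI hsolv : Group.IsSolvable K := inferInstance
  set τ : (L → ℂ) → (G → ℂ) := fun α => Cfsg.indFun L α with hτdef
  set S := TI.nontrivOn L K
  -- the central subgroup
  have hc1 : commutator K ≠ ⊥ := fun e => hna ⟨⟨fun a b => by
    have := Subgroup.commutator_mem_commutator (H₁ := (⊤ : Subgroup K)) (H₂ := ⊤)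
      (Subgroup.mem_top a) (Subgroup.mem_top b)
    rw [← commutator_def, e, Subgroup.mem_bot, commutatorElement_eq_one_iff_mul_comm] at this
    exact this⟩⟩
  set Z₀ := commutator K ⊓ Subgroup.center K
  have hZ₀ : Z₀ ≠ ⊥ := OddLocal.Coprime.inf_center_ne_bot inferInstance hc1
  set Z := Z₀.map K.subtype
  haveI : Z₀.Characteristic := inferInstance
  haveI hZn : Z.Normal := ConjAct.normal_of_characteristic_of_normal
  have hZK : Z ≤ K := Subgroup.map_subtype_le _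
  have hZ1 : Z ≠ ⊥ := fun e => hZ₀ ((Subgroup.map_eq_bot_iff_of_injective _ K.subtype_injective).1 e)
  have hZc : ∀ z ∈ Z, ∀ k ∈ K, z * k = k * z := by
    rintro - ⟨z, hz, rfl⟩ k hk
    exact congrArg Subtype.val (Subgroup.mem_center_iff.1 hz.2 ⟨k, hk⟩).symm
  have hZK' : Z ≤ ⁅K, K⁆ := by
    rw [← Subgroup.map_subtype_commutator]
    exact Subgroup.map_mono inf_le_left
  -- the two coherent pieces
  obtain ⟨R, hsys⟩ := TI.exists_system L K hC hTI hodd fun e => hZ1 (le_bot_iff.1 (e ▸ hZK))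
  have hsys' := hsys
  rw [TI.inducedIrrAbove_eq L K hC] at hsys'
  have hcl : ∀ χ ∈ S, Cfsg.conjFun χ ∈ S ∧ Cfsg.conjFun χ ≠ χ := fun χ h =>
    ⟨hsys'.conj_mem χ h, hsys'.conj_ne χ h⟩
  set X := TI.nontrivOn L Z
  set Y := Cfsg.inducedIrrAbove K ⁅K, K⁆
  have hirrS : ∀ ξ ∈ S, Cfsg.IsIrrCharacter L ξ := fun ξ h => h.1
  have hXS : X ⊆ S := fun χ ⟨h, z, hz, hne⟩ => ⟨h, z, hZK hz, hne⟩
  have hYS : Y ⊆ S := by
    have := above_mono K (bot_le : ⊥ ≤ ⁅K, K⁆)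
    rwa [TI.inducedIrrAbove_eq L K hC] at this
  have hYZ : ∀ η ∈ Y, ∀ z ∈ Z, η z = η 1 := by
    rintro η ⟨θ, -, -, hker, rfl⟩ z hz
    exact ind_eq_one_on K Z (fun a ha => hker a (hZK' ha)) hz hZK
  have hXY : Disjoint X Y := Set.disjoint_left.2 fun χ ⟨_, z, hz, hne⟩ hy => hne (hYZ χ hy z hz)
  have hXcoh : Cfsg.IsCoherent X {1}ᶜ τ :=
    TI.coherent_central_ti L K hC hTI hodd hnil hKL Z hZ1 hZK hZc
  have hab : (⁅K, K⁆ : Subgroup L) < K := by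
    haveI : Nontrivial K := (Subgroup.nontrivial_iff_ne_bot K).2 fun e =>
      hZ1 (le_bot_iff.1 (e ▸ hZK))
    refine lt_of_le_not_ge (Subgroup.commutator_le_left K K) fun h => ?_
    have h1 : commutator K = ⊤ := by
      refine Subgroup.map_injective (Subgroup.subtype_injective K) ?_
      rw [Subgroup.map_subtype_commutator, ← MonoidHom.range_eq_map, Subgroup.range_subtype]
      exact le_antisymm (Subgroup.commutator_le_left K K) h
    exact (Group.IsSolvable.commutator_lt_top_of_nontrivial K).ne h1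
  have hYcoh : Cfsg.IsCoherent Y {1}ᶜ τ := coherent_abelian K hsolv hsys ⁅K, K⁆ hab le_rfl
  obtain ⟨z₁, hz₁, hz₁1⟩ : ∃ z ∈ Z, z ≠ 1 := by
    obtain ⟨⟨z, hz⟩, h⟩ := Subgroup.ne_bot_iff_exists_ne_one.1 hZ1
    exact ⟨z, hz, fun e => h (Subtype.ext e)⟩
  have hX0 : X.Nonempty := by
    obtain ⟨ξ, hξ, hne⟩ := exists_irr_ne hz₁1
    exact ⟨ξ, hξ, z₁, hz₁, hne⟩
  have hY0 : Y.Nonempty := by
    obtain ⟨θ, hθ, hθ1, -, hker⟩ := exists_linear_above K hsolv hab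
    exact ⟨_, θ, hθ, hθ1, hker, rfl⟩
  have hXc : ∀ χ ∈ X, Cfsg.conjFun χ ∈ X := fun χ ⟨h, z, hz, hne⟩ =>
    ⟨isIrrCharacter_conj h, z, hz, fun e => hne (by simpa [Cfsg.conjFun] using congrArg conj e)⟩
  have hX2 : ∃ a ∈ X, ∃ b ∈ X, a ≠ b := by
    obtain ⟨χ, hχ⟩ := hX0
    exact ⟨_, hXc χ hχ, χ, hχ, (hcl χ (hXS hχ)).2⟩
  have hY2 : ∃ a ∈ Y, ∃ b ∈ Y, a ≠ b := by
    obtain ⟨η, hη⟩ := hY0
    exact ⟨_, above_conj K _ hη, η, hη, (hcl η (hYS hη)).2⟩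
  obtain ⟨hτS, hτ1⟩ : Cfsg.IsLinearIsometryOn (Cfsg.zspanOn S {1}ᶜ) τ ∧
      ∀ α ∈ Cfsg.zspanOn S {1}ᶜ, τ α 1 = 0 := TI.ind_isometry L K hC hTI (T := S) subset_rfl
  -- degrees
  set e := K.index
  have he0 : 0 < e := Nat.pos_of_ne_zero Subgroup.index_ne_zero_of_finite
  obtain ⟨mm, hcard⟩ := hP.exists_card_eq
  have hdeg : ∀ χ ∈ S, ∃ i : ℕ, χ 1 = ((e * p ^ i : ℕ) : ℂ) := by
    intro χ hχ
    obtain ⟨θ, hθ, -, rfl⟩ := (Frobenius.mem_set_iff K hC).1 hχ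
    obtain ⟨f, hf, -, hdvd⟩ := irr_degree_dvd_card hθ
    rw [hcard] at hdvd
    obtain ⟨i, -, rfl⟩ := (Nat.dvd_prime_pow hp.out).1 hdvd
    exact ⟨i, by rw [indFun_one, hf, Nat.cast_mul]⟩
  choose! ex hex using hdeg
  have hYdeg : ∀ η ∈ Y, η 1 = (e : ℂ) := by
    rintro η ⟨θ, hθ, -, hker, rfl⟩
    obtain ⟨ψ, -, hψ, hψi⟩ := exists_deflate_quotient (⁅K, K⁆.subgroupOf K)
      (isCharacter_of_isIrr hθ) fun x hx => hker x hx
    have hcomm : ∀ a b : K ⧸ ⁅K, K⁆.subgroupOf K, a * b = b * a := by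
      intro a b
      obtain ⟨a, rfl⟩ := QuotientGroup.mk'_surjective _ a
      obtain ⟨b, rfl⟩ := QuotientGroup.mk'_surjective _ b
      rw [← map_mul, ← map_mul]
      refine QuotientGroup.eq.2 ?_
      have := Subgroup.commutator_mem_commutator (H₁ := K) (H₂ := K) (K.inv_mem b.2) (K.inv_mem a.2)
      simpa [commutatorElement_def, mul_assoc, Subgroup.mem_subgroupOf] using this
    have h1 := irr_degree_one_of_comm hcomm (hψi hθ)
    rw [← QuotientGroup.mk_one, hψ 1] at h1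
    rw [indFun_one, h1, mul_one]
  have hfinX : X.Finite := (above_finite K ⊥).subset (TI.inducedIrrAbove_eq L K hC ▸ hXS)
  have hfinY : Y.Finite := above_finite K _
  set sX := hfinX.toFinset
  set sY := hfinY.toFinset
  have hmX : ∀ χ, χ ∈ sX ↔ χ ∈ X := fun χ => hfinX.mem_toFinset
  have hmY : ∀ η, η ∈ sY ↔ η ∈ Y := fun η => hfinY.mem_toFinset
  obtain ⟨χ₀, hχ₀', hmin⟩ := Finset.exists_min_image sX ex (by simpa [sX] using hX0)
  have hχ₀ : χ₀ ∈ X := (hmX _).1 hχ₀'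
  obtain ⟨η₀, hη₀⟩ := hY0
  set m := p ^ ex χ₀ with hmdef
  have hm0 : 0 < m := pow_pos hp.out.pos _
  set q : (L → ℂ) → ℕ := fun χ => p ^ (ex χ - ex χ₀)
  have hdX : ∀ χ ∈ X, χ 1 = ((e * (m * q χ) : ℕ) : ℂ) := fun χ hχ => by
    rw [hex χ (hXS hχ), hmdef, ← pow_add, Nat.add_sub_cancel' (hmin χ ((hmX χ).2 hχ))]
  have hq0 : q χ₀ = 1 := by simp [q]
  -- the sums over `X`
  have hsum : ∀ z ∈ Z, z ≠ 1 →
      ∑ χ ∈ sX, χ 1 * χ z = -(Z.index : ℂ) ∧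
        ∑ χ ∈ sX, χ 1 * χ 1 = (Nat.card L : ℂ) - (Z.index : ℂ) := by
    intro z hz hz1
    set U := Finset.univ.filter fun χ : Cfsg.IrrCharacter L =>
      ∀ x ∈ Z, (χ : L → ℂ) x = (χ : L → ℂ) 1
    have hU := BlocksChars.Codegree.sum_degree_sq_over (G := L) Z
    have hsX : ∀ w : L, ∑ χ ∈ sX, χ 1 * χ w =
        (if w = 1 then (Nat.card L : ℂ) else 0) -
          ∑ χ ∈ U, (χ : L → ℂ) 1 * (χ : L → ℂ) w := by
      intro w
      have h := congrFun (regular_eq_sum (G := L)) w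
      simp only [Finset.sum_apply, Pi.smul_apply, smul_eq_mul] at h
      rw [h, ← Finset.sum_filter_add_sum_filter_not Finset.univ
        (fun χ : Cfsg.IrrCharacter L => ∀ x ∈ Z, (χ : L → ℂ) x = (χ : L → ℂ) 1),
        add_sub_cancel_left]
      refine Finset.sum_bij' (fun χ hχ => (⟨χ, ((hmX χ).1 hχ).1⟩ : Cfsg.IrrCharacter L))
        (fun χ _ => (χ : L → ℂ)) ?_ ?_ (fun _ _ => rfl) (fun _ _ => rfl) (fun _ _ => rfl)
      · intro χ hχ
        obtain ⟨-, x, hx, hne⟩ := (hmX χ).1 hχ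
        exact Finset.mem_filter.2 ⟨Finset.mem_univ _, fun h => hne (h x hx)⟩
      · intro χ hχ
        have h := (Finset.mem_filter.1 hχ).2
        push Not at h
        exact (hmX _).2 ⟨χ.2, h⟩
    have hU1 : ∑ χ ∈ U, (χ : L → ℂ) 1 * (χ : L → ℂ) 1 = (Z.index : ℂ) := by
      rw [← hU, Nat.cast_sum]
      refine Finset.sum_congr rfl fun χ _ => ?_
      rw [Nat.cast_pow, BlocksChars.Degrees.charDegree_cast, sq]
    refine ⟨?_, by rw [hsX 1, if_pos rfl, hU1]⟩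
    rw [hsX z, if_neg hz1, zero_sub, ← hU1]
    exact congrArg Neg.neg (Finset.sum_congr rfl fun χ hχ => by
      rw [(Finset.mem_filter.1 hχ).2 z hz])
  obtain ⟨-, σ₀, hσ₀, hσ₀τ⟩ := hXcoh
  obtain ⟨-, ρ₀, hρ₀, hρ₀τ⟩ := hYcoh
  -- the glueing function
  set w : L → ℂ := (m : ℤ) • η₀ - χ₀ with hw
  have hwS : w ∈ Cfsg.zspanOn S {1}ᶜ := mem_zspanOn_compl_one
    (Submodule.sub_mem _ (Submodule.smul_mem _ _ (mem_zS (hYS hη₀))) (mem_zS (hXS hχ₀))) (by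
      rw [hw, Pi.sub_apply, Pi.smul_apply, hYdeg η₀ hη₀, hdX χ₀ hχ₀, hq0]
      simp [zsmul_eq_mul, mul_comm])
  set v := τ w with hvdef
  have hvgen : Cfsg.IsGeneralizedCharacter G v := hτS.2.2.2 _ hwS
  have hww : Cfsg.classInner w w = (m : ℂ) * m + 1 := by
    rw [hw, classInner_sub_left, classInner_sub_right, classInner_sub_right, inner_smul_int_left,
      inner_smul_int_left, inner_smul_int_right, inner_smul_int_right,
      classInner_isIrr_self (hirrS _ (hYS hη₀)), classInner_isIrr_self (hirrS _ (hXS hχ₀)),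
      classInner_isIrr_ne (hirrS _ (hYS hη₀)) (hirrS _ (hXS hχ₀))
        (fun e' => Set.disjoint_left.1 hXY hχ₀ (e' ▸ hη₀)),
      classInner_isIrr_ne (hirrS _ (hXS hχ₀)) (hirrS _ (hYS hη₀))
        (fun e' => Set.disjoint_left.1 hXY hχ₀ (e'.symm ▸ hη₀))]
    push_cast; ring
  have hvv : (Cfsg.classInner v v).re = (m : ℝ) * m + 1 := by
    rw [hvdef, hτS.2.2.1 w hwS w hwS, hww]; simp
  -- coefficients along `Y`
  have hYcoef : ∀ ρ : (L → ℂ) → (G → ℂ), Cfsg.IsLinearIsometryOn (Cfsg.zspan Y) ρ →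
      (∀ θ ∈ Cfsg.zspanOn Y {1}ᶜ, ρ θ = τ θ) → ∃ c : ℤ, ∀ η ∈ Y,
        Cfsg.classInner v (ρ η) = ((if η = η₀ then c + m else c : ℤ) : ℂ) := by
    intro ρ hρ hρτ
    obtain ⟨k, hk⟩ := classInner_gen_int hvgen (hρ.2.2.2 _ (mem_zS hη₀))
    refine ⟨k - m, fun η hη => ?_⟩
    split_ifs with h
    · rw [h, hk]; push_cast; ring
    · have hβ : η - η₀ ∈ Cfsg.zspanOn Y {1}ᶜ := mem_zspanOn_compl_one
        (Submodule.sub_mem _ (mem_zS hη) (mem_zS hη₀))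
        (by rw [Pi.sub_apply, hYdeg η hη, hYdeg η₀ hη₀, sub_self])
      have h1 := hτS.2.2.1 w hwS _ (zspanOn_mono _ hYS hβ)
      rw [← hρτ _ hβ, map_sub' (M := zS Y) hρ (mem_zS hη) (mem_zS hη₀), classInner_sub_right,
        ← hvdef, hk, hw, classInner_sub_left, classInner_sub_right, classInner_sub_right,
        inner_smul_int_left, inner_smul_int_left,
        classInner_isIrr_ne (hirrS _ (hYS hη₀)) (hirrS _ (hYS hη)) (Ne.symm h),
        classInner_isIrr_self (hirrS _ (hYS hη₀)),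
        classInner_isIrr_ne (hirrS _ (hXS hχ₀)) (hirrS _ (hYS hη))
          (fun e' => Set.disjoint_left.1 hXY hχ₀ (e' ▸ hη)),
        classInner_isIrr_ne (hirrS _ (hXS hχ₀)) (hirrS _ (hYS hη₀))
          (fun e' => Set.disjoint_left.1 hXY hχ₀ (e' ▸ hη₀))] at h1
      push_cast at h1 ⊢
      linear_combination h1
  -- coefficients along `X`
  have hXcoef : ∀ σ : (L → ℂ) → (G → ℂ), Cfsg.IsLinearIsometryOn (Cfsg.zspan X) σ →
      (∀ θ ∈ Cfsg.zspanOn X {1}ᶜ, σ θ = τ θ) → ∃ a : ℤ, ∀ χ ∈ X,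
        Cfsg.classInner v (σ χ) = ((if χ = χ₀ then a - 1 else q χ * a : ℤ) : ℂ) := by
    intro σ hσ hστ
    obtain ⟨k, hk⟩ := classInner_gen_int hvgen (hσ.2.2.2 _ (mem_zS hχ₀))
    refine ⟨k + 1, fun χ hχ => ?_⟩
    split_ifs with h
    · rw [h, hk]; push_cast; ring
    · have hβ : χ - (q χ : ℤ) • χ₀ ∈ Cfsg.zspanOn X {1}ᶜ := mem_zspanOn_compl_one
        (Submodule.sub_mem _ (mem_zS hχ) (Submodule.smul_mem _ _ (mem_zS hχ₀)))
        (by
          rw [Pi.sub_apply, Pi.smul_apply, hdX χ hχ, hdX χ₀ hχ₀, hq0, zsmul_eq_mul]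
          push_cast; ring)
      have h1 := hτS.2.2.1 w hwS _ (zspanOn_mono _ hXS hβ)
      rw [← hστ _ hβ, map_sub' (M := zS X) hσ (mem_zS hχ) (Submodule.smul_mem _ _ (mem_zS hχ₀)),
        hσ.2.1 _ (mem_zS hχ₀), classInner_sub_right, inner_smul_int_right,
        ← hvdef, hk, hw, classInner_sub_left, classInner_sub_right, classInner_sub_right,
        inner_smul_int_left, inner_smul_int_left, inner_smul_int_right, inner_smul_int_right,
        classInner_isIrr_ne (hirrS _ (hYS hη₀)) (hirrS _ (hXS hχ))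
          (fun e' => Set.disjoint_left.1 hXY hχ (e' ▸ hη₀)),
        classInner_isIrr_ne (hirrS _ (hYS hη₀)) (hirrS _ (hXS hχ₀))
          (fun e' => Set.disjoint_left.1 hXY hχ₀ (e' ▸ hη₀)),
        classInner_isIrr_ne (hirrS _ (hXS hχ₀)) (hirrS _ (hXS hχ)) (Ne.symm h),
        classInner_isIrr_self (hirrS _ (hXS hχ₀))] at h1
      push_cast at h1 ⊢
      linear_combination h1
  set n := sY.card
  have hn2 : 2 ≤ n := by
    obtain ⟨a, ha, b, hb, hab⟩ := hY2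
    exact Finset.one_lt_card.2 ⟨a, (hmY _).2 ha, b, (hmY _).2 hb, hab⟩
  set T : ℕ := ∑ χ ∈ sX, q χ ^ 2
  have hT2 : 2 ≤ T := by
    obtain ⟨a, ha, b, hb, hab⟩ := hX2
    calc 2 ≤ sX.card := Finset.one_lt_card.2 ⟨a, (hmX _).2 ha, b, (hmX _).2 hb, hab⟩
      _ = ∑ _χ ∈ sX, 1 := (Finset.card_eq_sum_ones _)
      _ ≤ T := Finset.sum_le_sum fun χ _ => Nat.one_le_pow _ _ (pow_pos hp.out.pos _)
  have horthXY : ∀ (σ ρ : (L → ℂ) → (G → ℂ)), Cfsg.IsLinearIsometryOn (Cfsg.zspan X) σ →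
      (∀ θ ∈ Cfsg.zspanOn X {1}ᶜ, σ θ = τ θ) → Cfsg.IsLinearIsometryOn (Cfsg.zspan Y) ρ →
      (∀ θ ∈ Cfsg.zspanOn Y {1}ᶜ, ρ θ = τ θ) → ∀ χ ∈ X, ∀ η ∈ Y,
        Cfsg.classInner (σ χ) (ρ η) = 0 := fun σ ρ h1 h2 h3 h4 χ hχ η hη =>
    images_orth hirrS hXS hYS hXY hX2 hY2 hτS hτ1 h1 h2 h3 h4 hχ hη
  -- the inequality
  have hbes : ∀ (σ ρ : (L → ℂ) → (G → ℂ)) (a c : ℤ), Cfsg.IsLinearIsometryOn (Cfsg.zspan X) σ →
      (∀ θ ∈ Cfsg.zspanOn X {1}ᶜ, σ θ = τ θ) → Cfsg.IsLinearIsometryOn (Cfsg.zspan Y) ρ →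
      (∀ θ ∈ Cfsg.zspanOn Y {1}ᶜ, ρ θ = τ θ) →
      (∀ η ∈ Y, Cfsg.classInner v (ρ η) = ((if η = η₀ then c + m else c : ℤ) : ℂ)) →
      (∀ χ ∈ X, Cfsg.classInner v (σ χ) = ((if χ = χ₀ then a - 1 else q χ * a : ℤ) : ℂ)) →
      (a * a * T - 2 * a + (n * c * c + 2 * c * m) ≤ 0) ∧
        (a = 0 → c = 0 → v = (m : ℂ) • ρ η₀ - σ χ₀) := by
    intro σ ρ a c hσ hστ hρ hρτ hcY hcX
    let f : (L → ℂ) ⊕ (L → ℂ) → (G → ℂ) := Sum.elim σ ρ
    let u : (L → ℂ) ⊕ (L → ℂ) → ℤ :=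
      Sum.elim (fun χ => if χ = χ₀ then a - 1 else q χ * a) (fun η => if η = η₀ then c + m else c)
    set s := sX.disjSum sY
    have horth : ∀ i ∈ s, ∀ j ∈ s, Cfsg.classInner (f i) (f j) =
        if i = j then (((fun _ => 1) i : ℕ) : ℂ) else 0 := by
      intro i hi j hj
      rcases Finset.mem_disjSum.1 hi with ⟨x, hx, rfl⟩ | ⟨x, hx, rfl⟩ <;>
        rcases Finset.mem_disjSum.1 hj with ⟨y, hy, rfl⟩ | ⟨y, hy, rfl⟩
      · simp only [f, Sum.elim_inl, Sum.inl.injEq]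
        rw [hσ.2.2.1 _ (mem_zS ((hmX _).1 hx)) _ (mem_zS ((hmX _).1 hy)), Nat.cast_one]
        exact irr_orth hirrS (hXS ((hmX _).1 hx)) (hXS ((hmX _).1 hy))
      · simp only [f, Sum.elim_inl, Sum.elim_inr, reduceCtorEq, if_false]
        exact horthXY σ ρ hσ hστ hρ hρτ x ((hmX _).1 hx) y ((hmY _).1 hy)
      · simp only [f, Sum.elim_inl, Sum.elim_inr, reduceCtorEq, if_false]
        exact inner_comm_zero (horthXY σ ρ hσ hστ hρ hρτ y ((hmX _).1 hy) x ((hmY _).1 hx))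
      · simp only [f, Sum.elim_inr, Sum.inr.injEq]
        rw [hρ.2.2.1 _ (mem_zS ((hmY _).1 hx)) _ (mem_zS ((hmY _).1 hy)), Nat.cast_one]
        exact irr_orth hirrS (hYS ((hmY _).1 hx)) (hYS ((hmY _).1 hy))
    have hu : ∀ i ∈ s, Cfsg.classInner v (f i) = (u i : ℂ) := by
      intro i hi
      rcases Finset.mem_disjSum.1 hi with ⟨x, hx, rfl⟩ | ⟨x, hx, rfl⟩
      · exact hcX x ((hmX _).1 hx)
      · exact hcY x ((hmY _).1 hx)
    have htot : ∑ i ∈ s, (u i : ℝ) ^ 2 / (((fun _ => 1) i : ℕ) : ℝ) =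
        ((a * a * T - 2 * a + (n * c * c + 2 * c * m) + (m * m + 1) : ℤ) : ℝ) := by
      rw [Finset.sum_disjSum]
      simp only [u, Sum.elim_inl, Sum.elim_inr, Nat.cast_one, div_one]
      have e1 : ∀ χ ∈ sX, ((if χ = χ₀ then a - 1 else q χ * a : ℤ) : ℝ) ^ 2 =
          (a : ℝ) ^ 2 * (q χ : ℝ) ^ 2 + if χ = χ₀ then 1 - 2 * (a : ℝ) else 0 := by
        intro χ _
        split_ifs with h
        · rw [h, hq0]; push_cast; ring
        · push_cast; ring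
      have e2 : ∀ η ∈ sY, ((if η = η₀ then c + m else c : ℤ) : ℝ) ^ 2 =
          (c : ℝ) ^ 2 + if η = η₀ then 2 * (c : ℝ) * m + (m : ℝ) * m else 0 := by
        intro η _
        split_ifs with h <;> push_cast <;> ring
      rw [Finset.sum_congr rfl e1, Finset.sum_congr rfl e2, Finset.sum_add_distrib,
        Finset.sum_add_distrib, Finset.sum_ite_eq', Finset.sum_ite_eq', if_pos hχ₀',
        if_pos ((hmY _).2 hη₀), ← Finset.mul_sum, Finset.sum_const, nsmul_eq_mul]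
      simp only [T, n]; push_cast; ring
    constructor
    · have h := bessel (s := s) (f := f) (n := fun _ => 1) (fun _ _ => Nat.one_pos) horth hu
      rw [htot, hvv] at h
      have h' : ((a * a * T - 2 * a + (n * c * c + 2 * c * m) + (m * m + 1) : ℤ) : ℝ) ≤
          ((m * m + 1 : ℤ) : ℝ) := by push_cast at h ⊢; linarith
      have := Int.cast_le.1 h'
      linarith
    · intro ha hc
      have h := eq_of_bessel_le (s := s) (f := f) (n := fun _ => 1) (fun _ _ => Nat.one_pos)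
        horth hu (by rw [htot, hvv, ha, hc]; simp)
      rw [h, Finset.sum_disjSum]
      simp only [u, f, Sum.elim_inl, Sum.elim_inr, Nat.cast_one, div_one, ha, hc, mul_zero,
        zero_sub, zero_add]
      rw [Finset.sum_eq_single χ₀ (fun b _ hb => by simp [hb]) (fun h => absurd hχ₀' h),
        Finset.sum_eq_single η₀ (fun b _ hb => by simp [hb])
          (fun h => absurd ((hmY _).2 hη₀) h)]
      simp [sub_eq_neg_add]
  -- the congruence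
  obtain ⟨c, hcY⟩ := hYcoef ρ₀ hρ₀ hρ₀τ
  obtain ⟨a, hcX⟩ := hXcoef σ₀ hσ₀ hσ₀τ
  have hdvd : (m : ℤ) ∣ c := by
    set ψ := ρ₀ η₀ with hψdef
    have hψgen : Cfsg.IsGeneralizedCharacter G ψ := hρ₀.2.2.2 _ (mem_zS hη₀)
    have hψcl := isGen_isClassFunction hψgen
    have hψs : Signed.IsSIrr ψ :=
      isSIrr_image (fun ξ h => hirrS ξ (hYS h)) hρ₀ hη₀
    set r : L → ℂ := fun y => ψ y with hrdef
    have hr : Cfsg.IsGeneralizedCharacter L r := isGen_restrict L hψgen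
    obtain ⟨k, hk⟩ := classInner_gen_int (isGen_of_isCharacter (isCharacter_of_isIrr (hirrS _ (hYS hη₀)))) hr
    have hrec : ∀ β : L → ℂ, Cfsg.classInner (τ β) ψ = Cfsg.classInner β r := fun β =>
      frobenius_reciprocity L β hψcl
    -- `⟨χ₀, r⟩`
    have hχr : Cfsg.classInner χ₀ r = ((m * k - (c + m) : ℤ) : ℂ) := by
      have h := hrec w
      rw [← hvdef, hψdef, hcY η₀ hη₀, if_pos rfl, hw, classInner_sub_left, inner_smul_int_left,
        hk] at h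
      push_cast at h ⊢
      linear_combination h
    have hχr' : ∀ χ ∈ X, Cfsg.classInner χ r = ((q χ * (m * k - (c + m)) : ℤ) : ℂ) := by
      intro χ hχ
      have hβ : χ - (q χ : ℤ) • χ₀ ∈ Cfsg.zspanOn X {1}ᶜ := mem_zspanOn_compl_one
        (Submodule.sub_mem _ (mem_zS hχ) (Submodule.smul_mem _ _ (mem_zS hχ₀)))
        (by
          rw [Pi.sub_apply, Pi.smul_apply, hdX χ hχ, hdX χ₀ hχ₀, hq0, zsmul_eq_mul]
          push_cast; ring)
      have h := hrec (χ - (q χ : ℤ) • χ₀)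
      rw [← hσ₀τ _ hβ, map_sub' (M := zS X) hσ₀ (mem_zS hχ) (Submodule.smul_mem _ _ (mem_zS hχ₀)),
        hσ₀.2.1 _ (mem_zS hχ₀), classInner_sub_left, inner_smul_int_left, hψdef,
        horthXY σ₀ ρ₀ hσ₀ hσ₀τ hρ₀ hρ₀τ χ hχ η₀ hη₀,
        horthXY σ₀ ρ₀ hσ₀ hσ₀τ hρ₀ hρ₀τ χ₀ hχ₀ η₀ hη₀, classInner_sub_left, inner_smul_int_left,
        hχr] at h
      push_cast at h ⊢
      linear_combination -h
    set A : ℤ := m * k - (c + m) with hA
    -- the values on `Z`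
    have hdiff : ∀ z ∈ Z, z ≠ 1 → (m : ℂ) * (r 1 - r z) = (A : ℂ) * (Nat.card K : ℂ) := by
      intro z hz hz1
      have hexp := classFun_eq_sum (isGen_isClassFunction hr)
      have h1 : r 1 - r z = ∑ χ ∈ sX, ((q χ * A : ℤ) : ℂ) * (χ 1 - χ z) := by
        conv_lhs => rw [hexp]
        simp only [Finset.sum_apply, Pi.smul_apply, smul_eq_mul, ← Finset.sum_sub_distrib,
          ← mul_sub]
        rw [← Finset.sum_filter_add_sum_filter_not Finset.univ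
          (fun χ : Cfsg.IrrCharacter L => ∀ x ∈ Z, (χ : L → ℂ) x = (χ : L → ℂ) 1),
          Finset.sum_eq_zero fun (χ : Cfsg.IrrCharacter L) hχ => show
            Cfsg.classInner r (χ : L → ℂ) * ((χ : L → ℂ) 1 - (χ : L → ℂ) z) = 0 by
              rw [(Finset.mem_filter.1 hχ).2 z hz, sub_self, mul_zero], zero_add]
        refine (Finset.sum_bij' (fun χ hχ => (⟨χ, ((hmX χ).1 hχ).1⟩ : Cfsg.IrrCharacter L))
          (fun χ _ => (χ : L → ℂ)) ?_ ?_ (fun _ _ => rfl) (fun _ _ => rfl) ?_).symm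
        · intro χ hχ
          obtain ⟨-, x, hx, hne⟩ := (hmX χ).1 hχ
          exact Finset.mem_filter.2 ⟨Finset.mem_univ _, fun h => hne (h x hx)⟩
        · intro χ hχ
          have h := (Finset.mem_filter.1 hχ).2
          push Not at h
          exact (hmX _).2 ⟨χ.2, h⟩
        · intro χ hχ
          show _ = Cfsg.classInner r χ * (χ 1 - χ z)
          rw [inner_comm_int (hχr' χ ((hmX χ).1 hχ))]
      obtain ⟨h2, h3⟩ := hsum z hz hz1
      have h4 : (e : ℂ) * ((m : ℂ) * (r 1 - r z)) = (e : ℂ) * ((A : ℂ) * (Nat.card K : ℂ)) := by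
        rw [h1, Finset.mul_sum, Finset.mul_sum, Finset.sum_congr rfl fun χ hχ => show
          (e : ℂ) * ((m : ℂ) * (((q χ * A : ℤ) : ℂ) * (χ 1 - χ z))) =
            (A : ℂ) * (χ 1 * χ 1 - χ 1 * χ z) by
              rw [hdX χ ((hmX χ).1 hχ)]; push_cast; ring,
          ← Finset.mul_sum, Finset.sum_sub_distrib, h2, h3, ← K.card_mul_index]
        push_cast; ring
      exact mul_left_cancel₀ (Nat.cast_ne_zero.2 he0.ne') h4
    have hconst : ∀ z ∈ Z, ∀ z' ∈ Z, z ≠ 1 → z' ≠ 1 → ψ (z : G) = ψ (z' : G) := by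
      intro z hz z' hz' h h'
      have e1 := hdiff z hz h
      rw [← hdiff z' hz' h'] at e1
      have e2 := mul_left_cancel₀ (Nat.cast_ne_zero.2 hm0.ne') e1
      show r z = r z'
      linear_combination -e2
    obtain ⟨j, hj⟩ : ∃ j : ℤ, ψ 1 - ψ (z₁ : G) = ((Nat.card K : ℤ) * j : ℤ) := by
      rcases hψs with h | h
      · exact hcong Z hZn hZ1 hZK hZc ψ h hconst z₁ hz₁ hz₁1
      · obtain ⟨j, hj⟩ := hcong Z hZn hZ1 hZK hZc (-ψ) h
          (fun z hz z' hz' h h' => by simp only [Pi.neg_apply]; rw [hconst z hz z' hz' h h']) z₁ hz₁ hz₁1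
        refine ⟨-j, ?_⟩
        simp only [Pi.neg_apply] at hj
        push_cast at hj ⊢
        linear_combination -hj
    have h5 := hdiff z₁ hz₁ hz₁1
    rw [show r 1 - r z₁ = ψ 1 - ψ (z₁ : G) by simp [hrdef], hj] at h5
    have h6 : ((m * j : ℤ) : ℂ) * (Nat.card K : ℂ) = (A : ℂ) * (Nat.card K : ℂ) := by
      push_cast at h5 ⊢; linear_combination h5
    have h7 : (m : ℤ) * j = A := by exact_mod_cast mul_right_cancel₀ natCard_ne_zero h6
    exact ⟨k - 1 - j, by rw [hA] at h7; linarith⟩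
  obtain ⟨c', rfl⟩ := hdvd
  obtain ⟨hineq, -⟩ := hbes σ₀ ρ₀ a _ hσ₀ hσ₀τ hρ₀ hρ₀τ hcY hcX
  have ha0 : 0 ≤ a * a * (T : ℤ) - 2 * a := by
    rcases le_or_gt a 0 with h | h
    · have h' : 0 ≤ a * a * (T : ℤ) := mul_nonneg (mul_self_nonneg a) (Nat.cast_nonneg T)
      linarith
    · have h' : (2 : ℤ) * a ≤ a * (T : ℤ) := by
        rw [mul_comm a (T : ℤ)]; exact mul_le_mul_of_nonneg_right (by exact_mod_cast hT2) h.le
      nlinarith
  -- adjust along `Y`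
  obtain ⟨ρ, hρ, hρτ, hcY'⟩ : ∃ ρ : (L → ℂ) → (G → ℂ), Cfsg.IsLinearIsometryOn (Cfsg.zspan Y) ρ ∧
      (∀ θ ∈ Cfsg.zspanOn Y {1}ᶜ, ρ θ = τ θ) ∧
      (∀ η ∈ Y, Cfsg.classInner v (ρ η) = ((if η = η₀ then 0 + m else 0 : ℤ) : ℂ)) := by
    have hc'2 : (n : ℤ) * c' * c' + 2 * c' ≤ 0 := by
      have hmpos : (0 : ℤ) < (m : ℤ) * m := by positivity
      have : ((m : ℤ) * m) * (n * c' * c' + 2 * c') ≤ 0 := by linarith
      nlinarith
    rcases eq_or_ne c' 0 with rfl | hc'0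
    · exact ⟨ρ₀, hρ₀, hρ₀τ, fun η hη => by rw [hcY η hη, mul_zero]⟩
    have hc'1 : c' = -1 ∧ n = 2 := by
      have hn' : (2 : ℤ) ≤ n := by exact_mod_cast hn2
      rcases lt_or_gt_of_ne hc'0 with h | h
      · have h1 : c' = -1 := by
          by_contra h1
          have h2 : c' ≤ -2 := by omega
          nlinarith [mul_le_mul hn' (show (4 : ℤ) ≤ c' * c' by nlinarith) (by norm_num) (by positivity)]
        subst h1
        exact ⟨rfl, by omega⟩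
      · have : 0 ≤ (n : ℤ) * c' * c' := mul_nonneg (mul_nonneg (Nat.cast_nonneg n) h.le) h.le
        linarith
    obtain ⟨rfl, hn⟩ := hc'1
    obtain ⟨η₁, hη₁⟩ : ∃ η₁, sY.erase η₀ = {η₁} := Finset.card_eq_one.1 (by
      rw [Finset.card_erase_of_mem ((hmY _).2 hη₀)]; omega)
    have hη₁' : η₁ ∈ sY.erase η₀ := by simp [hη₁]
    have hY' : Y = {η₀, η₁} := by
      ext η
      rw [← hmY, ← Finset.insert_erase ((hmY _).2 hη₀), hη₁]
      simp
    have hne1 : η₀ ≠ η₁ := (Finset.ne_of_mem_erase hη₁').symm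
    have hη₁Y : η₁ ∈ Y := (hmY _).1 (Finset.mem_of_mem_erase hη₁')
    obtain ⟨ρ', hρ', hρ'τ, h0, h1⟩ := swap_pair hY' hne1 (fun η h => hirrS η (hYS h))
      (by rw [hYdeg _ hη₀, hYdeg _ hη₁Y]) hρ₀ hρ₀τ
    refine ⟨ρ', hρ', hρ'τ, fun η hη => ?_⟩
    rw [hY'] at hη
    rcases hη with rfl | (rfl : η = η₁)
    · rw [h0, classInner_conj_symm, classInner_neg_left, map_neg, ← classInner_conj_symm,
        hcY _ hη₁Y, if_neg hne1.symm, if_pos rfl]
      push_cast; ring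
    · rw [h1, classInner_conj_symm, classInner_neg_left, map_neg, ← classInner_conj_symm,
        hcY _ hη₀, if_pos rfl, if_neg hne1.symm]
      push_cast; ring
  obtain ⟨hineq', -⟩ := hbes σ₀ ρ a 0 hσ₀ hσ₀τ hρ hρτ hcY' hcX
  -- adjust along `X`
  obtain ⟨σ, hσ, hστ, hcX'⟩ : ∃ σ : (L → ℂ) → (G → ℂ), Cfsg.IsLinearIsometryOn (Cfsg.zspan X) σ ∧
      (∀ θ ∈ Cfsg.zspanOn X {1}ᶜ, σ θ = τ θ) ∧
      (∀ χ ∈ X, Cfsg.classInner v (σ χ) = ((if χ = χ₀ then 0 - 1 else q χ * 0 : ℤ) : ℂ)) := by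
    rcases eq_or_ne a 0 with rfl | ha
    · exact ⟨σ₀, hσ₀, hσ₀τ, hcX⟩
    have hT' : (2 : ℤ) ≤ T := by exact_mod_cast hT2
    have ha1 : a = 1 ∧ T = 2 := by
      simp only [mul_zero, zero_mul, add_zero] at hineq'
      rcases lt_or_gt_of_ne ha with h | h
      · nlinarith [mul_le_mul_of_nonneg_left hT' (mul_self_nonneg a)]
      · have h1 : a = 1 := by
          by_contra h1
          have h2 : 2 ≤ a := by omega
          nlinarith [mul_le_mul_of_nonneg_left hT' (mul_self_nonneg a)]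
        subst h1
        exact ⟨rfl, by omega⟩
    obtain ⟨rfl, hT⟩ := ha1
    have hq1 : ∀ χ : L → ℂ, 1 ≤ q χ ^ 2 := fun χ => Nat.one_le_pow _ _ (pow_pos hp.out.pos _)
    have hXcard : sX.card = 2 ∧ ∀ χ ∈ sX, q χ = 1 := by
      have h1 : sX.card ≤ T := by
        rw [Finset.card_eq_sum_ones]; exact Finset.sum_le_sum fun χ _ => hq1 χ
      obtain ⟨u, hu, u', hu', huv⟩ := hX2
      have h2 : 2 ≤ sX.card := Finset.one_lt_card.2 ⟨u, (hmX _).2 hu, u', (hmX _).2 hu', huv⟩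
      refine ⟨by omega, fun χ hχ => ?_⟩
      by_contra hne
      have hge : 4 ≤ q χ ^ 2 :=
        Nat.pow_le_pow_left (show 2 ≤ q χ by have : 0 < q χ := pow_pos hp.out.pos _; omega) 2
      have := Finset.single_le_sum (f := fun χ => q χ ^ 2) (fun _ _ => Nat.zero_le _) hχ
      omega
    obtain ⟨χ₁, hχ₁⟩ : ∃ χ₁, sX.erase χ₀ = {χ₁} := Finset.card_eq_one.1 (by
      rw [Finset.card_erase_of_mem hχ₀']; omega)
    have hχ₁' : χ₁ ∈ sX.erase χ₀ := by simp [hχ₁]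
    have hX' : X = {χ₀, χ₁} := by
      ext χ
      rw [← hmX, ← Finset.insert_erase hχ₀', hχ₁]
      simp
    have hne1 : χ₀ ≠ χ₁ := (Finset.ne_of_mem_erase hχ₁').symm
    have hχ₁X : χ₁ ∈ X := (hmX _).1 (Finset.mem_of_mem_erase hχ₁')
    obtain ⟨σ', hσ', hσ'τ, h0, h1⟩ := swap_pair hX' hne1 (fun χ h => hirrS χ (hXS h))
      (by rw [hdX _ hχ₀, hdX _ hχ₁X, hXcard.2 _ hχ₀', hXcard.2 _ ((hmX _).2 hχ₁X)]) hσ₀ hσ₀τ
    refine ⟨σ', hσ', hσ'τ, fun χ hχ => ?_⟩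
    rw [hX'] at hχ
    rcases hχ with rfl | (rfl : χ = χ₁)
    · rw [h0, classInner_conj_symm, classInner_neg_left, map_neg, ← classInner_conj_symm,
        hcX _ hχ₁X, if_neg hne1.symm, if_pos rfl, hXcard.2 _ ((hmX _).2 hχ₁X)]
      push_cast; ring
    · rw [h1, classInner_conj_symm, classInner_neg_left, map_neg, ← classInner_conj_symm,
        hcX _ hχ₀, if_pos rfl, if_neg hne1.symm]
      push_cast; ring
  have hv := (hbes σ ρ 0 0 hσ hστ hρ hρτ hcY' hcX').2 rfl rfl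
  have hglue : τ (χ₀ 1 • η₀ - η₀ 1 • χ₀) = χ₀ 1 • ρ η₀ - η₀ 1 • σ χ₀ := by
    have e1 : χ₀ 1 • η₀ - η₀ 1 • χ₀ = (e : ℂ) • w := by
      rw [hw, hdX χ₀ hχ₀, hq0, hYdeg η₀ hη₀, ← Int.cast_smul_eq_zsmul ℂ]
      push_cast
      module
    rw [e1, show τ ((e : ℂ) • w) = (e : ℂ) • v from indFun_smul L (e : ℂ) w, hv, hdX χ₀ hχ₀, hq0,
      hYdeg η₀ hη₀]
    push_cast
    module
  have hUcoh := coherent_union hirrS hXS hYS hXY hX2 hY2 hτS hτ1 hσ hστ hρ hρτ hχ₀ hη₀ hglue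
  -- add the remaining characters
  have hSfin : S.Finite := by
    show (TI.nontrivOn L K).Finite
    rw [← TI.inducedIrrAbove_eq L K hC]; exact above_finite K ⊥
  set W := hSfin.toFinset
  have hmW : ∀ χ, χ ∈ W ↔ χ ∈ S := fun χ => hSfin.mem_toFinset
  set U := sX ∪ sY
  have hUW : U ⊆ W := Finset.union_subset (fun χ h => (hmW _).2 (hXS ((hmX _).1 h)))
    (fun χ h => (hmW _).2 (hYS ((hmY _).1 h)))
  have hUcoh' : Cfsg.IsCoherent (↑U : Set (L → ℂ)) {1}ᶜ τ := by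
    rw [Finset.coe_union, hfinX.coe_toFinset, hfinY.coe_toFinset]; exact hUcoh
  let 𝒳 := W.powerset.filter fun V => U ⊆ V ∧ Cfsg.IsCoherent (↑V : Set (L → ℂ)) {1}ᶜ τ
  obtain ⟨V, hV, hmax⟩ := Finset.exists_max_image 𝒳 Finset.card
    ⟨U, Finset.mem_filter.2 ⟨Finset.mem_powerset.2 hUW, subset_rfl, hUcoh'⟩⟩
  obtain ⟨hVW, hUV, hVcoh⟩ := Finset.mem_filter.1 hV
  rw [Finset.mem_powerset] at hVW
  by_cases hall : W ⊆ V
  · have h := Finset.Subset.antisymm hall hVW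
    rw [← hSfin.coe_toFinset, show hSfin.toFinset = V from h]
    exact hVcoh
  obtain ⟨χ, hχ, hχV⟩ := Finset.not_subset.1 hall
  have hχS : χ ∈ S := (hmW _).1 hχ
  have hχZ : ∀ z ∈ Z, χ z = χ 1 := by
    by_contra h
    push Not at h
    exact hχV (hUV (Finset.mem_union_left _ ((hmX _).2 ⟨hχS.1, h⟩)))
  obtain ⟨dd, hdd⟩ : ∃ dd : (L → ℂ) → ℕ, ∀ φ ∈ S, φ 1 = (dd φ : ℂ) :=
    ⟨fun φ => e * p ^ ex φ, hex⟩
  have hrepr : ∀ φ ∈ S, dd φ = e * p ^ ex φ := fun φ h =>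
    Nat.cast_injective (R := ℂ) ((hdd φ h).symm.trans (hex φ h))
  -- the degree bound
  set f := p ^ ex χ
  have hf2 : (e * f) ^ 2 ≤ Z.index := by
    rw [← BlocksChars.Codegree.sum_degree_sq_over (G := L) Z]
    refine le_trans (le_of_eq ?_) (Finset.single_le_sum
      (f := fun χ : Cfsg.IrrCharacter L => Cfsg.charDegree (χ : L → ℂ) ^ 2) (fun _ _ => Nat.zero_le _)
      (Finset.mem_filter.2 ⟨Finset.mem_univ _, hχZ⟩ :
        (⟨χ, hχS.1⟩ : Cfsg.IrrCharacter L) ∈ _))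
    simp [Frobenius.deg_eq hχS.1 (hex χ hχS), f]
  obtain ⟨hZsum, hXsum⟩ := hsum z₁ hz₁ hz₁1
  have hXsum' : ∑ φ ∈ sX, dd φ ^ 2 + Z.index = Nat.card L := by
    have : ((∑ φ ∈ sX, dd φ ^ 2 + Z.index : ℕ) : ℂ) = (Nat.card L : ℂ) := by
      push_cast
      rw [Finset.sum_congr rfl fun φ hφ => show (dd φ : ℂ) ^ 2 = φ 1 * φ 1 by
        rw [hdd φ (hXS ((hmX _).1 hφ)), sq], hXsum]
      ring
    exact_mod_cast this
  have hZ3 : 3 * Z.index ≤ Nat.card L := by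
    rw [← Z.card_mul_index]
    refine Nat.mul_le_mul_right _ ?_
    obtain ⟨r, hr⟩ := hodd.of_dvd_nat Z.card_subgroup_dvd_card
    have := (Subgroup.one_lt_card_iff_ne_bot Z).2 hZ1
    omega
  have hsumU : 2 * e * (e * f) < ∑ φ ∈ V, dd φ ^ 2 := by
    refine lt_of_lt_of_le ?_ (Finset.sum_le_sum_of_subset hUV)
    rw [Finset.sum_union (Finset.disjoint_left.2 fun φ h1 h2 =>
      Set.disjoint_left.1 hXY ((hmX _).1 h1) ((hmY _).1 h2))]
    have hpos : 0 < ∑ φ ∈ sY, dd φ ^ 2 := Finset.sum_pos' (fun _ _ => Nat.zero_le _)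
      ⟨η₀, (hmY _).2 hη₀, by rw [hrepr _ (hYS hη₀)]; exact pow_pos (Nat.mul_pos he0 (pow_pos hp.out.pos _)) 2⟩
    have hef : e * (e * f) ≤ (e * f) ^ 2 := by
      rw [sq]; exact Nat.mul_le_mul_right _ (Nat.le_mul_of_pos_right e (pow_pos hp.out.pos _))
    have h2e : 2 * e * (e * f) = 2 * (e * (e * f)) := mul_assoc _ _ _
    omega
  obtain ⟨hτV, hτV1⟩ := TI.ind_isometry L K hC hTI (T := insert χ (↑V : Set (L → ℂ)))
    (Set.insert_subset hχS fun φ h => (hmW _).1 (hVW h))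
  have hd₀ : dd η₀ = e := Nat.cast_injective (R := ℂ) ((hdd _ (hYS hη₀)).symm.trans (hYdeg _ hη₀))
  have hcoh := feit_criterion V (fun ξ h => hirrS ξ ((hmW _).1 (hVW h))) hχS.1 hχV dd (hdd χ hχS)
    (fun ξ h => hdd ξ ((hmW _).1 (hVW h))) hτV hτV1 hVcoh
    (hUV (Finset.mem_union_right _ ((hmY _).2 hη₀)))
    (by rw [hd₀, hrepr χ hχS]; exact Dvd.intro _ rfl)
    (by rw [hd₀, hrepr χ hχS]; exact hsumU)
  have hmem : insert χ V ∈ 𝒳 := Finset.mem_filter.2 ⟨Finset.mem_powerset.2 (Finset.insert_subset hχ hVW),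
    hUV.trans (Finset.subset_insert _ _), by rw [Finset.coe_insert]; exact hcoh⟩
  have := hmax _ hmem
  rw [Finset.card_insert_of_notMem hχV] at this
  omega

end Cfsg.Agent.OddChar.Coherence.Sibley
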