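import Cfsg.Agent.OddChar.Coherence.Basic

/-!
# Coherence systems: extension by a pair, equal degrees
-/

set_option linter.style.haveILetI false
set_option linter.unusedSectionVars false

namespace Cfsg.Agent.OddChar.Coherence

open Cfsg.Agent.Characters Cfsg.Agent.OddChar.Isometry
open scoped ComplexConjugate

universe u v

variable {L : Type u} [Group L] [Fintype L] {G : Type v} [Group G] [Fintype G]

/-- The orthogonal projection on an orthonormal set. -/
noncomputable def part (T : Finset (G → ℂ)) (v : G → ℂ) : G → ℂ :=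
  ∑ a ∈ T, Cfsg.classInner v a • a

theorem part_neg (T : Finset (G → ℂ)) (v : G → ℂ) : part T (-v) = -part T v := by
  simp only [part, classInner_neg_left, neg_smul, Finset.sum_neg_distrib]

section Part

variable {T : Finset (G → ℂ)}
  (hT : ∀ a ∈ T, ∀ b ∈ T, a ≠ b → Cfsg.classInner a b = 0)
  (hT1 : ∀ a ∈ T, Cfsg.classInner a a = 1)

include hT hT1

theorem inner_part {a : G → ℂ} (ha : a ∈ T) (v : G → ℂ) :
    Cfsg.classInner (part T v) a = Cfsg.classInner v a := by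
  rw [part, classInner_sum_left, Finset.sum_eq_single a, classInner_smul_left, hT1 a ha, mul_one]
  · intro b hb hba
    rw [classInner_smul_left, hT b hb a ha hba, mul_zero]
  · exact fun h => absurd ha h

theorem inner_part_sum (v : G → ℂ) :
    Cfsg.classInner (part T v) (∑ a ∈ T, a) = Cfsg.classInner v (∑ a ∈ T, a) := by
  rw [classInner_sum_right, classInner_sum_right]
  exact Finset.sum_congr rfl fun a ha => inner_part hT hT1 ha v

theorem inner_sum_self : Cfsg.classInner (∑ a ∈ T, a) (∑ a ∈ T, a) = (T.card : ℂ) := by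
  rw [classInner_sum_left]
  rw [Finset.sum_congr rfl fun a ha => (classInner_sum_right T a _).trans
    ((Finset.sum_eq_single a (fun b hb hba => hT a ha b hb (Ne.symm hba))
      (fun h => absurd ha h)).trans (hT1 a ha))]
  simp

theorem part_self (v : G → ℂ) : Cfsg.classInner (part T v) (part T v) =
    ((∑ a ∈ T, ‖Cfsg.classInner v a‖ ^ 2 : ℝ) : ℂ) := by
  conv_lhs => arg 2; rw [part]
  rw [classInner_sum_right]
  push_cast
  refine Finset.sum_congr rfl fun a ha => ?_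
  rw [classInner_smul_right, inner_part hT hT1 ha, mul_comm, Complex.mul_conj']

theorem part_residual (v : G → ℂ) : Cfsg.classInner (v - part T v) (v - part T v) =
    Cfsg.classInner v v - Cfsg.classInner (part T v) (part T v) := by
  have h0 : ∀ a ∈ T, Cfsg.classInner (v - part T v) a = 0 := fun a ha => by
    rw [classInner_sub_left, inner_part hT hT1 ha, sub_self]
  have h1 : Cfsg.classInner (v - part T v) (part T v) = 0 := by
    conv_lhs => arg 2; rw [part]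
    rw [classInner_sum_right]
    exact Finset.sum_eq_zero fun a ha => by rw [classInner_smul_right, h0 a ha, mul_zero]
  have h2 : Cfsg.classInner (part T v) v = Cfsg.classInner (part T v) (part T v) := by
    rw [classInner_sub_left, sub_eq_zero] at h1
    rw [classInner_conj_symm v (part T v), h1, ← classInner_conj_symm]
  rw [classInner_sub_right, h1, sub_zero, classInner_sub_left, h2]

theorem eq_part_of_le {v : G → ℂ}
    (h : (Cfsg.classInner v v).re ≤ ∑ a ∈ T, ‖Cfsg.classInner v a‖ ^ 2) : v = part T v := by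
  refine sub_eq_zero.1 (eq_zero_of_re_le (f := v - part T v) ?_)
  rw [part_residual hT hT1, part_self hT hT1, Complex.sub_re, Complex.ofReal_re]
  linarith

theorem part_le (v : G → ℂ) : ∑ a ∈ T, ‖Cfsg.classInner v a‖ ^ 2 ≤ (Cfsg.classInner v v).re := by
  have h := self_re_nonneg (v - part T v)
  rw [part_residual hT hT1, part_self hT hT1, Complex.sub_re, Complex.ofReal_re] at h
  linarith

end Part

/-- Integers adding up to `n` have squares adding up to at least `n`. -/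
theorem sq_bound {ι : Type*} (T : Finset ι) (c : ι → ℂ) (n : ℕ) (hc : ∀ a ∈ T, ∃ z : ℤ, c a = z)
    (hsum : ∑ a ∈ T, c a = n) :
    (n : ℝ) ≤ ∑ a ∈ T, ‖c a‖ ^ 2 ∧
      (∑ a ∈ T, ‖c a‖ ^ 2 ≤ (n : ℝ) → ∀ a ∈ T, c a = 0 ∨ c a = 1) := by
  choose! z hz using hc
  have hs : ∑ a ∈ T, z a = (n : ℤ) := by
    have : ((∑ a ∈ T, z a : ℤ) : ℂ) = ((n : ℤ) : ℂ) := by
      push_cast; rw [← hsum]; exact Finset.sum_congr rfl fun a ha => (hz a ha).symm
    exact_mod_cast this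
  have hn : ∀ a ∈ T, ‖c a‖ ^ 2 = ((z a ^ 2 : ℤ) : ℝ) := fun a ha => by
    rw [hz a ha, Complex.norm_intCast, sq_abs]; push_cast; rfl
  rw [Finset.sum_congr rfl hn, ← Int.cast_sum, ← Int.cast_natCast n]
  norm_cast
  refine ⟨hs ▸ Finset.sum_le_sum fun a _ => Int.le_self_sq (z a), fun hle a ha => ?_⟩
  have hle' : ∑ a ∈ T, z a ^ 2 ≤ ∑ a ∈ T, z a := hs.symm ▸ hle
  have heq := (Finset.sum_eq_sum_iff_of_le fun a _ => Int.le_self_sq (z a)).1
    (le_antisymm (Finset.sum_le_sum fun a _ => Int.le_self_sq (z a)) hle') a ha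
  have h2 : z a * (z a - 1) = 0 := by linear_combination -heq
  rw [hz a ha]
  rcases mul_eq_zero.1 h2 with e | e
  · exact Or.inl (by rw [e, Int.cast_zero])
  · exact Or.inr (by rw [sub_eq_zero.1 e, Int.cast_one])

theorem conjFun_conjFun {X : Type*} (χ : X → ℂ) : Cfsg.conjFun (Cfsg.conjFun χ) = χ :=
  funext fun x => Complex.conj_conj (χ x)

variable {S : Set (L → ℂ)} {τ : (L → ℂ) → (G → ℂ)} {R : (L → ℂ) → Finset (G → ℂ)}
  (hS : Cfsg.IsCoherenceSystem S τ R)

include hS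

theorem isGen_of_zspan {α : L → ℂ} (hα : α ∈ Cfsg.zspan S) : Cfsg.IsGeneralizedCharacter L α := by
  refine Submodule.span_induction (fun x hx => isGen_of_isCharacter (hS.isCharacter x hx))
    isGen_zero (fun x y _ _ => isGen_add) (fun k x _ hx => ?_) hα
  rw [← Int.cast_smul_eq_zsmul ℂ k x]; exact isGen_intSmul hx k

theorem char_ne_zero {χ : L → ℂ} (hχ : χ ∈ S) : χ ≠ 0 := fun e =>
  hS.conj_ne χ hχ (by subst e; funext x; simp [Cfsg.conjFun])

theorem norm_pos {χ : L → ℂ} (hχ : χ ∈ S) :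
    ∃ n : ℕ, 0 < n ∧ Cfsg.classInner χ χ = (n : ℂ) := by
  obtain ⟨n, hn⟩ := classInner_char_nat (hS.isCharacter χ hχ) (hS.isCharacter χ hχ)
  refine ⟨n, Nat.pos_of_ne_zero fun e => char_ne_zero hS hχ ?_, hn⟩
  exact classInner_self_eq_zero.1 (by rw [hn, e, Nat.cast_zero])

theorem inner_self_ne {χ : L → ℂ} (hχ : χ ∈ S) : Cfsg.classInner χ χ ≠ 0 := by
  obtain ⟨n, h0, hn⟩ := norm_pos hS hχ
  rw [hn]; exact Nat.cast_ne_zero.2 h0.ne'

theorem degree_pos {χ : L → ℂ} (hχ : χ ∈ S) : ∃ d : ℕ, 0 < d ∧ χ 1 = (d : ℂ) := by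
  obtain ⟨d, hd⟩ := char_one_nat (hS.isCharacter χ hχ)
  refine ⟨d, Nat.pos_of_ne_zero fun e => char_ne_zero hS hχ (funext fun g => ?_), hd⟩
  have := char_norm_le (hS.isCharacter χ hχ) g
  rw [hd, e, Nat.cast_zero, norm_zero] at this
  exact norm_le_zero_iff.1 this

theorem conj_one {χ : L → ℂ} (hχ : χ ∈ S) : Cfsg.conjFun χ 1 = χ 1 := by
  obtain ⟨d, -, hd⟩ := degree_pos hS hχ
  simp [Cfsg.conjFun, hd]

theorem conj_norm {χ : L → ℂ} (hχ : χ ∈ S) :
    Cfsg.classInner (Cfsg.conjFun χ) (Cfsg.conjFun χ) = Cfsg.classInner χ χ := by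
  obtain ⟨n, -, hn⟩ := norm_pos hS hχ
  rw [show Cfsg.conjFun χ = fun g => conj (χ g) from rfl, classInner_conj_conj, hn, map_natCast]

theorem conj_orth {χ : L → ℂ} (hχ : χ ∈ S) : Cfsg.classInner χ (Cfsg.conjFun χ) = 0 :=
  hS.orthogonal χ hχ _ (hS.conj_mem χ hχ) (hS.conj_ne χ hχ).symm

theorem diff_mem {χ : L → ℂ} (hχ : χ ∈ S) : χ - Cfsg.conjFun χ ∈ Cfsg.zspanOn S {1}ᶜ :=
  mem_zspanOn_compl_one (Submodule.sub_mem _ (mem_zS hχ) (mem_zS (hS.conj_mem χ hχ)))
    (by rw [Pi.sub_apply, conj_one hS hχ, sub_self])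

theorem orthR {χ : L → ℂ} (hχ : χ ∈ S) :
    ∀ a ∈ R χ, ∀ b ∈ R χ, a ≠ b → Cfsg.classInner a b = 0 := fun a ha b hb h => by
  classical
  rw [hS.orthonormal χ hχ a ha b hb, if_neg h]

theorem normR {χ : L → ℂ} (hχ : χ ∈ S) : ∀ a ∈ R χ, Cfsg.classInner a a = 1 := fun a ha => by
  classical
  rw [hS.orthonormal χ hχ a ha a ha, if_pos rfl]

theorem card_R {χ : L → ℂ} (hχ : χ ∈ S) {n : ℕ} (hn : Cfsg.classInner χ χ = (n : ℂ)) :
    (R χ).card = 2 * n := by
  have h := hS.isometry.2.2.1 _ (diff_mem hS hχ) _ (diff_mem hS hχ)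
  rw [hS.sum_eq χ hχ, inner_sum_self (orthR hS hχ) (normR hS hχ)] at h
  rw [classInner_sub_left, classInner_sub_right, classInner_sub_right, conj_norm hS hχ,
    conj_orth hS hχ, inner_comm_zero (conj_orth hS hχ), hn] at h
  have : ((R χ).card : ℂ) = ((2 * n : ℕ) : ℂ) := by rw [h]; push_cast; ring
  exact_mod_cast this

/-- The part along `R χ` of a virtual character with the same inner product as `χ` on
`τ (χ - conj χ)`. -/
theorem part_bound {χ : L → ℂ} (hχ : χ ∈ S) {n : ℕ} {v : G → ℂ}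
    (hv : Cfsg.IsGeneralizedCharacter G v)
    (hsum : Cfsg.classInner v (τ (χ - Cfsg.conjFun χ)) = (n : ℂ)) :
    (n : ℝ) ≤ ∑ a ∈ R χ, ‖Cfsg.classInner v a‖ ^ 2 ∧
      (∑ a ∈ R χ, ‖Cfsg.classInner v a‖ ^ 2 ≤ (n : ℝ) →
        ∀ a ∈ R χ, Cfsg.classInner v a = 0 ∨ Cfsg.classInner v a = 1) := by
  rw [hS.sum_eq χ hχ, classInner_sum_right] at hsum
  exact sq_bound _ _ n (fun a ha => classInner_gen_int hv (hS.virtual χ hχ a ha)) hsum

theorem isGen_part {χ : L → ℂ} (hχ : χ ∈ S) {v : G → ℂ} (hv : Cfsg.IsGeneralizedCharacter G v) :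
    Cfsg.IsGeneralizedCharacter G (part (R χ) v) := by
  refine isGen_sum _ _ fun a ha => ?_
  obtain ⟨z, hz⟩ := classInner_gen_int hv (hS.virtual χ hχ a ha)
  rw [hz]; exact isGen_intSmul (hS.virtual χ hχ a ha) z

/-- An extension of `τ` sends `φ` into the span of `R φ`. -/
theorem eq_part {φ : L → ℂ} (hφ : φ ∈ S) {M : Set (L → ℂ)} {σ : (L → ℂ) → (G → ℂ)}
    (hσ : Cfsg.IsLinearIsometryOn M σ) (h1 : φ ∈ M) (h2 : φ - Cfsg.conjFun φ ∈ M)
    (hσφ : σ (φ - Cfsg.conjFun φ) = τ (φ - Cfsg.conjFun φ)) : σ φ = part (R φ) (σ φ) := by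
  obtain ⟨n, -, hn⟩ := norm_pos hS hφ
  refine eq_part_of_le (orthR hS hφ) (normR hS hφ) ?_
  have hsum : Cfsg.classInner (σ φ) (τ (φ - Cfsg.conjFun φ)) = (n : ℂ) := by
    rw [← hσφ, hσ.2.2.1 _ h1 _ h2, classInner_sub_right, conj_orth hS hφ, sub_zero, hn]
  rw [hσ.2.2.1 _ h1 _ h1, hn, Complex.natCast_re]
  exact (part_bound hS hφ (hσ.2.2.2 _ h1) hsum).1

theorem inner_part_other {χ φ : L → ℂ} (hχ : χ ∈ S) (hφ : φ ∈ S) (h : φ ≠ χ)
    (h' : φ ≠ Cfsg.conjFun χ) (v : G → ℂ) {a : G → ℂ} (ha : a ∈ R χ) :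
    Cfsg.classInner (part (R φ) v) a = 0 := by
  rw [part, classInner_sum_left]
  refine Finset.sum_eq_zero fun b hb => ?_
  rw [classInner_smul_left, hS.disjoint χ hχ φ hφ (hS.orthogonal φ hφ χ hχ h)
    (hS.orthogonal φ hφ _ (hS.conj_mem χ hχ) h') b hb a ha, mul_zero]

theorem finite_mem : S.Finite := by
  refine LinearIndependent.setFinite (R := ℂ) ?_
  refine linearIndependent_iff'.2 fun t g hg j hj => ?_
  have h := congrArg (fun f => Cfsg.classInner f (j : L → ℂ)) hg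
  simp only [classInner_sum_left, classInner_smul_left, classInner_zero_left] at h
  rw [Finset.sum_eq_single j] at h
  · exact (mul_eq_zero.1 h).resolve_right (inner_self_ne hS j.2)
  · intro i _ hij
    rw [hS.orthogonal i i.2 j j.2 fun e => hij (Subtype.ext e), mul_zero]
  · exact fun h => absurd hj h

/-- S1515. -/
theorem proj_estimate {χ ψ : L → ℂ} (hχ : χ ∈ S) (h1 : Cfsg.classInner χ ψ = 0)
    (h2 : Cfsg.classInner (Cfsg.conjFun χ) ψ = 0) {τ₁ : (L → ℂ) → (G → ℂ)} {M : Set (L → ℂ)}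
    (hτ₁ : Cfsg.IsLinearIsometryOn M τ₁) (hm1 : χ - ψ ∈ M) (hm2 : χ - Cfsg.conjFun χ ∈ M)
    (hagree : τ₁ (χ - Cfsg.conjFun χ) = τ (χ - Cfsg.conjFun χ)) {n : ℕ}
    (hn : Cfsg.classInner χ χ = (n : ℂ)) :
    Cfsg.classInner (τ₁ (χ - ψ)) (τ₁ (χ - ψ)) = (n : ℂ) + Cfsg.classInner ψ ψ ∧
      Cfsg.classInner (τ₁ (χ - ψ)) (τ (χ - Cfsg.conjFun χ)) = (n : ℂ) := by
  rw [← hagree, hτ₁.2.2.1 _ hm1 _ hm1, hτ₁.2.2.1 _ hm1 _ hm2]
  simp only [classInner_sub_left, classInner_sub_right, hn, h1, inner_comm_zero h1, inner_comm_zero h2,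
    conj_orth hS hχ]
  constructor <;> ring

end Cfsg.Agent.OddChar.Coherence
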